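import Cfsg.Agent.CoprimeZJ.FixedPair

/-!
The torus of an opposite pair, its weights, and the elements `1 + (r u - u r)`, `1 + u r u`.
-/

set_option autoImplicit false
set_option linter.style.haveILetI false
set_option linter.unusedSectionVars false

namespace Cfsg.Lib.CapSylow

open Cfsg Cfsg.Lib.QuadPair Cfsg.Lib.CoprimeZJ

variable {k : Type*} [Field k] {M : Type*} [AddCommGroup M] [Module k M]

local notation "End'" => (M →ₗ[k] M)
local notation "GL'" => LinearMap.GeneralLinearGroup k M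

variable {a c b u r : M →ₗ[k] M}

/-! ### Pair projections -/

section Pair

variable (hI : Inv2 a c)

include hI

theorem pa : a * c * a = a := hI.aca
theorem pc : c * a * c = c := hI.cac

/-- the complement of the two projections -/
def zz (a c : M →ₗ[k] M) : M →ₗ[k] M := 1 - a * c - c * a

theorem pp : (a * c) * (a * c) = a * c := by rw [← mul_assoc, hI.aca]
theorem pn : (a * c) * (c * a) = 0 := by rw [mul_assoc, ← mul_assoc c c, hI.cc, zero_mul, mul_zero]
theorem np : (c * a) * (a * c) = 0 := by rw [mul_assoc, ← mul_assoc a a, hI.aa, zero_mul, mul_zero]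
theorem nn : (c * a) * (c * a) = c * a := by rw [← mul_assoc, hI.cac]

theorem pz : (a * c) * zz a c = 0 := by rw [zz, mul_sub, mul_sub, mul_one, pp hI, pn hI, sub_self, sub_zero]
theorem zp : zz a c * (a * c) = 0 := by rw [zz, sub_mul, sub_mul, one_mul, pp hI, np hI, sub_self, sub_zero]
theorem nz : (c * a) * zz a c = 0 := by rw [zz, mul_sub, mul_sub, mul_one, np hI, nn hI, sub_zero, sub_self]
theorem zn : zz a c * (c * a) = 0 := by rw [zz, sub_mul, sub_mul, one_mul, pn hI, nn hI, sub_zero, sub_self]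
theorem zzz : zz a c * zz a c = zz a c := by
  conv_lhs => arg 2; rw [zz]
  rw [mul_sub, mul_sub, mul_one, zp hI, zn hI, sub_zero, sub_zero]

theorem za : zz a c * a = 0 := by
  calc zz a c * a = zz a c * (a * c * a) := by rw [hI.aca]
    _ = 0 := by rw [← mul_assoc, zp hI, zero_mul]
theorem az : a * zz a c = 0 := by
  calc a * zz a c = a * c * a * zz a c := by rw [hI.aca]
    _ = 0 := by rw [mul_assoc a c a, mul_assoc, nz hI, mul_zero]
theorem zc : zz a c * c = 0 := by
  calc zz a c * c = zz a c * (c * a * c) := by rw [hI.cac]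
    _ = 0 := by rw [← mul_assoc, zn hI, zero_mul]
theorem cz : c * zz a c = 0 := by
  calc c * zz a c = c * a * c * zz a c := by rw [hI.cac]
    _ = 0 := by rw [mul_assoc c a c, mul_assoc, pz hI, mul_zero]

omit hI in
theorem one_split : (1 : End') = a * c + c * a + zz a c := by rw [zz]; abel

omit hI in
theorem zz_swap : zz c a = zz a c := by rw [zz, zz]; abel

omit hI in
theorem split (b : End') : b = a * c * b * (a * c) + a * c * b * (c * a) + a * c * b * zz a c +
    (c * a * b * (a * c) + c * a * b * (c * a) + c * a * b * zz a c) +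
    (zz a c * b * (a * c) + zz a c * b * (c * a) + zz a c * b * zz a c) := by
  conv_lhs => rw [← one_mul b, ← mul_one (1 * b), one_split (a := a) (c := c)]
  noncomm_ring

/-- the torus element `λ ac + λ⁻¹ ca + Z` -/
def tor (t : kˣ) : GL' where
  val := (t : k) • (a * c) + (↑t⁻¹ : k) • (c * a) + zz a c
  inv := (↑t⁻¹ : k) • (a * c) + (t : k) • (c * a) + zz a c
  val_inv := by
    simp only [add_mul, mul_add, smul_mul_assoc, mul_smul_comm, pp hI, pn hI, np hI, nn hI, pz hI, zp hI, nz hI,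
      zn hI, zzz hI, smul_zero, smul_smul, add_zero, zero_add, Units.mul_inv, Units.inv_mul, one_smul]
    exact one_split.symm
  inv_val := by
    simp only [add_mul, mul_add, smul_mul_assoc, mul_smul_comm, pp hI, pn hI, np hI, nn hI, pz hI, zp hI, nz hI,
      zn hI, zzz hI, smul_zero, smul_smul, add_zero, zero_add, Units.mul_inv, Units.inv_mul, one_smul]
    exact one_split.symm

theorem tor_val (t : kˣ) : (tor hI t : End') = (t : k) • (a * c) + (↑t⁻¹ : k) • (c * a) + zz a c := rfl
theorem tor_inv (t : kˣ) : (↑(tor hI t)⁻¹ : End') = (↑t⁻¹ : k) • (a * c) + (t : k) • (c * a) + zz a c := rfl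

theorem tor_swap (t : kˣ) : tor hI.symm t⁻¹ = tor hI t := Units.ext (by
  rw [tor_val, tor_val, inv_inv, zz_swap, add_comm ((↑t⁻¹ : k) • (c * a))])

theorem tor_left (t : kˣ) : (a * c) * (tor hI t : End') = (t : k) • (a * c) ∧
    (c * a) * (tor hI t : End') = (↑t⁻¹ : k) • (c * a) ∧ zz a c * (tor hI t : End') = zz a c := by
  refine ⟨?_, ?_, ?_⟩ <;>
  simp only [tor_val, mul_add, mul_smul_comm, pp hI, pn hI, np hI, nn hI, pz hI, zp hI, nz hI, zn hI, zzz hI,
    smul_zero, add_zero, zero_add]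

theorem tor_right (t : kˣ) : (↑(tor hI t)⁻¹ : End') * (a * c) = (↑t⁻¹ : k) • (a * c) ∧
    (↑(tor hI t)⁻¹ : End') * (c * a) = (t : k) • (c * a) ∧ (↑(tor hI t)⁻¹ : End') * zz a c = zz a c := by
  refine ⟨?_, ?_, ?_⟩ <;>
  simp only [tor_inv, add_mul, smul_mul_assoc, pp hI, pn hI, np hI, nn hI, pz hI, zp hI, nz hI, zn hI, zzz hI,
    smul_zero, add_zero, zero_add]

omit hI in
theorem comp_zero {g : GL'} {x X Y : End'} {α β μ : k} (hx : X * (g : End') = α • X)
    (hy : (↑g⁻¹ : End') * Y = β • Y) (hb : cj g x = μ • x) (hne : α * β ≠ μ) : X * x * Y = 0 := by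
  have h := congrArg (fun e => X * e * Y) hb
  simp only [cj, ← mul_assoc, mul_smul_comm, smul_mul_assoc, hx] at h
  rw [mul_assoc _ (↑g⁻¹ : End') Y, hy, mul_smul_comm, smul_smul] at h
  rw [← sub_eq_zero, ← sub_smul, smul_eq_zero] at h
  exact h.resolve_left (sub_ne_zero.mpr hne)

/-- weight one -/
def Pure (a c b : M →ₗ[k] M) : Prop := a * b = 0 ∧ b * a = 0 ∧ zz a c * b * zz a c = 0 ∧ c * b * c = 0

theorem Pure.eq (hb : Pure a c b) : b = a * c * b * zz a c + zz a c * b * (c * a) := by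
  obtain ⟨h1, h2, h3, h4⟩ := hb
  have e1 : c * a * b = 0 := by rw [mul_assoc, h1, mul_zero]
  have e2 : ∀ x : End', x * b * (a * c) = 0 := fun x => by rw [← mul_assoc (x * b), mul_assoc x b a, h2, mul_zero, zero_mul]
  have e3 : a * c * b * (c * a) = 0 := by
    rw [show a * c * b * (c * a) = a * (c * b * c) * a by simp only [mul_assoc], h4, mul_zero, zero_mul]
  conv_lhs => rw [split (a := a) (c := c) b]
  rw [e2, e2, e2, e3, h3, e1]
  simp

theorem Pure.eigen (hb : Pure a c b) (t : kˣ) : cj (tor hI t) b = (t : k) • b := by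
  have e := Pure.eq hI hb
  conv_lhs => rw [e]
  conv_rhs => rw [e]
  have h1 : (tor hI t : End') * (a * c) = (t : k) • (a * c) := by
    simp only [tor_val, add_mul, smul_mul_assoc, pp hI, np hI, zp hI, smul_zero, add_zero]
  have h2 : (tor hI t : End') * zz a c = zz a c := by
    simp only [tor_val, add_mul, smul_mul_assoc, pz hI, nz hI, zzz hI, smul_zero, zero_add]
  have h3 : (c * a) * (↑(tor hI t)⁻¹ : End') = (t : k) • (c * a) := by
    simp only [tor_inv, mul_add, mul_smul_comm, np hI, nn hI, nz hI, smul_zero, zero_add, add_zero]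
  have h4 : zz a c * (↑(tor hI t)⁻¹ : End') = zz a c := by
    simp only [tor_inv, mul_add, mul_smul_comm, zp hI, zn hI, zzz hI, smul_zero, zero_add, add_zero]
  simp only [cj, mul_add, add_mul]
  rw [show (tor hI t : End') * (a * c * b * zz a c) * (↑(tor hI t)⁻¹ : End') =
    ((tor hI t : End') * (a * c)) * b * (zz a c * (↑(tor hI t)⁻¹ : End')) by simp only [mul_assoc],
    show (tor hI t : End') * (zz a c * b * (c * a)) * (↑(tor hI t)⁻¹ : End') =
    ((tor hI t : End') * zz a c) * b * ((c * a) * (↑(tor hI t)⁻¹ : End')) by simp only [mul_assoc],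
    h1, h2, h3, h4, smul_mul_assoc, smul_mul_assoc, mul_smul_comm, smul_add]

theorem pure_of_eigen {t : kˣ} (ht : ∀ j : ℕ, 1 ≤ j → j ≤ 3 → (t : k) ^ j ≠ 1)
    (hb : cj (tor hI t) b = (t : k) • b) : Pure a c b := by
  obtain ⟨lP, lN, lZ⟩ := tor_left hI t
  obtain ⟨rP, rN, rZ⟩ := tor_right hI t
  have lZ' : zz a c * (tor hI t : End') = (1 : k) • zz a c := by rw [one_smul]; exact lZ
  have rZ' : (↑(tor hI t)⁻¹ : End') * zz a c = (1 : k) • zz a c := by rw [one_smul]; exact rZ
  have hm : (↑t⁻¹ : k) * t = 1 := Units.inv_mul t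
  have hm' : (t : k) * ↑t⁻¹ = 1 := Units.mul_inv t
  have t0 : (t : k) ≠ 0 := t.ne_zero
  have n1 := ht 1 le_rfl (by omega)
  have n2 := ht 2 (by omega) (by omega)
  have n3 := ht 3 (by omega) le_rfl
  rw [pow_one] at n1
  have PP := comp_zero lP rP hb (by rw [hm']; exact Ne.symm n1)
  have PN := comp_zero lP rN hb (by
    intro e; exact n1 (mul_left_cancel₀ t0 (e.trans (mul_one _).symm)))
  have NP := comp_zero lN rP hb (by
    intro e
    refine n3 ?_
    linear_combination ((t : k) * t) * (-e) + (1 + (t : k) * ↑t⁻¹) * hm')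
  have NN := comp_zero lN rN hb (by rw [hm]; exact Ne.symm n1)
  have NZ := comp_zero lN rZ' hb (by
    intro e
    refine n2 ?_
    linear_combination (-(t : k)) * e + hm')
  have ZP := comp_zero lZ' rP hb (by
    intro e
    refine n2 ?_
    linear_combination (-(t : k)) * e + hm')
  have ZZ := comp_zero lZ' rZ' hb (by rw [one_mul]; exact Ne.symm n1)
  have hN : c * a * b = 0 := by
    rw [← mul_one (c * a * b), one_split (a := a) (c := c), mul_add, mul_add, NP, NN, NZ]; simp
  have hP : b * (a * c) = 0 := by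
    rw [← one_mul (b * (a * c)), one_split (a := a) (c := c), add_mul, add_mul, ← mul_assoc, ← mul_assoc (c * a),
      ← mul_assoc (zz a c), PP, NP, ZP]
    simp
  refine ⟨?_, ?_, ZZ, ?_⟩
  · calc a * b = a * (c * a * b) := by rw [← mul_assoc, ← mul_assoc, hI.aca]
      _ = 0 := by rw [hN, mul_zero]
  · calc b * a = b * (a * c) * a := by rw [mul_assoc, hI.aca]
      _ = 0 := by rw [hP, zero_mul]
  · calc c * b * c = c * (a * c * b * (c * a)) * c := by
          conv_lhs => rw [← hI.cac]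
          simp only [mul_assoc]
      _ = 0 := by rw [PN, mul_zero, zero_mul]

omit hI in
theorem Pure.mul_comm' (hb : Pure a c b) : a * b = b * a := hb.1.trans hb.2.1.symm

theorem fixed_of_commute (h1 : a * b = b * a) (h2 : c * b = b * c) (t : kˣ) : cj (tor hI t) b = b := by
  have hP : Commute (a * c) b := Commute.mul_left (h1 : Commute a b) (h2 : Commute c b)
  have hN : Commute (c * a) b := Commute.mul_left (h2 : Commute c b) (h1 : Commute a b)
  have hZ : Commute (zz a c) b := ((Commute.one_left b).sub_left hP).sub_left hN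
  have : Commute (tor hI t : End') b := by
    rw [tor_val]
    exact ((hP.smul_left _).add_left (hN.smul_left _)).add_left hZ
  rw [cj, this.eq, mul_assoc, Units.mul_inv, mul_one]

theorem diag_of_fixed {t : kˣ} (ht : ∀ j : ℕ, 1 ≤ j → j ≤ 3 → (t : k) ^ j ≠ 1)
    (hb : cj (tor hI t) b = b) :
    a * c * b * (c * a) = 0 ∧ a * c * b * zz a c = 0 ∧ c * a * b * (a * c) = 0 ∧
      c * a * b * zz a c = 0 ∧ zz a c * b * (a * c) = 0 ∧ zz a c * b * (c * a) = 0 := by
  obtain ⟨lP, lN, lZ⟩ := tor_left hI t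
  obtain ⟨rP, rN, rZ⟩ := tor_right hI t
  have lZ' : zz a c * (tor hI t : End') = (1 : k) • zz a c := by rw [one_smul]; exact lZ
  have rZ' : (↑(tor hI t)⁻¹ : End') * zz a c = (1 : k) • zz a c := by rw [one_smul]; exact rZ
  have hb' : cj (tor hI t) b = (1 : k) • b := by rw [one_smul]; exact hb
  have hm : (↑t⁻¹ : k) * t = 1 := Units.inv_mul t
  have n1 := ht 1 le_rfl (by omega)
  have n2 := ht 2 (by omega) (by omega)
  rw [pow_one] at n1
  have m1 : (↑t⁻¹ : k) ≠ 1 := fun e => n1 (by rwa [e, one_mul] at hm)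
  refine ⟨comp_zero lP rN hb' (by rwa [← pow_two]), comp_zero lP rZ' hb' (by rwa [mul_one]),
    comp_zero lN rP hb' ?_, comp_zero lN rZ' hb' (by rwa [mul_one]), comp_zero lZ' rP hb' (by rwa [one_mul]),
    comp_zero lZ' rN hb' (by rwa [one_mul])⟩
  intro e
  refine n2 ?_
  linear_combination (-(t : k) * t) * e + (1 + (↑t⁻¹ : k) * t) * hm

end Pair

/-! ### Scalar families -/

section Gens

variable {p : ℕ} [Fact p.Prime] [Module (ZMod p) M] [FiniteDimensional k M] [FiniteDimensional (ZMod p) M]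

local notation "Endp" => (M →ₗ[ZMod p] M)
local notation "GLp" => LinearMap.GeneralLinearGroup (ZMod p) M

theorem xu_congr {x y : End'} {hx : x * x = 0} {hy : y * y = 0} (h : x = y) : xu x hx = xu y hy :=
  Units.ext (by rw [xu_val, xu_val, h])

theorem xu_add {x y : End'} (hx : x * x = 0) (hy : y * y = 0) (hxy : x * y = 0) (h : (x + y) * (x + y) = 0) :
    xu x hx * xu y hy = xu (x + y) h :=
  Units.ext (by
    rw [Units.val_mul, xu_val, xu_val, xu_val, show (1 + x) * (1 + y) = 1 + (x + y) + x * y by noncomm_ring, hxy,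
      add_zero])

theorem xu_pow {x : End'} (hx : x * x = 0) (n : ℕ) :
    xu x hx ^ n = xu ((n : k) • x) (smul_sq_zero _ hx) := by
  induction n with
  | zero => exact Units.ext (by rw [pow_zero, xu_val, Nat.cast_zero, zero_smul, add_zero, Units.val_one])
  | succ n ih =>
    rw [pow_succ, ih, xu_add _ hx (by rw [smul_mul_assoc, hx, smul_zero])
      (by
        rw [show (n : k) • x + x = ((n : k) + 1) • x by rw [add_smul, one_smul]]
        exact smul_sq_zero _ hx)]
    exact xu_congr (by rw [Nat.cast_succ, add_smul, one_smul])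

theorem smul_mem_of_mem {x : Endp} (hx : x * x = 0) {E : Subgroup GLp} (h : xu x hx ∈ E) (s : ZMod p) :
    xu (s • x) (smul_sq_zero s hx) ∈ E := by
  have := E.pow_mem h s.val
  rw [xu_pow] at this
  rwa [xu_congr (k := ZMod p) (x := ((s.val : ℕ) : ZMod p) • x) (y := s • x) (hy := smul_sq_zero s hx)
    (by rw [ZMod.natCast_zmod_val])] at this

theorem fam_of_mem {x : Endp} (hx : x * x = 0) {E : Subgroup GLp} (h : xu x hx ∈ E) : Fam E x :=
  ⟨hx, fun s => ⟨_, smul_mem_of_mem hx h s, xu_val _ _⟩⟩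

/-- the torus lies in the group of the pair -/
theorem tor_eq {a c : End'} (hI : Inv2 a c) (hI' : ∀ t : kˣ, Inv2 ((t : k) • a) ((↑t⁻¹ : k) • c)) (t : kˣ) :
    tor hI t = weyl (hI' t).aa (hI' t).cc * (weyl hI.aa hI.cc)⁻¹ := by
  refine Units.ext ?_
  rw [Units.val_mul, (weyl_val (hI' t)).1, (weyl_val hI).2, tor_val]
  simp only [smul_mul_assoc, mul_smul_comm, smul_smul, Units.mul_inv, Units.inv_mul, one_smul]
  rw [show (1 : End') - (a * c + c * a) = zz a c by rw [zz]; abel]
  simp only [add_mul, sub_mul, mul_add, mul_sub, smul_mul_assoc, zzz hI, za hI, az hI, zc hI, cz hI, hI.aa, hI.cc,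
    smul_zero, add_zero, zero_add, sub_zero, zero_sub, mul_zero]
  abel

theorem inv2_smul {a c : End'} (hI : Inv2 a c) (t : kˣ) : Inv2 ((t : k) • a) ((↑t⁻¹ : k) • c) := by
  refine ⟨smul_sq_zero _ hI.aa, smul_sq_zero _ hI.cc, ?_, ?_⟩ <;>
  simp only [smul_mul_assoc, mul_smul_comm, smul_smul, hI.aca, hI.cac] <;> congr 1 <;> simp

theorem tor_mem {a c : Endp} (hI : Inv2 a c) {E : Subgroup GLp} (ha : xu a hI.aa ∈ E) (hc : xu c hI.cc ∈ E)
    (t : (ZMod p)ˣ) : tor hI t ∈ E := by
  rw [tor_eq hI (inv2_smul hI) t]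
  exact mul_mem (weyl_mem _ _ (smul_mem_of_mem hI.aa ha _) (smul_mem_of_mem hI.cc hc _))
    (inv_mem (weyl_mem _ _ ha hc))

/-! ### The two commutators -/

/-- `1 + e + W` and `1 - e + W` give both -/
theorem two_mem (hp : p ≠ 2) {e W : Endp} (hee : e * e = 0) (hWW : W * W = 0) (heW : e * W = 0) (hWe : W * e = 0)
    {E : Subgroup GLp} {g g' : GLp} (hg : g ∈ E) (hg' : g' ∈ E) (hgv : (g : Endp) = 1 + e + W)
    (hgv' : (g' : Endp) = 1 - e + W) : xu e hee ∈ E ∧ xu W hWW ∈ E := by
  have h2 : g * g' = xu ((2 : ZMod p) • W) (smul_sq_zero _ hWW) := Units.ext (by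
    rw [Units.val_mul, hgv, hgv', xu_val, two_smul,
      show (1 + e + W) * (1 - e + W) = 1 + (W + W) - e * e + e * W - W * e + W * W by noncomm_ring,
      hee, heW, hWe, hWW]
    simp)
  have h2' : xu ((2 : ZMod p) • W) (smul_sq_zero _ hWW) ∈ E := h2 ▸ mul_mem hg hg'
  have h20 : (2 : ZMod p) ≠ 0 := fun h => hp (by
    have := (ZMod.natCast_eq_zero_iff 2 p).mp (by exact_mod_cast h)
    exact ((Nat.prime_dvd_prime_iff_eq (Fact.out : p.Prime) Nat.prime_two).mp this))
  have hW : xu W hWW ∈ E := by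
    have := smul_mem_of_mem _ h2' (2 : ZMod p)⁻¹
    rwa [xu_congr (x := (2 : ZMod p)⁻¹ • (2 : ZMod p) • W) (y := W) (hy := hWW)
      (by rw [smul_smul, inv_mul_cancel₀ h20, one_smul])] at this
  refine ⟨?_, hW⟩
  have e' : xu e hee = g * (xu W hWW)⁻¹ := Units.ext (by
    rw [Units.val_mul, hgv, xu_val, xu_inv,
      show (1 + e + W) * (1 - W) = 1 + e - e * W - W * W by noncomm_ring, heW, hWW, sub_zero, sub_zero])
  exact e' ▸ mul_mem hg (inv_mem hW)

theorem comm_value (hu : u * u = 0) (hr : r * r = 0) (hrur : r * u * r = 0) :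
    ((xu r hr * xu u hu * (xu r hr)⁻¹ * (xu u hu)⁻¹ : GL') : End') = 1 + (r * u - u * r) + u * r * u := by
  rw [Units.val_mul, Units.val_mul, Units.val_mul, xu_val, xu_val, xu_inv, xu_inv,
    show (1 + r) * (1 + u) * (1 - r) * (1 - u) = 1 - r * r - u * u + (r * u - u * r) + u * r * u
      - r * u * r + (r * r) * u - r * (u * u) + (r * u * r) * u by noncomm_ring, hr, hu, hrur]
  simp

/-- `e = r u - u r` and `W = u r u` -/
theorem lw (hp : p ≠ 2) {u r : Endp} (hu : u * u = 0) (hr : r * r = 0) (hrur : r * u * r = 0)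
    {E : Subgroup GLp} (h1 : xu r hr * xu u hu * (xu r hr)⁻¹ * (xu u hu)⁻¹ ∈ E)
    (h2 : xu r hr * (xu u hu)⁻¹ * (xu r hr)⁻¹ * xu u hu ∈ E) :
    ∃ (he : (r * u - u * r) * (r * u - u * r) = 0) (hW : u * r * u * (u * r * u) = 0),
      xu _ he ∈ E ∧ xu _ hW ∈ E := by
  have hW : u * r * u * (u * r * u) = 0 := by
    rw [show u * r * u * (u * r * u) = u * r * (u * u) * (r * u) by simp only [mul_assoc], hu, mul_zero, zero_mul]
  have he : (r * u - u * r) * (r * u - u * r) = 0 := by
    rw [show (r * u - u * r) * (r * u - u * r) = r * u * r * u - r * (u * u) * r - u * (r * r) * u + u * (r * u * r)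
      by noncomm_ring, hrur, hu, hr]
    simp
  have heW : (r * u - u * r) * (u * r * u) = 0 := by
    rw [show (r * u - u * r) * (u * r * u) = r * (u * u) * (r * u) - u * (r * u * r) * u by noncomm_ring, hu, hrur]
    simp
  have hWe : u * r * u * (r * u - u * r) = 0 := by
    rw [show u * r * u * (r * u - u * r) = u * (r * u * r) * u - u * r * (u * u) * r by noncomm_ring, hu, hrur]
    simp
  have hu' : (-u) * (-u) = 0 := by rw [neg_mul_neg, hu]
  have hrur' : r * (-u) * r = 0 := by rw [mul_neg, neg_mul, hrur, neg_zero]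
  have e2 : (xu u hu)⁻¹ = xu (-u) hu' := Units.ext (by rw [xu_inv, xu_val, sub_eq_add_neg])
  refine ⟨he, hW, two_mem hp he hW heW hWe h1 h2 (comm_value hu hr hrur) ?_⟩
  rw [show xu r hr * (xu u hu)⁻¹ * (xu r hr)⁻¹ * xu u hu =
    xu r hr * xu (-u) hu' * (xu r hr)⁻¹ * (xu (-u) hu')⁻¹ by rw [← e2, inv_inv], comm_value hu' hr hrur']
  simp only [mul_neg, neg_mul, neg_neg, sub_neg_eq_add]
  abel

theorem rk_uru (u r : End') : rk (u * r * u) ≤ rk r := by
  refine (Submodule.finrank_mono (range_mul_le (u * r) u)).trans ?_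
  rw [rk, range_mul]
  exact Submodule.finrank_map_le _ _

end Gens

end Cfsg.Lib.CapSylow
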