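import Cfsg.Agent.CapSylow.Key
import Cfsg.Agent.CoprimeZJ.Stable
import Cfsg.Agent.SolvStruct.KInfCore
import Cfsg.Agent.Components.KInf.Quadratic

/-!
A `p`-subgroup whose elements lie in all maximal invariant `p`-subgroups has its lower K-infinity subgroup normal.
-/

set_option autoImplicit false
set_option linter.style.haveILetI false
set_option linter.unusedSectionVars false

namespace Cfsg.Lib.CapSylow

open Cfsg Cfsg.Lib.QuadPair Cfsg.Lib.CoprimeZJ
open Subgroup
open scoped commutatorElement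

universe u

variable {G : Type u} [Group G] [Finite G] {p : ℕ} [Fact p.Prime]

/-- if the elements of `P` acting quadratically on chief factors below `O_p` act trivially there -/
theorem eq_core_of_trivial (P : Subgroup G) (hP : IsPGroup p P) (hTP : Cfsg.pCore p G ≤ P)
    (hc : centralizer (Cfsg.pCore p G : Set G) ≤ Cfsg.pCore p G)
    (htriv : ∀ b ∈ P, ∀ U V : Subgroup G, Cfsg.IsChiefFactor U V → U ≤ Cfsg.pCore p G →
      ⁅⁅U, zpowers b⁆, zpowers b⁆ ≤ V → ∀ u ∈ U, b * u * b⁻¹ * u⁻¹ ∈ V) :
    Cfsg.inducedFunctor Cfsg.kInfLower P = Cfsg.inducedFunctor Cfsg.kInfLower (Cfsg.pCore p G) := by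
  set T := Cfsg.pCore p G
  have hTp : IsPGroup p T := Cfsg.Lib.Components.isPGroup_pCore p
  obtain ⟨A₀, hchar, h1, h2, h3⟩ := Cfsg.Lib.SolvStruct.exists_critical hTp
  haveI := hchar
  set A := A₀.map T.subtype with hA
  have hAT : A ≤ T := map_subtype_le _
  haveI : A.Normal := inferInstance
  have hAp : IsPGroup p A := hTp.to_le hAT
  have hA2₀ : ⁅⁅A₀, A₀⁆, A₀⁆ = ⊥ := by
    rw [commutator_eq_bot_iff_le_centralizer]
    refine le_trans ?_ h1
    rw [← map_subtype_commutator]
    exact map_mono (Cfsg.Lib.PGroups.commutator_le_frattini (hTp.to_subgroup A₀))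
  have hA2 : ⁅⁅A, A⁆, A⁆ = ⊥ := by rw [← map_commutator, ← map_commutator, hA2₀, Subgroup.map_bot]
  have hTA : ⁅T, A⁆ ≤ KInf.zc A := by
    have h := map_mono (f := T.subtype) h2
    rw [map_commutator, ← MonoidHom.range_eq_map, range_subtype, commutator_comm] at h
    exact h.trans (KInf.map_zc T.subtype_injective A₀).le
  have hCA : centralizer (A : Set G) ≤ T := by
    refine Cfsg.Lib.Components.le_pCore fun ⟨x, hx⟩ => ?_
    obtain ⟨a, y, -, hy, hay, ⟨j, hj⟩, hcop⟩ := Cfsg.Lib.Transfer.exists_pPart p x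
    have hyA : y ∈ centralizer (A : Set G) := zpowers_le.mpr hx hy
    let φ : MulAut T := MulAut.conjNormal y
    have hφ : φ = 1 := Cfsg.Agent.S0121.result hTp A₀ hchar h1 h2 h3 φ
      (hcop.coprime_dvd_left (orderOf_map_dvd MulAut.conjNormal y)) fun z hz => Subtype.ext (by
        show ((MulAut.conjNormal y z : T) : G) = z
        rw [MulAut.conjNormal_apply, ← mem_centralizer_iff.mp hyA (z : G) (mem_map_of_mem T.subtype hz),
          mul_inv_cancel_right])
    have hyT : y ∈ T := hc (mem_centralizer_iff.mpr fun z hz => by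
      have h5 : ((MulAut.conjNormal y (⟨z, hz⟩ : T) : T) : G) = z := by
        rw [show MulAut.conjNormal y = φ from rfl, hφ]; rfl
      rw [MulAut.conjNormal_apply] at h5
      conv_lhs => rw [← h5]
      group)
    obtain ⟨i, hi⟩ := IsPGroup.iff_orderOf.mp hTp ⟨y, hyT⟩
    rw [Subgroup.orderOf_mk] at hi
    have hy1 : y = 1 := orderOf_eq_one_iff.mp (Nat.eq_one_of_dvd_coprimes (hcop.pow_right i) dvd_rfl hi.dvd)
    refine ⟨j, Subtype.ext ?_⟩
    show x ^ p ^ j = 1
    rw [← hay, hy1, mul_one, ← hj, pow_orderOf_eq_one]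
  refine KInfCore.induced_eq_core P hP hTP A hAT hA2 hTA
    (fun A' hA'P hA'2 hAN h3' h4' => KInf.climb hAp hCA fun U V _ _ hUV hUA hZ _ b hb =>
      Or.inr (htriv b (hA'P hb) U V hUV (hUA.trans hAT) (by
        have hbA : zpowers b ≤ A' := zpowers_le.mpr hb
        rcases hZ with hZ | hZ
        · refine le_trans ?_ (bot_le (a := V))
          rw [← h4']
          exact commutator_mono (commutator_mono hZ hbA) hbA
        · refine le_trans ?_ hZ
          refine le_inf ((commutator_mono (commutator_mono hUA le_rfl) le_rfl).trans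
            ((commutator_mono (commutator_le_left A _) le_rfl).trans (commutator_le_left A _))) ?_
          refine le_trans (commutator_mono ((commutator_mono hUA hbA).trans
            (le_normalizer_iff_commutator_le_right.mp hAN)) hbA) ?_
          exact le_centralizer_iff.mp (commutator_eq_bot_iff_le_centralizer.mp h3'))))
    (fun B hBP hB2 hAB htest => ?_)
  have hAzB : A ≤ normalizer (KInf.zc B : Set G) := hAB.trans (Cfsg.Lib.Thompson.normalizer_le_normalizer_center B)
  have hzBT : KInf.zc B ≤ T := KInf.climb hAp hCA fun U V _ _ hUV hUA _ _ z hz =>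
    Or.inr (htriv z (hBP (KInf.zc_le B hz)) U V hUV (hUA.trans hAT) (by
      refine le_trans ?_ (bot_le (a := V))
      rw [← KInf.commutator_zc_self B]
      refine commutator_mono ?_ (zpowers_le.mpr (KInf.zc_le B hz))
      exact (commutator_mono hUA (zpowers_le.mpr hz)).trans (le_normalizer_iff_commutator_le_right.mp hAzB)))
  have hBz : ⁅KInf.zc B, A⁆ ≤ KInf.zc A := (commutator_mono hzBT le_rfl).trans hTA
  refine KInf.climb hAp hCA fun U V _ _ hUV hUA hZ hBV b hb => Or.inr ?_
  rcases hZ with hZ | hZ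
  · refine htriv b (hBP hb) U V hUV (hUA.trans hAT) (le_trans ?_ (bot_le (a := V)))
    rw [← (KInf.cand_of_test hAB hB2 htest hb).2]
    exact commutator_mono (commutator_mono hZ le_rfl) le_rfl
  · rcases KInf.quad_above hAp hA2 hB2 hAB hBz htest hZ hUV.1 hUA hUV.2.2.2 hBV b hb with h | h
    · exact htriv b (hBP hb) U V hUV (hUA.trans hAT) h
    · exact h

/-- a quadratic element of all invariant Sylow subgroups centralises a minimal normal `p`-subgroup -/
theorem centralizes_minimal {Y : Type u} [Group Y] [Finite Y] (hp5 : 5 ≤ p) {N A : Subgroup Y} [N.Normal]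
    (hcop : (Nat.card N).Coprime (Nat.card A)) {V : Subgroup Y} [V.Normal]
    (hVp : IsPGroup p V) (hne : V ≠ ⊥) (hmin : ∀ W : Subgroup Y, W.Normal → W ≤ V → W = ⊥ ∨ W = V)
    {b : Y} (hb : InAll p A N b) (hq : ⁅⁅V, zpowers b⁆, zpowers b⁆ = ⊥) : b ∈ centralizer (V : Set Y) := by
  classical
  have hV : Cfsg.IsElementaryAbelian p V := by
    obtain ⟨W, hWn, hWV, hWne, hW⟩ := exists_elementary_le hVp hne
    rw [← (hmin W hWn hWV).resolve_left hWne]
    exact hW
  haveI := hV.1
  letI : CommGroup V := { mul_comm := fun a b => IsMulCommutative.is_comm.comm a b }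
  haveI : Nontrivial V := (Subgroup.nontrivial_iff_ne_bot V).mpr hne
  letI : Module (ZMod p) (Additive V) := AddCommGroup.zmodModule (n := p) fun v =>
    congrArg Additive.ofMul (Subtype.ext (hV.2 _ (Additive.toMul v).2))
  haveI : Finite (Additive V) := inferInstanceAs (Finite V)
  haveI : Module.Finite (ZMod p) (Additive V) := Module.Finite.of_finite
  haveI : FiniteDimensional (ZMod p) (Additive V) := Module.Finite.of_finite
  set f := (toGL (p := p) V).comp (MulAut.conjNormal (H := V)) with hf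
  have hfapp : ∀ g (v : Additive V), (f g : Additive V →ₗ[ZMod p] Additive V) v =
      Additive.ofMul (MulAut.conjNormal g (Additive.toMul v)) := fun g v => rfl
  set x₀ : Additive V →ₗ[ZMod p] Additive V := (f b : Additive V →ₗ[ZMod p] Additive V) - 1 with hx₀
  have hq' : ∀ v : V, MulAut.conjNormal b (MulAut.conjNormal b v * v⁻¹) = MulAut.conjNormal b v * v⁻¹ := by
    intro v
    refine Subtype.ext ?_
    rw [MulAut.conjNormal_apply]
    simp only [Subgroup.coe_mul, Subgroup.coe_inv, MulAut.conjNormal_apply]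
    have h2 : ⁅⁅(v : Y), b⁆, b⁆ = 1 := by
      have := commutator_mem_commutator (commutator_mem_commutator v.2 (mem_zpowers b)) (mem_zpowers b)
      rwa [hq, mem_bot] at this
    have h4 := (show Commute ⁅(v : Y), b⁆ b from commutatorElement_eq_one_iff_commute.mp h2).inv_left
    rw [commutatorElement_inv, commutatorElement_def] at h4
    rw [← h4.eq, mul_inv_cancel_right]
  have hx : x₀ * x₀ = 0 := by
    refine LinearMap.ext fun v => ?_
    have e : x₀ v = Additive.ofMul (MulAut.conjNormal b (Additive.toMul v) * (Additive.toMul v)⁻¹) := by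
      rw [hx₀, LinearMap.sub_apply, Module.End.one_apply, hfapp, ofMul_mul, ofMul_inv, ofMul_toMul, sub_eq_add_neg]
    rw [Module.End.mul_apply, e, hx₀, LinearMap.sub_apply, Module.End.one_apply, LinearMap.zero_apply, sub_eq_zero,
      hfapp, toMul_ofMul, hq']
  have hxu : f b = xu x₀ hx := Units.ext (by rw [xu_val, hx₀, add_sub_cancel])
  have hAN : A ≤ normalizer (N : Set Y) := le_normalizer_of_normal
  have h := hb.map (f := f) hAN hcop
  rw [hxu] at h
  have hcore := quadratic_core hp5 _ _ (N.map f) (A.map f) rfl ((map_mono hAN).trans (le_normalizer_map f))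
    ((hcop.coprime_dvd_left (card_map_dvd _ f)).coprime_dvd_right (card_map_dvd _ f)) x₀ hx h
  have hRN : f.range ≤ normalizer (N.map f : Set _) := by
    rw [MonoidHom.range_eq_map]
    exact (map_mono le_normalizer_of_normal).trans (le_normalizer_map f)
  obtain ⟨U, hUN, hUp, hUn, hxU⟩ := InCore.normalised hcore hRN
  have hsemi : Semi f.range := by
    refine ⟨exists_ne (0 : Additive V), fun W hW _ => ?_⟩
    set W' : Subgroup V := AddSubgroup.toSubgroup' W.toAddSubgroup
    have hW' : ∀ w, w ∈ W' ↔ Additive.ofMul w ∈ W := fun w => Iff.rfl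
    have hn : (W'.map V.subtype).Normal := ⟨by
      rintro _ ⟨w, hw, rfl⟩ g
      exact ⟨MulAut.conjNormal g w, (hW' _).mpr (hW _ ⟨g, rfl⟩ _ ((hW' w).mp hw)), MulAut.conjNormal_apply g w⟩⟩
    rcases hmin _ hn (map_subtype_le _) with h | h
    · left
      refine (Submodule.eq_bot_iff _).mpr fun w hw => ?_
      have : Additive.toMul w ∈ W' := hw
      rw [(map_eq_bot_iff_of_injective _ V.subtype_injective).mp h, Subgroup.mem_bot] at this
      exact congrArg Additive.ofMul this
    · right
      refine eq_top_iff.mpr fun w _ => (hW' (Additive.toMul w)).mp ?_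
      have h' : W' = ⊤ := Subgroup.map_injective V.subtype_injective (by
        rw [h, ← MonoidHom.range_eq_map, range_subtype])
      exact h' ▸ Subgroup.mem_top _
  have hU : U = ⊥ := semi_unipotent_trivial hsemi (hUN.trans (map_le_range f N))
    (fun g hg x hx => (mem_normalizer_iff''.mp (hUn hg) x).mp hx) (unipotent_of_pgroup hUp)
  rw [hU, mem_bot, ← hxu] at hxU
  have htriv : MulAut.conjNormal (H := V) b = 1 :=
    toGL_injective (p := p) (show toGL (p := p) V _ = toGL (p := p) V 1 by rw [map_one]; exact hxU)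
  refine mem_centralizer_iff.mpr fun x hx => ?_
  have h := congrArg (fun σ : MulAut V => ((σ ⟨x, hx⟩ : V) : Y)) htriv
  simp only [MulAut.conjNormal_apply, MulAut.one_apply] at h
  exact (mul_inv_eq_iff_eq_mul.mp h).symm

/-- **the functor is normal** -/
theorem induced_normal_meet (hp5 : 5 ≤ p) (N A : Subgroup G) [N.Normal]
    (hcop : (Nat.card N).Coprime (Nat.card A)) (P : Subgroup G) (hP : IsPGroup p P)
    (hTP : Cfsg.pCore p G ≤ P) (hc : centralizer (Cfsg.pCore p G : Set G) ≤ Cfsg.pCore p G)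
    (hall : ∀ b ∈ P, InAll p A N b) : (Cfsg.inducedFunctor Cfsg.kInfLower P).Normal := by
  rw [eq_core_of_trivial P hP hTP hc ?_]
  · refine normalizer_eq_top_iff.mp (top_le_iff.mp ?_)
    exact le_trans (by rw [normalizer_eq_top]) (Cfsg.Lib.Functor.normalizer_le_normalizer_induced
      KInf.isCharPFunctor_lower (Cfsg.Lib.Components.isPGroup_pCore p))
  intro b hb U V hUV hU hq u hu
  obtain ⟨hlt, hUn, hVn, hch⟩ := hUV
  haveI := hUn
  haveI := hVn
  set π := QuotientGroup.mk' V with hπd
  have hπ : Function.Surjective π := QuotientGroup.mk'_surjective V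
  haveI : (U.map π).Normal := Subgroup.Normal.map inferInstance π hπ
  haveI : (N.map π).Normal := Subgroup.Normal.map inferInstance π hπ
  have h := centralizes_minimal hp5 (N := N.map π) (A := A.map π) (V := U.map π) (b := π b)
    ((hcop.coprime_dvd_left (card_map_dvd _ π)).coprime_dvd_right (card_map_dvd _ π))
    (((Cfsg.Lib.Components.isPGroup_pCore p).to_le hU).map π)
    (fun h => hlt.not_ge (by rwa [Subgroup.map_eq_bot_iff, QuotientGroup.ker_mk'] at h))
    (fun W hW hWU => by
      rcases hch (W.comap π) (hW.comap π) ((QuotientGroup.ker_mk' V).ge.trans (ker_le_comap π W)) (by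
        refine (comap_mono hWU).trans ?_
        rw [comap_map_eq, QuotientGroup.ker_mk', sup_eq_left.mpr hlt.le]) with h | h
      · left; rw [← map_comap_eq_self_of_surjective hπ W, h, QuotientGroup.map_mk'_self]
      · right; rw [← map_comap_eq_self_of_surjective hπ W, h])
    ((hall b hb).map (f := π) le_normalizer_of_normal hcop)
    (by rw [← MonoidHom.map_zpowers, ← map_commutator, ← map_commutator, Subgroup.map_eq_bot_iff,
      QuotientGroup.ker_mk']; exact hq)
  have h1 := mem_centralizer_iff.mp h (π u) (mem_map_of_mem π hu)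
  rw [← QuotientGroup.eq_one_iff]
  show π (b * u * b⁻¹ * u⁻¹) = 1
  rw [map_mul, map_mul, map_mul, map_inv, map_inv, ← h1, mul_inv_cancel_right, mul_inv_cancel]

/-! ### The group with operators -/

/-- centralisers of `O_p` in a coprime extension by a faithful group -/
theorem centralizer_core_le {N A : Subgroup G} [N.Normal] (hsup : N ⊔ A = ⊤)
    (hcop : (Nat.card N).Coprime (Nat.card A)) (hfaith : A ⊓ centralizer (N : Set G) = ⊥) (hpN : p ∣ Nat.card N)
    {T : Subgroup G} [T.Normal] (hTp : IsPGroup p T)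
    (hCN : N ⊓ centralizer (T : Set G) ≤ T) : centralizer (T : Set G) ≤ T := by
  have hAN : A ≤ normalizer (N : Set G) := le_normalizer_of_normal
  have hpA : Nat.Coprime p (Nat.card A) := hcop.coprime_dvd_left hpN
  intro x hx
  obtain ⟨a, y, ha, hy, hay, ⟨j, hj⟩, hyc⟩ := Cfsg.Lib.Transfer.exists_pPart p x
  have hac : a ∈ centralizer (T : Set G) := zpowers_le.mpr hx ha
  have hyC : y ∈ centralizer (T : Set G) := zpowers_le.mpr hx hy
  have hroot : ∀ z : G, z ^ Nat.card A ∈ N := by
    intro z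
    obtain ⟨g, hg, c, hc, rfl⟩ :=
      (Cfsg.Lib.Coprime.mem_sup_of_le_normalizer hAN).mp (hsup.ge (mem_top z))
    have hc' : c ^ Nat.card A = 1 := congrArg Subtype.val (pow_card_eq_one' (x := (⟨c, hc⟩ : A)))
    rw [← QuotientGroup.eq_one_iff, QuotientGroup.mk_pow, QuotientGroup.mk_mul,
      (QuotientGroup.eq_one_iff g).mpr hg, one_mul, ← QuotientGroup.mk_pow, hc', QuotientGroup.mk_one]
  -- the `p`-part is in `T`
  have haN : a ∈ N := by
    obtain ⟨m, hm⟩ := exists_pow_eq_self_of_coprime (G := G) (x := a) (n := Nat.card A)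
      (by rw [hj]; exact (hpA.pow_left j).symm)
    rw [← hm]
    exact pow_mem (hroot a) m
  have haT : a ∈ T := hCN ⟨haN, hac⟩
  -- the rest centralises `N`
  have hyN : ∀ g ∈ N, y * g * y⁻¹ = g := by
    intro g hg
    set z := y * g * y⁻¹ * g⁻¹ with hz
    have hzC : z ∈ centralizer (T : Set G) := by
      rw [show z = y * (g * y⁻¹ * g⁻¹) by rw [hz]; group]
      exact mul_mem hyC (Normal.conj_mem inferInstance _ (inv_mem hyC) g)
    have hzT : z ∈ T := hCN ⟨N.mul_mem (Normal.conj_mem inferInstance g hg y) (N.inv_mem hg), hzC⟩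
    have hyz : Commute y z := (mem_centralizer_iff.mp hyC z hzT).symm
    have hpow : ∀ n : ℕ, y ^ n * g * (y ^ n)⁻¹ = z ^ n * g := by
      intro n
      induction n with
      | zero => simp
      | succ n ih =>
        calc y ^ (n + 1) * g * (y ^ (n + 1))⁻¹ = y * (y ^ n * g * (y ^ n)⁻¹) * y⁻¹ := by rw [pow_succ']; group
          _ = y * z ^ n * (g * y⁻¹) := by rw [ih]; group
          _ = z ^ n * y * (g * y⁻¹) := by rw [(hyz.pow_right n).eq]
          _ = z ^ n * z * g := by rw [hz]; group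
          _ = z ^ (n + 1) * g := by rw [pow_succ]
    have h1 := hpow (orderOf y)
    rw [pow_orderOf_eq_one, one_mul, inv_one, mul_one, eq_comm, mul_eq_right] at h1
    obtain ⟨k, hk⟩ := IsPGroup.iff_orderOf.mp hTp ⟨z, hzT⟩
    rw [Subgroup.orderOf_mk] at hk
    have hz1 : z = 1 := orderOf_eq_one_iff.mp (Nat.eq_one_of_dvd_coprimes (hyc.pow_right k)
      (orderOf_dvd_of_pow_eq_one h1) hk.dvd)
    exact mul_inv_eq_one.mp hz1
  obtain ⟨g₀, hg₀, c, hc, e⟩ := (Cfsg.Lib.Coprime.mem_sup_of_le_normalizer hAN).mp (hsup.ge (mem_top y))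
  have hconj : MulAut.conjNormal (H := N) c = (MulAut.conjNormal (H := N) g₀)⁻¹ := by
    refine eq_inv_of_mul_eq_one_right ?_
    rw [← map_mul, e]
    refine MulEquiv.ext fun g => Subtype.ext ?_
    rw [MulAut.conjNormal_apply, MulAut.one_apply]
    exact hyN g g.2
  have ho1 : orderOf (MulAut.conjNormal (H := N) c) ∣ Nat.card A :=
    (orderOf_map_dvd _ c).trans (Subgroup.orderOf_dvd_natCard A hc)
  have ho2 : orderOf (MulAut.conjNormal (H := N) c) ∣ Nat.card N := by
    rw [hconj, orderOf_inv]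
    exact (orderOf_map_dvd _ g₀).trans (Subgroup.orderOf_dvd_natCard N hg₀)
  have hc1 : MulAut.conjNormal (H := N) c = 1 :=
    orderOf_eq_one_iff.mp (Nat.eq_one_of_dvd_coprimes hcop ho2 ho1)
  have hc0 : c = 1 := by
    rw [← mem_bot, ← hfaith]
    refine ⟨hc, mem_centralizer_iff.mpr fun g hg => ?_⟩
    have h := congrArg (fun σ : MulAut N => ((σ ⟨g, hg⟩ : N) : G)) hc1
    simp only [MulAut.conjNormal_apply, MulAut.one_apply] at h
    exact (mul_inv_eq_iff_eq_mul.mp h).symm
  rw [hc0, mul_one] at e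
  obtain ⟨k, hk⟩ := IsPGroup.iff_orderOf.mp hTp ⟨y, hCN ⟨e ▸ hg₀, hyC⟩⟩
  rw [Subgroup.orderOf_mk] at hk
  have hy1 : y = 1 := orderOf_eq_one_iff.mp (Nat.eq_one_of_dvd_coprimes (hyc.pow_right k) dvd_rfl hk.dvd)
  rw [← hay, hy1, mul_one]
  exact haT

/-- **normality of the functor of an intersection of invariant `p`-subgroups** -/
theorem meet_normalised_all {X : Type u} [Group X] [Finite X] (hp5 : 5 ≤ p) (G R : Subgroup X)
    (hcop : (Nat.card G).Coprime (Nat.card R)) (hn : R ≤ normalizer (G : Set X))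
    (hne : G ≠ ⊥) (hF : centralizer (Cfsg.pCore p G : Set G) ≤ Cfsg.pCore p G) (P : Subgroup X) (hPG : P ≤ G)
    (hTP : (Cfsg.pCore p G).map G.subtype ≤ P) (hP : IsPGroup p P) (hall : ∀ b ∈ P, InAll p R G b) :
    G ≤ normalizer (Cfsg.inducedFunctor Cfsg.kInfLower P : Set X) := by
  set Z := G ⊔ R
  have hZG : G ≤ Z := le_sup_left
  have hZR : R ≤ Z := le_sup_right
  haveI hGn : (G.subgroupOf Z).Normal :=
    (normal_subgroupOf_iff_le_normalizer hZG).mpr (sup_le le_normalizer hn)
  set K := (R ⊓ centralizer (G : Set X)) with hK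
  have hKZ : K ≤ Z := inf_le_left.trans hZR
  haveI hKn : (K.subgroupOf Z).Normal := by
    refine (normal_subgroupOf_iff_le_normalizer hKZ).mpr (sup_le ?_ ?_)
    · intro g hg
      refine Cfsg.Lib.Coprime.mem_normalizer_of_conj_mem ?_ ?_ <;> intro k hk
      · have h := mem_centralizer_iff.mp hk.2 g hg
        rwa [h, mul_inv_cancel_right]
      · have h := mem_centralizer_iff.mp hk.2 g⁻¹ (inv_mem hg)
        rwa [h, inv_mul_cancel_right]
    · exact Cfsg.Lib.Coprime.le_normalizer_inf le_normalizer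
        (hn.trans (Cfsg.Lib.Thompson.normalizer_le_normalizer_centralizer _))
  set q := QuotientGroup.mk' (K.subgroupOf Z) with hq
  have hqs : Function.Surjective q := QuotientGroup.mk'_surjective _
  set i : G →* ↥Z ⧸ K.subgroupOf Z := q.comp (Subgroup.inclusion hZG) with hi'
  have hinj : Function.Injective i := by
    rw [injective_iff_map_eq_one]
    intro g hg
    have hg' : Subgroup.inclusion hZG g ∈ K.subgroupOf Z := (QuotientGroup.eq_one_iff _).mp hg
    exact Subtype.ext (Cfsg.Lib.Coprime.eq_one_of_coprime hcop g.2 (mem_subgroupOf.mp hg').1)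
  set N := (G.subgroupOf Z).map q with hN
  set A := (R.subgroupOf Z).map q with hA
  haveI : N.Normal := hGn.map q hqs
  have hNi : N = i.range := by
    refine le_antisymm ?_ ?_
    · rintro _ ⟨g, hg, rfl⟩; exact ⟨⟨g, hg⟩, rfl⟩
    · rintro _ ⟨g, rfl⟩; exact ⟨Subgroup.inclusion hZG g, g.2, rfl⟩
  have hcards : (Nat.card (G.subgroupOf Z)).Coprime (Nat.card (R.subgroupOf Z)) := by
    rw [Nat.card_congr (subgroupOfEquivOfLe hZG).toEquiv, Nat.card_congr (subgroupOfEquivOfLe hZR).toEquiv]
    exact hcop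
  have hcopY : (Nat.card N).Coprime (Nat.card A) :=
    (hcards.coprime_dvd_left (card_map_dvd _ q)).coprime_dvd_right (card_map_dvd _ q)
  have hsup : N ⊔ A = ⊤ := by
    rw [hN, hA, ← Subgroup.map_sup, ← subgroupOf_sup hZG hZR, subgroupOf_self, map_top_of_surjective q hqs]
  have hfaith : A ⊓ centralizer (N : Set _) = ⊥ := by
    refine eq_bot_iff.mpr ?_
    rintro _ ⟨⟨c, hc, rfl⟩, hcN⟩
    refine mem_bot.mpr ((QuotientGroup.eq_one_iff c).mpr ⟨hc, mem_centralizer_iff.mpr fun g hg => ?_⟩)
    have h := mem_centralizer_iff.mp hcN _ (mem_map_of_mem q (show (⟨g, hZG hg⟩ : Z) ∈ G.subgroupOf Z from hg))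
    have h' : q ⁅(⟨g, hZG hg⟩ : Z), c⁆ = 1 := by
      rw [map_commutatorElement, commutatorElement_eq_one_iff_mul_comm]; exact h
    have h2' : ⁅(⟨g, hZG hg⟩ : Z), c⁆ ∈ K.subgroupOf Z := (QuotientGroup.eq_one_iff _).mp h'
    have h2 : ⁅g, (c : X)⁆ ∈ K := mem_subgroupOf.mp h2'
    have h3 : ⁅g, (c : X)⁆ ∈ G := by
      rw [commutatorElement_def, mul_assoc, mul_assoc, ← mul_assoc (c : X)]
      exact mul_mem hg ((mem_normalizer_iff.mp (hn hc) _).mp (inv_mem hg))
    exact commutatorElement_eq_one_iff_mul_comm.mp (Cfsg.Lib.Coprime.eq_one_of_coprime hcop h3 h2.1)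
  set T := Cfsg.pCore p G with hT
  have hTp : IsPGroup p T := Cfsg.Lib.Components.isPGroup_pCore p
  have hT0 : T ≠ ⊥ := fun h => hne (eq_bot_iff.mpr fun g hg => by
    have := hF (show (⟨g, hg⟩ : G) ∈ centralizer (T : Set G) from mem_centralizer_iff.mpr fun t ht => by
      rw [h] at ht
      rw [mem_bot.mp ht, one_mul, mul_one])
    rw [h, mem_bot] at this
    exact mem_bot.mpr (congrArg Subtype.val this))
  have hpN : p ∣ Nat.card N := by
    obtain ⟨n, hn'⟩ := hTp.exists_card_eq
    rcases n with _ | n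
    · exact absurd ((Subgroup.card_eq_one).mp hn') hT0
    · rw [hNi, Nat.card_congr (MonoidHom.ofInjective hinj).toEquiv.symm]
      exact ((hn' ▸ dvd_pow_self p (Nat.succ_ne_zero n) : p ∣ Nat.card T)).trans (card_subgroup_dvd_card T)
  set T' := T.map i with hT'
  haveI : T'.Normal := by
    have hmap : ((T.map G.subtype).subgroupOf Z).map q = T' := by
      refine le_antisymm ?_ ?_
      · rintro _ ⟨z, hz, rfl⟩
        obtain ⟨t, ht, e⟩ := (hz : (z : X) ∈ T.map G.subtype)
        exact ⟨t, ht, congrArg q (Subtype.ext e)⟩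
      · rintro _ ⟨t, ht, rfl⟩
        exact ⟨Subgroup.inclusion hZG t, mem_map_of_mem G.subtype ht, rfl⟩
    rw [← hmap]
    refine Subgroup.Normal.map ((normal_subgroupOf_iff_le_normalizer ((map_subtype_le _).trans hZG)).mpr
      (fun z hz => ?_)) q hqs
    have key : ∀ g ∈ normalizer (G : Set X), ∀ t ∈ T.map G.subtype, g * t * g⁻¹ ∈ T.map G.subtype := by
      rintro g hg - ⟨t, ht, rfl⟩
      exact ⟨G.normalizerMonoidHom ⟨g, hg⟩ t, characteristic_iff_le_comap.mp inferInstance _ ht, rfl⟩
    exact Cfsg.Lib.Coprime.mem_normalizer_of_conj_mem (key z ((sup_le le_normalizer hn : Z ≤ _) hz))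
      fun t ht => by simpa using key z⁻¹ (inv_mem ((sup_le le_normalizer hn : Z ≤ _) hz)) t ht
  have hcY : centralizer (T' : Set _) ≤ T' := by
    refine centralizer_core_le hsup hcopY hfaith hpN (hTp.map i) ?_
    rintro _ ⟨hy, hyc⟩
    obtain ⟨g, rfl⟩ := hNi.le hy
    refine mem_map_of_mem i (hF (mem_centralizer_iff.mpr fun t ht => hinj ?_))
    rw [map_mul, map_mul]
    exact mem_centralizer_iff.mp hyc _ (mem_map_of_mem i ht)
  have hcore : Cfsg.pCore p (↥Z ⧸ K.subgroupOf Z) = T' := by
    refine le_antisymm ?_ (Cfsg.Lib.Components.le_pCore (hTp.map i))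
    set O := Cfsg.pCore p (↥Z ⧸ K.subgroupOf Z)
    have hON : O ≤ N := by
      intro x hx
      obtain ⟨k, hk⟩ := IsPGroup.iff_orderOf.mp (Cfsg.Lib.Components.isPGroup_pCore p) (⟨x, hx⟩ : O)
      rw [Subgroup.orderOf_mk] at hk
      obtain ⟨g, hg, c, hc, e⟩ :=
        (Cfsg.Lib.Coprime.mem_sup_of_le_normalizer le_normalizer_of_normal).mp (hsup.ge (mem_top x))
      obtain ⟨m, hm⟩ := exists_pow_eq_self_of_coprime (x := x) (n := Nat.card A)
        (by rw [hk]; exact ((hcopY.coprime_dvd_left hpN).pow_left k).symm)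
      rw [← hm]
      refine pow_mem ?_ m
      have hc' : c ^ Nat.card A = 1 := congrArg Subtype.val (pow_card_eq_one' (x := (⟨c, hc⟩ : A)))
      rw [← QuotientGroup.eq_one_iff, QuotientGroup.mk_pow, ← e, QuotientGroup.mk_mul,
        (QuotientGroup.eq_one_iff g).mpr hg, one_mul, ← QuotientGroup.mk_pow, hc', QuotientGroup.mk_one]
    rw [← map_comap_eq_self (hON.trans hNi.le)]
    haveI : (O.comap i).Normal := Subgroup.Normal.comap inferInstance i
    exact map_mono (Cfsg.Lib.Components.le_pCore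
      ((Cfsg.Lib.Components.isPGroup_pCore p).comap_of_injective i hinj))
  set P₀ := P.subgroupOf G with hP₀
  have hP₀p : IsPGroup p P₀ := hP.of_equiv (subgroupOfEquivOfLe hPG).symm
  have hTP₀ : T ≤ P₀ := fun t ht => hTP (mem_map_of_mem G.subtype ht)
  have hnorm := induced_normal_meet hp5 N A hcopY (P₀.map i) (hP₀p.map i) (hcore.le.trans (map_mono hTP₀))
    (by rw [hcore]; exact hcY) (by
      rintro _ ⟨g, hg, rfl⟩
      refine InAll.map (f := q) ?_ hcards (InAll.pullback (f := Z.subtype) Z.subtype_injective ?_)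
      · exact le_normalizer_of_normal
      · rw [map_subgroupOf_eq_of_le hZR, map_subgroupOf_eq_of_le hZG]
        exact hall _ hg)
  rw [← Cfsg.Lib.Functor.map_induced KInf.isCharPFunctor_lower hP₀p hinj.injOn] at hnorm
  have hn₀ : (Cfsg.inducedFunctor Cfsg.kInfLower P₀).Normal := by
    rw [← comap_map_eq_self_of_injective hinj (Cfsg.inducedFunctor Cfsg.kInfLower P₀)]
    exact hnorm.comap i
  have h := le_normalizer_map G.subtype (H := Cfsg.inducedFunctor Cfsg.kInfLower P₀)
  rw [normalizer_eq_top_iff.mpr hn₀, ← MonoidHom.range_eq_map, range_subtype,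
    Cfsg.Lib.Functor.map_induced KInf.isCharPFunctor_lower hP₀p G.subtype_injective.injOn,
    map_subgroupOf_eq_of_le hPG] at h
  exact h

/-- the meet of the invariant Sylow subgroups -/
theorem meet_normalised {X : Type u} [Group X] [Finite X] (hp5 : 5 ≤ p) (G R : Subgroup X)
    (hsol : Group.IsSolvable R) (hcop : (Nat.card G).Coprime (Nat.card R)) (hn : R ≤ normalizer (G : Set X))
    (hne : G ≠ ⊥) (hF : centralizer (Cfsg.pCore p G : Set G) ≤ Cfsg.pCore p G) (P : Subgroup X) (hPG : P ≤ G)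
    (hTP : (Cfsg.pCore p G).map G.subtype ≤ P) (hP : IsPGroup p P)
    (hmem : ∀ S : Sylow p G, R ≤ normalizer (((S : Subgroup G).map G.subtype : Subgroup X) : Set X) →
      P ≤ (S : Subgroup G).map G.subtype) :
    G ≤ normalizer (Cfsg.inducedFunctor Cfsg.kInfLower P : Set X) := by
  have hall : ∀ b ∈ P, InAll p R G b := fun b hb => ⟨hPG hb, fun S hS => by
    obtain ⟨Q, hSQ, hQR⟩ := Cfsg.Lib.Coprime.exists_invariant_sylow_ge hn hcop.symm (Or.inl hsol) p
      hS.le hS.pgroup hS.inv
    rw [← hS.max _ (map_subtype_le _) (Q.2.map _) hQR hSQ]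
    exact hmem Q hQR hb⟩
  exact meet_normalised_all hp5 G R hcop hn hne hF P hPG hTP hP hall

end Cfsg.Lib.CapSylow
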