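import Cfsg.Agent.CapSylow.Loc
import Cfsg.Agent.CapSylow.Meet
import Cfsg.Agent.Components.KInf.SelfCentral

/-!
A noncyclic abelian group centralising all `O^p(F*(C(a)))` centralises `O^p(F*)` (`p ≥ 5`).
-/

set_option autoImplicit false
set_option linter.style.haveILetI false
set_option linter.unusedSectionVars false
set_option linter.unusedVariables false

namespace Cfsg.Lib.CapSylow

open Cfsg
open Subgroup
open scoped commutatorElement

universe u

variable {X : Type u} [Group X] [Finite X] {p : ℕ} [Fact p.Prime]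

/-- `R` centralises `O^p(F*(H))` -/
def Ok (p : ℕ) (R H : Subgroup X) : Prop := R ≤ centralizer (F0 p H : Set X)

/-- the hypothesis on the centralisers -/
def Loc (p : ℕ) (R G : Subgroup X) : Prop := ∀ a ∈ R, a ≠ 1 → Ok p R (G ⊓ centralizer ({a} : Set X))

/-- the elements centralising `O^p(F*(H))` -/
def yP (p : ℕ) (H : Subgroup X) : Subgroup X := H ⊓ centralizer (F0 p H : Set X)

/-- the meet of the maximal invariant `p`-subgroups -/
def meet (p : ℕ) [Fact p.Prime] (R G : Subgroup X) : Subgroup X where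
  carrier := {x | InAll p R G x}
  one_mem' := InAll.one
  mul_mem' := fun h h' => h.mul h'
  inv_mem' := fun h => h.inv

theorem mem_meet {R G : Subgroup X} {x : X} : x ∈ meet p R G ↔ InAll p R G x := Iff.rfl

/-! ### general facts -/

theorem sSup_normalised {S : Set (Subgroup X)} {B : Subgroup X} (h : ∀ V ∈ S, B ≤ normalizer (V : Set X)) :
    B ≤ normalizer (sSup S : Subgroup X) := by
  intro g hg
  rw [mem_normalizer_iff_map_conj_eq, sSup_eq_iSup, Subgroup.map_iSup]
  refine iSup_congr fun V => ?_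
  rw [Subgroup.map_iSup]
  exact iSup_congr fun hV => mem_normalizer_iff_map_conj_eq.mp (h V hV hg)

theorem comm_mem_yP {R H : Subgroup X} (hRH : R ≤ normalizer (H : Set X)) (hok : Ok p R H) {h s : X}
    (hh : h ∈ H) (hs : s ∈ R) : ⁅h, s⁆ ∈ yP p H := by
  refine ⟨?_, ?_⟩
  · rw [commutatorElement_def, mul_assoc, mul_assoc, ← mul_assoc s]
    exact mul_mem hh ((mem_normalizer_iff.mp (hRH hs) _).mp (inv_mem hh))
  · have h1 : h * s * h⁻¹ ∈ centralizer (F0 p H : Set X) := by
      refine mem_centralizer_iff.mpr fun f hf => ?_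
      have hf' : h⁻¹ * f * h ∈ F0 p H := by
        simpa using (mem_normalizer_iff.mp (le_normalizer_F0 H (inv_mem hh)) f).mp hf
      have h2 := mem_centralizer_iff.mp (hok hs) _ hf'
      calc f * (h * s * h⁻¹) = h * (h⁻¹ * f * h * s) * h⁻¹ := by group
        _ = h * (s * (h⁻¹ * f * h)) * h⁻¹ := by rw [h2]
        _ = h * s * h⁻¹ * f := by group
    exact Subgroup.mul_mem _ h1 (Subgroup.inv_mem _ (hok hs))

theorem yP_le (H : Subgroup X) : yP p H ≤ H := inf_le_left

theorem normalizer_le_yP (H : Subgroup X) : normalizer (H : Set X) ≤ normalizer (yP p H : Set X) :=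
  Cfsg.Lib.Coprime.le_normalizer_inf le_rfl
    ((normalizer_le_F0 H).trans (Cfsg.Lib.Thompson.normalizer_le_normalizer_centralizer _))

theorem oP_le_yP (H : Subgroup X) : oP p H ≤ yP p H := fun t ht =>
  ⟨oP_le H ht, mem_centralizer_iff.mpr fun f hf => (commute_oP_F0 ht hf).symm.eq⟩

/-- a commutator with values in `O_p` and the centre of `F*` has trivial `p'`-part -/
theorem part_eq_one {c s t z : X} {T : Subgroup X} (hT : IsPGroup p T) (ht : t ∈ T)
    (hsT : s ∈ normalizer (T : Set X)) (hzs : Commute z s) (hzt : Commute z t) (hzo : (orderOf z).Coprime p)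
    (hcop : (orderOf z).Coprime (orderOf s)) (he : ⁅c, s⁆ = t * z) : z = 1 := by
  set m := orderOf s
  have h1 : c * s * c⁻¹ = z * (t * s) := by
    rw [← mul_assoc, hzt.eq, ← he, commutatorElement_def]; group
  have h2 : z ^ m * (t * s) ^ m = 1 := by
    rw [← (hzt.mul_right hzs).mul_pow, ← h1, conj_pow, pow_orderOf_eq_one, mul_one, mul_inv_cancel]
  have hk : ∀ n : ℕ, (t * s) ^ n * (s ^ n)⁻¹ ∈ T := by
    intro n
    induction n with
    | zero => simp
    | succ n ih =>
      rw [show (t * s) ^ (n + 1) * (s ^ (n + 1))⁻¹ = t * (s * ((t * s) ^ n * (s ^ n)⁻¹) * s⁻¹) by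
        rw [pow_succ', pow_succ']; group]
      exact mul_mem ht ((mem_normalizer_iff.mp hsT _).mp ih)
  have h3 := hk m
  rw [pow_orderOf_eq_one, inv_one, mul_one] at h3
  obtain ⟨k, hk'⟩ := hT ⟨_, h3⟩
  have hk'' : ((t * s) ^ m) ^ p ^ k = 1 := congrArg Subtype.val hk'
  have h4 : (z ^ m) ^ p ^ k = 1 := by
    rw [eq_inv_of_mul_eq_one_left h2, inv_pow, hk'', inv_one]
  have h5 : (z ^ m) ^ orderOf z = 1 := by rw [← pow_mul, mul_comm, pow_mul, pow_orderOf_eq_one, one_pow]
  exact eq_one_of_coprime_pow (pow_orderOf_eq_one z) (eq_one_of_coprime_pow h5 h4 (hzo.pow_right k)) hcop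

/-- `p`-elements of a group with central `p'`-elements -/
theorem pElement_mem_oP {N : Subgroup X} (hc : ∀ g ∈ N, (orderOf g).Coprime p → ∀ x ∈ N, Commute g x)
    {t : X} (ht : t ∈ N) {k : ℕ} (hk : t ^ p ^ k = 1) : t ∈ oP p N := by
  obtain ⟨j, -, hj⟩ := (Nat.dvd_prime_pow (Fact.out : p.Prime)).mp (orderOf_dvd_of_pow_eq_one hk)
  obtain ⟨S, hS⟩ := ((IsPGroup.of_card (p := p) (n := j) ((Nat.card_zpowers t).trans hj)).of_equiv
    (subgroupOfEquivOfLe (zpowers_le.mpr ht : zpowers t ≤ N)).symm).exists_le_sylow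
  set S₀ := (S : Subgroup N).map N.subtype
  have hSn : N ≤ normalizer (S₀ : Set X) := by
    refine Cfsg.Lib.Coprime.le_of_forall_sylow fun q hq => ?_
    haveI := Fact.mk hq
    by_cases h : q = p
    · subst h
      exact ⟨S, le_normalizer⟩
    · refine ⟨default, ?_⟩
      rintro _ ⟨g, hg, rfl⟩
      obtain ⟨n, hn⟩ := (default : Sylow q N).2 ⟨g, hg⟩
      have ho : (orderOf (g : X)).Coprime p := Nat.Coprime.coprime_dvd_left
        (orderOf_dvd_of_pow_eq_one (congrArg (fun z : (default : Sylow q N) => ((z : N) : X)) hn))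
        (((Nat.coprime_primes hq Fact.out).mpr h).pow_left n)
      refine centralizer_le_normalizer _ (mem_centralizer_iff.mpr fun x hx => ?_)
      exact (hc g g.2 ho x (map_subtype_le _ hx)).symm.eq
  exact le_oP (map_subtype_le _) hSn (S.2.map _) ⟨⟨t, ht⟩, hS (mem_zpowers t), rfl⟩

/-! ### the setting of a minimal counterexample -/

/-- the standing hypotheses -/
structure Inp (p : ℕ) (R G : Subgroup X) : Prop where
  p5 : 5 ≤ p
  comm : ∀ s ∈ R, ∀ t ∈ R, Commute s t
  norm : R ≤ normalizer (G : Set X)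
  cop : (Nat.card G).Coprime (Nat.card R)
  loc : Loc p R G
  ih : ∀ D : Subgroup X, D ≤ G → D ≠ G → R ≤ normalizer (D : Set X) → Loc p R D → Ok p R D
  top : F0 p G = G

variable {R G : Subgroup X} (I : Inp p R G)
include I

theorem sol : Group.IsSolvable R :=
  Group.isSolvable_of_comm fun a b => Subtype.ext (I.comm a a.2 b b.2).eq

theorem cop_of_le {H : Subgroup X} (h : H ≤ G) : (Nat.card R).Coprime (Nat.card H) :=
  (I.cop.coprime_dvd_left (card_dvd_of_le h)).symm

theorem order_cop {z s : X} (hz : z ∈ G) (hs : s ∈ R) : (orderOf z).Coprime (orderOf s) :=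
  (I.cop.coprime_dvd_left (Subgroup.orderOf_dvd_natCard G hz)).coprime_dvd_right
    (Subgroup.orderOf_dvd_natCard R hs)

theorem R_norm_cen {a : X} (ha : a ∈ R) : R ≤ normalizer ((G ⊓ centralizer ({a} : Set X) : Subgroup X) : Set X) := by
  refine Cfsg.Lib.Coprime.le_normalizer_inf I.norm fun s hs => le_normalizer ?_
  exact mem_centralizer_singleton_iff.mpr (I.comm s hs a ha).eq

theorem fix_le_cen {a : X} (ha : a ∈ R) :
    G ⊓ centralizer (R : Set X) ≤ G ⊓ centralizer ({a} : Set X) :=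
  inf_le_inf_left _ fun c hc => mem_centralizer_singleton_iff.mpr (mem_centralizer_iff.mp hc a ha).symm

theorem F0_le_fix {H : Subgroup X} (hH : H ≤ G) (hok : Ok p R H) : F0 p H ≤ G ⊓ centralizer (R : Set X) :=
  le_inf ((F0_le H).trans hH) (le_centralizer_iff.mp hok)

theorem maxInv_sylow {K S : Subgroup X} (hK : K ≤ G) (hKn : R ≤ normalizer (K : Set X))
    (hS : IsMaxInv p R K S) : ∃ Q : Sylow p K, (Q : Subgroup K).map K.subtype = S := by
  obtain ⟨Q, hSQ, hQR⟩ := Cfsg.Lib.Coprime.exists_invariant_sylow_ge hKn (cop_of_le I hK) (Or.inl (sol I)) p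
    hS.le hS.pgroup hS.inv
  exact ⟨Q, hS.max _ (map_subtype_le _) (Q.2.map _) hQR hSQ⟩

omit I in
theorem meet_le : meet p R G ≤ G := fun x hx => hx.1

omit I in
theorem meet_pgroup : IsPGroup p (meet p R G) := by
  obtain ⟨S, hS, -⟩ := exists_maxInv (p := p) (Γ := R) (G' := G) (Y := ⊥) bot_le IsPGroup.of_bot
    le_normalizer_of_normal
  exact hS.pgroup.to_le fun x hx => hx.2 S hS

omit I in
theorem meet_normalised_of {B : Subgroup X} (h1 : B ≤ normalizer (G : Set X)) (h2 : B ≤ normalizer (R : Set X)) :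
    B ≤ normalizer (meet p R G : Set X) := fun g hg =>
  Cfsg.Lib.Coprime.mem_normalizer_of_conj_mem (fun x hx => InAll.conj hx (h1 hg) (h2 hg))
    fun x hx => mem_meet.mpr (by simpa using InAll.conj (g := g⁻¹) hx (inv_mem (h1 hg)) (inv_mem (h2 hg)))

theorem R_norm_meet : R ≤ normalizer (meet p R G : Set X) := meet_normalised_of I.norm le_normalizer

omit I in
theorem fix_norm_meet : G ⊓ centralizer (R : Set X) ≤ normalizer (meet p R G : Set X) :=
  meet_normalised_of (inf_le_left.trans le_normalizer) (inf_le_right.trans (centralizer_le_normalizer _))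

/-- `R`-invariant `p`-subgroups normalised by the fixed points lie in the meet -/
theorem le_meet {V : Subgroup X} (hV : V ≤ G) (hVp : IsPGroup p V) (hVR : R ≤ normalizer (V : Set X))
    (hVC : G ⊓ centralizer (R : Set X) ≤ normalizer (V : Set X)) : V ≤ meet p R G := by
  intro x hx
  refine ⟨hV hx, fun S hS => ?_⟩
  obtain ⟨Q, hQ⟩ := maxInv_sylow I le_rfl I.norm hS
  obtain ⟨Q', hVQ, hQ'R⟩ := Cfsg.Lib.Coprime.exists_invariant_sylow_ge I.norm (cop_of_le I le_rfl)
    (Or.inl (sol I)) p hV hVp hVR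
  obtain ⟨c, hc, hcQ⟩ := Cfsg.Lib.Coprime.invariant_sylow_conj I.norm (cop_of_le I le_rfl) (Or.inl (sol I)) p
    Q' Q hQ'R (by rw [hQ]; exact hS.inv)
  rw [← hQ, ← hcQ, Cfsg.Lib.Coprime.map_subtype_smul]
  refine Cfsg.Lib.Coprime.conjMap_mono hVQ ?_
  rw [Cfsg.Lib.Coprime.conjMap_eq_self (hVC ⟨c.2, hc⟩)]
  exact hx

theorem oP_le_meet {H : Subgroup X} (hH : H ≤ G) (hR : R ≤ normalizer (H : Set X))
    (hC : G ⊓ centralizer (R : Set X) ≤ normalizer (H : Set X)) : oP p H ≤ meet p R G :=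
  le_meet I ((oP_le H).trans hH) (oP_pgroup H) (hR.trans (normalizer_le_oP H)) (hC.trans (normalizer_le_oP H))

theorem meet_inf_le_yP {H : Subgroup X} (hH : H ≤ G) (hR : R ≤ normalizer (H : Set X)) (hok : Ok p R H) :
    meet p R G ⊓ H ≤ yP p H := by
  rintro x ⟨hxM, hxH⟩
  refine ⟨hxH, le_centralizer_res (fun g hg ho x hx => ?_) (show x ∈ ({x} : Set X) from rfl)⟩
  obtain rfl := Set.mem_singleton_iff.mp hx
  have hg0 : g ∈ F0 p H := mem_res hg ho
  have hgn := fix_norm_meet (p := p) (F0_le_fix I hH hok hg0)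
  have hq1 : ⁅g, x⁆ ∈ meet p R G := by
    rw [commutatorElement_def]
    exact mul_mem ((mem_normalizer_iff.mp hgn x).mp hxM) (inv_mem hxM)
  have hq2 : ⁅g, x⁆ ∈ F0 p H := by
    rw [commutatorElement_def, mul_assoc, mul_assoc, ← mul_assoc x]
    exact mul_mem hg0 ((mem_normalizer_iff.mp (le_normalizer_F0 H hxH) _).mp (inv_mem hg0))
  have hQ : ⁅g, x⁆ ∈ oP p (F0 p H) := le_oP inf_le_right
    (Cfsg.Lib.Coprime.le_normalizer_inf ((F0_le_fix I hH hok).trans fix_norm_meet) le_normalizer)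
    (meet_pgroup.to_le inf_le_left) (show ⁅g, x⁆ ∈ meet p R G ⊓ F0 p H from ⟨hq1, hq2⟩)
  exact commute_of_pElement ho meet_pgroup hq1 (commute_oP_F0 hQ ((F0_F0 (p := p) H).symm ▸ hg0))

/-- elements of `H` centralising `O_p(H)` have their commutators with `R` in `O_p(H)` -/
theorem comm_mem_oP {H : Subgroup X} (hH : H ≤ G) (hR : R ≤ normalizer (H : Set X)) (hok : Ok p R H)
    {g s : X} (hg : g ∈ H) (hgT : g ∈ centralizer (oP p H : Set X)) (hs : s ∈ R) : ⁅g, s⁆ ∈ oP p H := by
  obtain ⟨hn1, hn2⟩ := comm_mem_yP hR hok hg hs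
  have hsT : s ∈ normalizer (oP p H : Set X) := normalizer_le_oP H (hR hs)
  have hnT : ⁅g, s⁆ ∈ centralizer (oP p H : Set X) := by
    rw [commutatorElement_def, mul_assoc, mul_assoc, ← mul_assoc s]
    exact mul_mem hgT ((mem_normalizer_iff.mp
      (Cfsg.Lib.Thompson.normalizer_le_normalizer_centralizer _ hsT) _).mp (inv_mem hgT))
  obtain ⟨t, z, ht, hz, hzo, htn, hzn, e⟩ := parts_of_centralizes hn1 hn2 hnT
  have hz1 : z = 1 := part_eq_one (oP_pgroup H) ht hsT (mem_centralizer_iff.mp (hok hs) z hz)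
    (commute_oP_F0 ht hz).symm hzo (order_cop I (hH (F0_le H hz)) hs) e.symm
  rw [← e, hz1, mul_one]
  exact ht

theorem commute_of_centralizes {H : Subgroup X} (hH : H ≤ G) (hR : R ≤ normalizer (H : Set X)) (hok : Ok p R H)
    {g s : X} (hg : g ∈ H) (ho : (orderOf g).Coprime p) (hgT : g ∈ centralizer (oP p H : Set X)) (hs : s ∈ R) :
    Commute g s := by
  have hn := comm_mem_oP I hH hR hok hg hgT hs
  exact commute_of_pElement ho (oP_pgroup H) hn (mem_centralizer_iff.mp hgT _ hn)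

omit I in
/-- the largest subgroup of the meet normalised by `R` and the centraliser of `a` -/
def uSub (p : ℕ) [Fact p.Prime] (R G : Subgroup X) (a : X) : Subgroup X :=
  sSup {V | V ≤ meet p R G ∧ R ≤ normalizer (V : Set X) ∧ G ⊓ centralizer ({a} : Set X) ≤ normalizer (V : Set X)}

omit I in
theorem uSub_le (a : X) : uSub p R G a ≤ meet p R G := sSup_le fun _ h => h.1

omit I in
theorem le_uSub {a : X} {V : Subgroup X} (h1 : V ≤ meet p R G) (h2 : R ≤ normalizer (V : Set X))
    (h3 : G ⊓ centralizer ({a} : Set X) ≤ normalizer (V : Set X)) : V ≤ uSub p R G a := le_sSup ⟨h1, h2, h3⟩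

/-- **the key step**: normalisers of suitable subgroups of the meet satisfy the conclusion -/
theorem ok_normalizer {a : X} (haR : a ∈ R) (ha : a ≠ 1) {V : Subgroup X} (hV : V ≤ meet p R G)
    (hVR : R ≤ normalizer (V : Set X)) (hVM : G ⊓ centralizer ({a} : Set X) ≤ normalizer (V : Set X))
    (hnc : ¬ V ≤ oP p G) (hcen : uSub p R G a ⊓ centralizer (V : Set X) ≤ V) :
    Ok p R (G ⊓ normalizer (V : Set X)) := by
  set H := G ⊓ normalizer (V : Set X) with hHd
  set D := F0 p H with hD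
  set M := G ⊓ centralizer ({a} : Set X) with hM
  have hMH : M ≤ H := le_inf inf_le_left hVM
  have hRH : R ≤ normalizer (H : Set X) :=
    Cfsg.Lib.Coprime.le_normalizer_inf I.norm (hVR.trans le_normalizer)
  have hVp : IsPGroup p V := meet_pgroup.to_le hV
  have hVH : V ≤ H := le_inf (hV.trans meet_le) le_normalizer
  have hDH : D ≤ H := F0_le H
  have hDG : D ≤ G := hDH.trans inf_le_left
  have hRD : R ≤ normalizer (D : Set X) := hRH.trans (normalizer_le_F0 H)
  have hHD : H ≤ normalizer (D : Set X) := le_normalizer_F0 H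
  have hVT : V ≤ oP p H := le_oP hVH inf_le_right hVp
  have hVD : ∀ v ∈ V, ∀ d ∈ D, Commute v d := fun v hv d hd => commute_oP_F0 (hVT hv) hd
  have hDV : D ≤ centralizer (V : Set X) := fun d hd => mem_centralizer_iff.mpr fun v hv => (hVD v hv d hd).eq
  have hFM : G ⊓ centralizer (R : Set X) ≤ M := fix_le_cen I haR
  have hRM : R ≤ normalizer (M : Set X) := R_norm_cen I haR
  have hokM : Ok p R M := I.loc a haR ha
  -- elements of `C_D(a)` are fixed modulo `V`
  have hCD : ∀ c ∈ D ⊓ M, ∀ s ∈ R, ⁅c, s⁆ ∈ V ⊓ D := by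
    rintro c ⟨hcD, hcM⟩ s hs
    set N := D ⊓ yP p M with hN
    have hMN : M ≤ normalizer (N : Set X) :=
      Cfsg.Lib.Coprime.le_normalizer_inf (hMH.trans hHD) (le_normalizer.trans (normalizer_le_yP M))
    have hRN : R ≤ normalizer (N : Set X) :=
      Cfsg.Lib.Coprime.le_normalizer_inf hRD (hRM.trans (normalizer_le_yP M))
    -- normal `p`-subgroups of `M` in `D`
    have hp' : ∀ W : Subgroup X, W ≤ D → IsPGroup p W → R ≤ normalizer (W : Set X) →
        M ≤ normalizer (W : Set X) → W ≤ V := by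
      intro W hWD hWp hWR hWM
      have hWU : W ≤ uSub p R G a :=
        le_sSup ⟨le_meet I (hWD.trans hDG) hWp hWR (hFM.trans hWM), hWR, hWM⟩
      exact (le_inf hWU (hWD.trans hDV)).trans hcen
    have hp'N : ∀ g ∈ N, (orderOf g).Coprime p → g ∈ F0 p M := by
      intro g hg ho
      refine mem_res (mem_gF_of_centralizes (yP_le M hg.2) hg.2.2 (mem_centralizer_iff.mpr fun t ht => ?_)) ho
      have hgn : g ∈ normalizer (oP p M : Set X) := le_normalizer_oP M (yP_le M hg.2)
      have hq1 : ⁅g, t⁆ ∈ oP p M := by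
        rw [commutatorElement_def]
        exact mul_mem ((mem_normalizer_iff.mp hgn t).mp ht) (inv_mem ht)
      have hq2 : ⁅g, t⁆ ∈ D := by
        rw [commutatorElement_def, mul_assoc, mul_assoc, ← mul_assoc t]
        exact mul_mem hg.1 ((mem_normalizer_iff.mp (hHD (hMH (oP_le M ht))) _).mp (inv_mem hg.1))
      have hW := hp' (oP p M ⊓ D) inf_le_right ((oP_pgroup M).to_le inf_le_left)
        (Cfsg.Lib.Coprime.le_normalizer_inf (hRM.trans (normalizer_le_oP M)) hRD)
        (Cfsg.Lib.Coprime.le_normalizer_inf (le_normalizer_oP M) (hMH.trans hHD)) ⟨hq1, hq2⟩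
      exact (commute_of_pElement ho (oP_pgroup M) hq1 (hVD _ hW g hg.1)).symm.eq
    have hnN : ⁅c, s⁆ ∈ N := by
      refine ⟨?_, comm_mem_yP hRM hokM hcM hs⟩
      rw [commutatorElement_def, mul_assoc, mul_assoc, ← mul_assoc s]
      exact mul_mem hcD ((mem_normalizer_iff.mp (hRD hs) _).mp (inv_mem hcD))
    obtain ⟨t, z, ht, hz, e, ⟨k, hk⟩, hzo⟩ := Cfsg.Lib.Transfer.exists_pPart p ⁅c, s⁆
    have htN : t ∈ N := zpowers_le.mpr hnN ht
    have hzF : z ∈ F0 p M := hp'N z (zpowers_le.mpr hnN hz) hzo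
    have hzt : Commute z t := mem_centralizer_iff.mp htN.2.2 z hzF
    have htS : t ∈ oP p N := pElement_mem_oP (p := p) (N := N)
      (fun g hg ho x hx => mem_centralizer_iff.mp hx.2.2 g (hp'N g hg ho)) htN (k := k)
      (by rw [← hk, pow_orderOf_eq_one])
    have htV : t ∈ V := hp' (oP p N) ((oP_le N).trans inf_le_left) (oP_pgroup N)
      (hRN.trans (normalizer_le_oP N)) (hMN.trans (normalizer_le_oP N)) htS
    have hz1 : z = 1 := part_eq_one hVp htV (hVR hs) (mem_centralizer_iff.mp (hokM hs) z hzF) hzt hzo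
      (order_cop I ((F0_le M hzF).1) hs) e.symm
    rw [← e, hz1, mul_one]
    exact ⟨htV, htN.1⟩
  -- the meet of `D` is normalised by `M`
  have hconj : ∀ h ∈ M, ∀ x ∈ meet p R D, h * x * h⁻¹ ∈ meet p R D := by
    intro h hh x hx
    have hhD : h ∈ normalizer (D : Set X) := hHD (hMH hh)
    refine ⟨(mem_normalizer_iff.mp hhD x).mp hx.1, fun S hS => ?_⟩
    obtain ⟨Q, hQ⟩ := maxInv_sylow I hDG hRD hS
    set S' := Cfsg.Lib.Coprime.conjMap h⁻¹ S with hS'
    have hS'D : S' ≤ D := by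
      have := Cfsg.Lib.Coprime.conjMap_mono (g := h⁻¹) hS.le
      rwa [Cfsg.Lib.Coprime.conjMap_eq_self (inv_mem hhD)] at this
    have hS'c : Nat.card S' = Nat.card S := Cfsg.Lib.Coprime.card_conjMap _ _
    have hSc : Nat.card S = p ^ (Nat.card D).factorization p := by
      rw [← hQ, Subgroup.card_map_of_injective D.subtype_injective, Q.card_eq_multiplicity]
    obtain ⟨T, hT, hS'T⟩ : ∃ T : Subgroup X, IsMaxInv p R D T ∧ S' ≤ T := by
      refine exists_maxInv hS'D ((hS.pgroup).map _) ?_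
      -- `S'` is `R`-invariant
      set Q' : Sylow p D := Sylow.ofCard (S'.subgroupOf D) (by
        rw [Nat.card_congr (subgroupOfEquivOfLe hS'D).toEquiv, hS'c, hSc]) with hQ'
      have hQ'm : (Q' : Subgroup D).map D.subtype = S' := by
        rw [hQ', Sylow.coe_ofCard, map_subgroupOf_eq_of_le hS'D]
      have hcopA : (Nat.card (zpowers a)).Coprime (Nat.card D) :=
        (cop_of_le I hDG).coprime_dvd_left (card_dvd_of_le (zpowers_le.mpr haR))
      have hAD : zpowers a ≤ normalizer (D : Set X) := (zpowers_le.mpr haR).trans hRD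
      obtain ⟨Q₀, hQ₀⟩ := Cfsg.Lib.Coprime.exists_invariant_sylow hRD (cop_of_le I hDG) (Or.inl (sol I)) p
      obtain ⟨c, hc, hcQ⟩ := Cfsg.Lib.Coprime.invariant_sylow_conj hAD hcopA (Or.inl inferInstance) p Q₀ Q'
        ((zpowers_le.mpr haR).trans hQ₀) (by
          rw [hQ'm, zpowers_le]
          have ha' : a ∈ normalizer (S : Set X) := hS.inv haR
          rw [← Cfsg.Lib.Coprime.conjMap_eq_self_iff, hS', Cfsg.Lib.Coprime.conjMap_mul,
            show a * h⁻¹ = h⁻¹ * a from ((show Commute a h from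
              (mem_centralizer_singleton_iff.mp hh.2).symm).inv_right).eq,
            ← Cfsg.Lib.Coprime.conjMap_mul, Cfsg.Lib.Coprime.conjMap_eq_self ha'])
      rw [← hQ'm, ← hcQ, Cfsg.Lib.Coprime.map_subtype_smul]
      set S₀ := (Q₀ : Subgroup D).map D.subtype
      intro s hs
      have hcM : (c : X) ∈ D ⊓ M := ⟨c.2, hDG c.2, mem_centralizer_singleton_iff.mpr
        (mem_centralizer_iff.mp hc a (mem_zpowers a)).symm⟩
      obtain ⟨hnV, hnD⟩ := hCD c hcM s hs
      have hS₀D : Cfsg.Lib.Coprime.conjMap (c : X) S₀ ≤ D := by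
        have := Cfsg.Lib.Coprime.conjMap_mono (g := (c : X)) (map_subtype_le (Q₀ : Subgroup D))
        rwa [Cfsg.Lib.Coprime.conjMap_eq_self (le_normalizer c.2)] at this
      have hnn : ⁅(c : X), s⁆⁻¹ ∈ normalizer (Cfsg.Lib.Coprime.conjMap (c : X) S₀ : Set X) :=
        inv_mem (centralizer_le_normalizer _ (mem_centralizer_iff.mpr fun y hy => (hVD _ hnV y (hS₀D hy)).symm.eq))
      rw [← Cfsg.Lib.Coprime.conjMap_eq_self_iff, Cfsg.Lib.Coprime.conjMap_mul,
        show s * (c : X) = ⁅(c : X), s⁆⁻¹ * ((c : X) * s) by rw [commutatorElement_def]; group,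
        ← Cfsg.Lib.Coprime.conjMap_mul, ← Cfsg.Lib.Coprime.conjMap_mul,
        Cfsg.Lib.Coprime.conjMap_eq_self (hQ₀ hs), Cfsg.Lib.Coprime.conjMap_eq_self hnn]
    obtain ⟨Q'', hQ''⟩ := maxInv_sylow I hDG hRD hT
    have hTS : S' = T := eq_of_le_of_card_ge hS'T (by
      rw [hS'c, hSc, ← hQ'', Subgroup.card_map_of_injective D.subtype_injective, Q''.card_eq_multiplicity])
    have hx' : x ∈ S' := hTS ▸ hx.2 T hT
    rw [hS', Cfsg.Lib.Coprime.mem_conjMap, inv_inv] at hx'
    exact hx'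
  have hSD : meet p R D ≤ V := by
    have hp : IsPGroup p (meet p R D) := meet_pgroup
    have hle : meet p R D ≤ D := meet_le
    have hR' : R ≤ normalizer (meet p R D : Set X) := meet_normalised_of hRD le_normalizer
    have hM' : M ≤ normalizer (meet p R D : Set X) := fun g hg =>
      Cfsg.Lib.Coprime.mem_normalizer_of_conj_mem (hconj g hg)
        fun x hx => by simpa using hconj g⁻¹ (inv_mem hg) x hx
    have hU : meet p R D ≤ uSub p R G a :=
      le_sSup ⟨le_meet I (hle.trans hDG) hp hR' (hFM.trans hM'), hR', hM'⟩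
    exact (le_inf hU (hle.trans hDV)).trans hcen
  -- the hypothesis passes to `D`
  have hDloc : Loc p R D := by
    intro y hyR hy s hs
    refine le_centralizer_res (fun g hg ho x hx => ?_) (show s ∈ ({s} : Set X) from rfl)
    obtain rfl := Set.mem_singleton_iff.mp hx
    obtain ⟨hgD, hgy⟩ := gF_le _ hg
    set My := G ⊓ centralizer ({y} : Set X)
    have hgM : g ∈ My := ⟨hDG hgD, hgy⟩
    have hT : oP p My ≤ meet p R G := oP_le_meet I inf_le_left (R_norm_cen I hyR)
      ((fix_le_cen I hyR).trans le_normalizer)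
    set J := V ⊔ oP p My
    have hJ : J ≤ meet p R G := sup_le hV hT
    have hJp : IsPGroup p J := meet_pgroup.to_le hJ
    have hgV : g ∈ centralizer (V : Set X) := hDV hgD
    have hgJ : g ∈ normalizer (J : Set X) := by
      rw [mem_normalizer_iff_map_conj_eq, Subgroup.map_sup,
        mem_normalizer_iff_map_conj_eq.mp (centralizer_le_normalizer _ hgV),
        mem_normalizer_iff_map_conj_eq.mp (le_normalizer_oP My hgM)]
    have hgc : J ≤ centralizer ({g} : Set X) := by
      refine Cfsg.Lib.Components.pxq_element ho hVp hgV J hJp (le_sup_left.trans le_normalizer) hgJ ?_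
      rintro w ⟨hwJ, hwV⟩
      have hwH : w ∈ H := ⟨meet_le (hJ hwJ), centralizer_le_normalizer _ hwV⟩
      have hq1 : ⁅g, w⁆ ∈ J := by
        rw [commutatorElement_def]
        exact mul_mem ((mem_normalizer_iff.mp hgJ w).mp hwJ) (inv_mem hwJ)
      have hq2 : ⁅g, w⁆ ∈ D := by
        rw [commutatorElement_def, mul_assoc, mul_assoc, ← mul_assoc w]
        exact mul_mem hgD ((mem_normalizer_iff.mp (hHD hwH) _).mp (inv_mem hgD))
      have hq3 : ⁅g, w⁆ ∈ V := hSD (InAll.restrict (hJ hq1) hDG hq2 hRD)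
      exact mem_centralizer_singleton_iff.mpr (commute_of_pElement ho hJp hq1 (hVD _ hq3 g hgD)).symm.eq
    exact commute_of_centralizes I inf_le_left (R_norm_cen I hyR) (I.loc y hyR hy) hgM ho
      (mem_centralizer_iff.mpr fun t ht => mem_centralizer_singleton_iff.mp (hgc (mem_sup_right ht))) hs
  have hne : D ≠ G := fun e => hnc (le_oP (hV.trans meet_le)
    (e.ge.trans (hDH.trans inf_le_right)) hVp)
  have := I.ih D hDG hne hRD hDloc
  show R ≤ centralizer (D : Set X)
  rwa [Ok, hD, F0_F0] at this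

/-- `Y` normalises the functor of the meet -/
theorem yP_normalised {H : Subgroup X} (hH : H ≤ G) (hR : R ≤ normalizer (H : Set X)) (hok : Ok p R H)
    (hC : G ⊓ centralizer (R : Set X) ≤ H) :
    yP p H ≤ normalizer (Cfsg.inducedFunctor Cfsg.kInfLower (meet p R G ⊓ H) : Set X) := by
  set Y := yP p H with hY
  set P := meet p R G ⊓ H with hPd
  set W := Cfsg.inducedFunctor Cfsg.kInfLower P with hWd
  set Zc := res p (Y ⊓ F0 p H) with hZd
  have hPp : IsPGroup p P := (meet_pgroup (p := p) (R := R) (G := G)).to_le inf_le_left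
  have hPY : P ≤ Y := meet_inf_le_yP I hH hR hok
  have hWP : W ≤ P := map_subtype_le _
  have hYH : Y ≤ H := yP_le H
  have hRY : R ≤ normalizer (Y : Set X) := hR.trans (normalizer_le_yP H)
  have hZY : Zc ≤ Y := (res_le _).trans inf_le_left
  have hZF : Zc ≤ F0 p H := (res_le _).trans inf_le_right
  have hZc : ∀ y ∈ Y, ∀ z ∈ Zc, Commute y z := fun y hy z hz => (mem_centralizer_iff.mp hy.2 z (hZF hz)).symm
  have hZo : ∀ z ∈ Zc, (orderOf z).Coprime p := by
    intro z hz
    induction hz using closure_induction with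
    | mem g hg => exact hg.2
    | one => simp
    | mul g g' hg hg' h h' =>
      exact Nat.Coprime.coprime_dvd_left
        (Commute.orderOf_mul_dvd_mul_orderOf (hZc g (hZY hg) g' hg')) (h.mul_left h')
    | inv g _ h => rwa [orderOf_inv]
  have hdisj : ∀ z ∈ Zc, ∀ S : Subgroup X, IsPGroup p S → z ∈ S → z = 1 := fun z hz S hS hzS => by
    obtain ⟨n, hn⟩ := hS ⟨z, hzS⟩
    exact eq_one_of_coprime_pow (pow_orderOf_eq_one z) (congrArg Subtype.val hn) ((hZo z hz).pow_right n)
  set Z := Y ⊔ R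
  have hZ1 : Y ≤ Z := le_sup_left
  have hZ2 : R ≤ Z := le_sup_right
  haveI : (Zc.subgroupOf Z).Normal := by
    refine (normal_subgroupOf_iff_le_normalizer (hZY.trans hZ1)).mpr (sup_le ?_ ?_)
    · exact fun y hy => centralizer_le_normalizer _ (mem_centralizer_iff.mpr fun z hz => (hZc y hy z hz).symm.eq)
    · exact fun s hs => centralizer_le_normalizer _
        (mem_centralizer_iff.mpr fun z hz => mem_centralizer_iff.mp (hok hs) z (hZF hz))
  set q := QuotientGroup.mk' (Zc.subgroupOf Z) with hq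
  have hker : ∀ v : Z, q v = 1 → (v : X) ∈ Zc := fun v hv => by
    have h : v ∈ Zc.subgroupOf Z := (QuotientGroup.eq_one_iff v).mp hv
    exact mem_subgroupOf.mp h
  set Yb := (Y.subgroupOf Z).map q with hYb
  by_cases hbot : Yb = ⊥
  · intro y hy
    refine centralizer_le_normalizer _ (mem_centralizer_iff.mpr fun w hw => ?_)
    have h1 : q ⟨y, hZ1 hy⟩ ∈ Yb := mem_map_of_mem q (mem_subgroupOf.mpr hy)
    rw [hbot, mem_bot] at h1
    exact (hZc w (hPY (hWP hw)) y (hker _ h1)).eq
  have hcards : (Nat.card (Y.subgroupOf Z)).Coprime (Nat.card (R.subgroupOf Z)) := by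
    rw [Nat.card_congr (subgroupOfEquivOfLe hZ1).toEquiv, Nat.card_congr (subgroupOfEquivOfLe hZ2).toEquiv]
    exact I.cop.coprime_dvd_left (card_dvd_of_le (hYH.trans hH))
  have hYn : R.subgroupOf Z ≤ normalizer (Y.subgroupOf Z : Set Z) := fun g hg => by
    rw [← subgroupOf_normalizer_eq hZ1]
    exact hRY hg
  have hCY : G ⊓ centralizer (R : Set X) ≤ normalizer (Y : Set X) := (hC.trans le_normalizer).trans (normalizer_le_yP H)
  have hqP : ∀ b, ∀ hb : b ∈ P, InAll p ((R.subgroupOf Z).map q) Yb (q ⟨b, hZ1 (hPY hb)⟩) := by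
    intro b hb
    refine InAll.map (f := q) hYn hcards (InAll.pullback (f := Z.subtype) Z.subtype_injective ?_)
    rw [map_subgroupOf_eq_of_le hZ2, map_subgroupOf_eq_of_le hZ1]
    exact InAll.restrict hb.1 (hYH.trans hH) (hPY hb) hRY
  set Pb := (P.subgroupOf Z).map q with hPb
  have hPZ : P ≤ Z := hPY.trans hZ1
  have hPbY : Pb ≤ Yb := map_mono fun v hv => hPY hv
  -- the core of the image
  set O := oP p Yb with hO
  have hOP : O ≤ Pb := by
    intro o ho
    obtain ⟨v, hv, rfl⟩ := oP_le Yb ho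
    have hvY : (v : X) ∈ Y := hv
    set O' := Y ⊓ (O.comap q).map Z.subtype with hO'
    have hvO' : (v : X) ∈ O' := ⟨hvY, ⟨v, ho, rfl⟩⟩
    have hpp : ∀ g ∈ O', (orderOf g).Coprime p → g ∈ Zc := by
      rintro _ ⟨-, w, hw, rfl⟩ hgo
      refine hker w ?_
      obtain ⟨n, hn⟩ := (oP_pgroup (p := p) Yb) ⟨_, hw⟩
      rw [Subgroup.coe_subtype, Subgroup.orderOf_coe] at hgo
      exact eq_one_of_coprime_pow (show q w ^ orderOf w = 1 by rw [← map_pow, pow_orderOf_eq_one, map_one])
        (congrArg Subtype.val hn) (hgo.pow_right n)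
    obtain ⟨t, z, ht, hz, e, ⟨k, hk⟩, hzo⟩ := Cfsg.Lib.Transfer.exists_pPart p (v : X)
    have hzZ : z ∈ Zc := hpp z (zpowers_le.mpr hvO' hz) hzo
    have htO : t ∈ oP p O' := pElement_mem_oP (p := p) (N := O')
      (fun g hg hgo x hx => (hZc x hx.1 g (hpp g hg hgo)).symm) (zpowers_le.mpr hvO' ht) (k := k)
      (by rw [← hk, pow_orderOf_eq_one])
    have hnormO : ∀ g : Z, q g ∈ normalizer (O : Set _) → (g : X) ∈ normalizer (Y : Set X) →
        (g : X) ∈ normalizer (O' : Set X) := by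
      intro g hg hgY
      refine Cfsg.Lib.Coprime.le_normalizer_inf (H := zpowers (g : X)) (zpowers_le.mpr hgY) ?_ (mem_zpowers _)
      rw [zpowers_le]
      refine le_normalizer_map Z.subtype (mem_map_of_mem Z.subtype ?_)
      rw [mem_normalizer_iff] at hg ⊢
      intro w
      simp only [mem_comap, map_mul, map_inv]
      exact hg _
    have hYO : Y ≤ normalizer (O' : Set X) := fun y hy => hnormO ⟨y, hZ1 hy⟩
      (le_normalizer_oP Yb (mem_map_of_mem q (mem_subgroupOf.mpr hy))) (le_normalizer hy)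
    have hRO : R ≤ normalizer (O' : Set X) := fun s hs => hnormO ⟨s, hZ2 hs⟩
      (normalizer_le_oP Yb (le_normalizer_map q ⟨⟨s, hZ2 hs⟩, hYn (mem_subgroupOf.mpr hs), rfl⟩)) (hRY hs)
    have htM : t ∈ meet p R G :=
      oP_le_meet I (hYH.trans hH) hRY hCY
        (le_oP ((oP_le O').trans inf_le_left) (hYO.trans (normalizer_le_oP O')) (oP_pgroup O') htO)
    have htY : t ∈ Y := (zpowers_le.mpr hvY) ht
    refine ⟨⟨t, hZ1 htY⟩, mem_subgroupOf.mpr ⟨htM, hYH htY⟩, ?_⟩
    have hz1 : q ⟨z, hZ1 (hZY hzZ)⟩ = 1 := (QuotientGroup.eq_one_iff _).mpr (mem_subgroupOf.mpr hzZ)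
    rw [show v = ⟨t, hZ1 htY⟩ * ⟨z, hZ1 (hZY hzZ)⟩ from Subtype.ext e.symm, map_mul q, hz1, mul_one]
  have hTY : oP p H ≤ Y := oP_le_yP H
  have hcent : centralizer (Cfsg.pCore p Yb : Set Yb) ≤ Cfsg.pCore p Yb := by
    rintro ⟨x, v, hv, rfl⟩ hx
    have hvY : (v : X) ∈ Y := hv
    have hvH : (v : X) ∈ H := hYH hvY
    have hTb : ∀ t (ht : t ∈ oP p H), q ⟨t, hZ1 (hTY ht)⟩ ∈ O := by
      intro t ht
      refine le_oP (V := ((oP p H).subgroupOf Z).map q) (map_mono fun w hw => hTY hw) ?_ (((oP_pgroup H).of_equiv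
        (subgroupOfEquivOfLe (hTY.trans hZ1)).symm).map q)
        (mem_map_of_mem q (show (⟨t, hZ1 (hTY ht)⟩ : Z) ∈ (oP p H).subgroupOf Z from ht))
      refine (map_mono ?_).trans (le_normalizer_map q)
      intro g hg
      rw [← subgroupOf_normalizer_eq (hTY.trans hZ1)]
      exact le_normalizer_oP H (hYH hg)
    have hvT : (v : X) ∈ centralizer (oP p H : Set X) := mem_centralizer_iff.mpr fun t ht => by
      obtain ⟨t', ht', et⟩ := hTb t ht
      have h1 := congrArg Subtype.val (mem_centralizer_iff.mp hx t' ht')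
      have h2 : q ⁅v, (⟨t, hZ1 (hTY ht)⟩ : Z)⁆ = 1 := by
        rw [map_commutatorElement, commutatorElement_eq_one_iff_mul_comm, ← et]
        exact h1.symm
      have h3 : ⁅(v : X), t⁆ ∈ oP p H := by
        rw [commutatorElement_def]
        exact mul_mem ((mem_normalizer_iff.mp (le_normalizer_oP H hvH) t).mp ht) (inv_mem ht)
      exact (commutatorElement_eq_one_iff_mul_comm.mp (hdisj _ (hker _ h2) _ (oP_pgroup H) h3)).symm
    obtain ⟨t, z, ht, hz, hzo, -, hzv, e⟩ := parts_of_centralizes hvH hvY.2 hvT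
    have hzZ : z ∈ Zc := mem_res ⟨zpowers_le.mpr hvY hzv, hz⟩ hzo
    have hz1 : q ⟨z, hZ1 (hZY hzZ)⟩ = 1 := (QuotientGroup.eq_one_iff _).mpr (mem_subgroupOf.mpr hzZ)
    have hqv : q v ∈ O := by
      rw [show v = ⟨t, hZ1 (hTY ht)⟩ * ⟨z, hZ1 (hZY hzZ)⟩ from Subtype.ext e.symm, map_mul q, hz1, mul_one]
      exact hTb t ht
    obtain ⟨w, hw, ew⟩ := hqv
    have hwe : w = ⟨q v, mem_map_of_mem q hv⟩ := Subtype.ext ew
    exact hwe ▸ hw
  have hmain := meet_normalised_all I.p5 Yb ((R.subgroupOf Z).map q)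
    ((hcards.coprime_dvd_left (card_map_dvd _ q)).coprime_dvd_right (card_map_dvd _ q))
    ((map_mono hYn).trans (le_normalizer_map q)) hbot hcent Pb hPbY hOP
    ((hPp.of_equiv (subgroupOfEquivOfLe hPZ).symm).map q) (by
      rintro _ ⟨v, hv, rfl⟩
      exact hqP v hv)
  have hinj : Set.InjOn q (P.subgroupOf Z : Set Z) := by
    intro v hv w hw evw
    have h1 : q (v⁻¹ * w) = 1 := by rw [map_mul, map_inv, evw, inv_mul_cancel]
    have h2 : ((v⁻¹ * w : Z) : X) ∈ P := by
      rw [Subgroup.coe_mul, Subgroup.coe_inv]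
      exact mul_mem (inv_mem (show (v : X) ∈ P from hv)) (show (w : X) ∈ P from hw)
    have h3 : v⁻¹ * w = 1 := Subtype.ext (hdisj _ (hker _ h1) P hPp h2)
    exact inv_mul_eq_one.mp h3
  have hPp' : IsPGroup p (P.subgroupOf Z) := hPp.of_equiv (subgroupOfEquivOfLe hPZ).symm
  rw [← Cfsg.Lib.Functor.map_induced KInf.isCharPFunctor_lower hPp' hinj] at hmain
  have hsub : (Cfsg.inducedFunctor Cfsg.kInfLower (P.subgroupOf Z)).map Z.subtype = W := by
    rw [Cfsg.Lib.Functor.map_induced KInf.isCharPFunctor_lower hPp' Z.subtype_injective.injOn,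
      map_subgroupOf_eq_of_le hPZ]
  have key : ∀ y ∈ Y, ∀ w ∈ W, y * w * y⁻¹ ∈ W := by
    intro y hy w hw
    rw [← hsub] at hw
    obtain ⟨w', hw', rfl⟩ := hw
    have hyZ : q ⟨y, hZ1 hy⟩ ∈ Yb := mem_map_of_mem q (mem_subgroupOf.mpr hy)
    obtain ⟨u', hu', eu⟩ := (mem_normalizer_iff.mp (hmain hyZ) _).mp (mem_map_of_mem q hw')
    set b : Z := ⟨y, hZ1 hy⟩ * w' * (⟨y, hZ1 hy⟩ : Z)⁻¹ with hb
    have hqb : q b = q u' := by rw [hb, map_mul, map_mul, map_inv, eu]
    have hu'W : (u' : X) ∈ W := hsub ▸ mem_map_of_mem Z.subtype hu'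
    have hzc : ((u'⁻¹ * b : Z) : X) ∈ Zc := hker _ (by rw [map_mul, map_inv, hqb, inv_mul_cancel])
    rw [Subgroup.coe_mul, Subgroup.coe_inv] at hzc
    obtain ⟨n₁, hn₁⟩ := hPp ⟨u', hWP hu'W⟩
    have hw'P : (w' : X) ∈ P := (Cfsg.Lib.Functor.induced_le (W := Cfsg.kInfLower) _ hw' : w' ∈ P.subgroupOf Z)
    obtain ⟨n₂, hn₂⟩ := hPp ⟨w', hw'P⟩
    have hu1 : (u' : X) ^ p ^ n₁ = 1 := congrArg Subtype.val hn₁
    have hw1 : (w' : X) ^ p ^ n₂ = 1 := congrArg Subtype.val hn₂
    have hbv : (b : X) = y * w' * y⁻¹ := by rw [hb]; simp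
    have hb1 : (b : X) ^ p ^ n₂ = 1 := by rw [hbv, conj_pow, hw1, mul_one, mul_inv_cancel]
    have hcomm : Commute (b : X) (u' : X)⁻¹ := by
      have := (hZc u' (hPY (hWP hu'W)) _ hzc).inv_left
      have hbu : (b : X) = (u' : X) * ((u' : X)⁻¹ * b) := by group
      rw [hbu]
      exact (((Commute.refl (u' : X)).inv_right).mul_left this.symm)
    have hz1 : (u' : X)⁻¹ * b = 1 := by
      refine eq_one_of_coprime_pow (pow_orderOf_eq_one _) (k := p ^ (n₁ + n₂)) ?_ ((hZo _ hzc).pow_right _)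
      rw [hcomm.symm.mul_pow, inv_pow, pow_add, pow_mul, hu1, one_pow, inv_one, mul_comm (p ^ n₁), pow_mul, hb1,
        one_pow, one_mul]
    rw [inv_mul_eq_one] at hz1
    show y * (w' : X) * y⁻¹ ∈ W
    rw [← hbv, ← hz1]
    exact hu'W
  exact fun y hy => Cfsg.Lib.Coprime.mem_normalizer_of_conj_mem (key y hy)
    fun w hw => by simpa using key y⁻¹ (inv_mem hy) w hw

/-- `H` normalises the functor of its meet -/
theorem normalised_of_ok {H : Subgroup X} (hH : H ≤ G) (hR : R ≤ normalizer (H : Set X)) (hok : Ok p R H)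
    (hC : G ⊓ centralizer (R : Set X) ≤ H) :
    H ≤ normalizer (Cfsg.inducedFunctor Cfsg.kInfLower (meet p R G ⊓ H) : Set X) := by
  intro h hh
  obtain ⟨d, hd, hfix⟩ := Cfsg.Lib.Coprime.exists_fixed_in_coset (hR.trans (normalizer_le_yP H))
    (cop_of_le I ((yP_le H).trans hH)) (Or.inl (sol I)) (k := h) (fun s hs => by
      have := comm_mem_yP hR hok (inv_mem hh) hs
      rwa [commutatorElement_def, inv_inv] at this)
  have hcd : h * d ∈ G ⊓ centralizer (R : Set X) := ⟨mul_mem (hH hh) (hH (yP_le H hd)), hfix⟩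
  have h1 : h * d ∈ normalizer (meet p R G ⊓ H : Subgroup X) :=
    Cfsg.Lib.Coprime.le_normalizer_inf fix_norm_meet (hC.trans le_normalizer) hcd
  have h2 := Cfsg.Lib.Functor.normalizer_le_normalizer_induced (KInf.isCharPFunctor_lower (p := p))
    (meet_pgroup.to_le inf_le_left) h1
  simpa using mul_mem h2 (inv_mem (yP_normalised I hH hR hok hC hd))

omit I in
theorem self_central {P : Subgroup X} (hP : IsPGroup p P) {x : X} (hx : x ∈ P)
    (hc : x ∈ centralizer (Cfsg.inducedFunctor Cfsg.kInfLower P : Set X)) :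
    x ∈ Cfsg.inducedFunctor Cfsg.kInfLower P :=
  ⟨⟨x, hx⟩, (KInf.kInf_self_central hP).1 (mem_centralizer_iff.mpr fun w hw => Subtype.ext
    (mem_centralizer_iff.mp hc _ (mem_map_of_mem P.subtype hw))), rfl⟩

theorem central_oP {z g : X} (hz : z ∈ oP p G) (hg : g ∈ G) : Commute z g := commute_oP_F0 hz (I.top.ge hg)

/-- climbing to the whole meet -/
theorem climb_meet {a : X} (haR : a ∈ R) (ha : a ≠ 1) (hU : ¬ uSub p R G a ≤ oP p G) :
    ∀ (n : ℕ) (H : Subgroup X), Nat.card (meet p R G) - Nat.card ↥(meet p R G ⊓ H) = n →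
      H ≤ G → R ≤ normalizer (H : Set X) → Ok p R H → G ⊓ centralizer ({a} : Set X) ≤ H →
      uSub p R G a ≤ H →
      G ⊓ centralizer ({a} : Set X) ≤ normalizer (Cfsg.inducedFunctor Cfsg.kInfLower (meet p R G) : Set X) := by
  intro n
  induction n using Nat.strong_induction_on with
  | _ n ih =>
  intro H hn hH hR hok hMH hUH
  set P := meet p R G ⊓ H with hP
  have hHW := normalised_of_ok I hH hR hok ((fix_le_cen I haR).trans hMH)
  by_cases hfull : meet p R G ≤ H
  · rw [inf_eq_left.mpr hfull] at hHW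
    exact hMH.trans hHW
  set W := Cfsg.inducedFunctor Cfsg.kInfLower P with hW
  have hPp : IsPGroup p P := (meet_pgroup (p := p) (R := R) (G := G)).to_le inf_le_left
  have hWP : W ≤ P := map_subtype_le _
  have hRP : R ≤ normalizer (P : Set X) := Cfsg.Lib.Coprime.le_normalizer_inf (R_norm_meet I) hR
  have hRW : R ≤ normalizer (W : Set X) := hRP.trans
    (Cfsg.Lib.Functor.normalizer_le_normalizer_induced (KInf.isCharPFunctor_lower (p := p)) hPp)
  have hUP : uSub p R G a ≤ P := le_inf (uSub_le a) hUH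
  have hWc : ¬ W ≤ oP p G := fun h => by
    refine hU (hUP.trans (fun x hx => h (self_central hPp hx ?_)))
    exact mem_centralizer_iff.mpr fun w hw => (central_oP I (h hw) (meet_le hx.1)).eq
  have hok' := ok_normalizer I haR ha (hWP.trans inf_le_left) hRW (hMH.trans hHW) hWc
    (fun x hx => self_central hPp (hUP hx.1) hx.2)
  set H' := G ⊓ normalizer (W : Set X) with hH'
  have hHH' : H ≤ H' := le_inf hH hHW
  refine ih (Nat.card (meet p R G) - Nat.card ↥(meet p R G ⊓ H')) ?_ H' rfl inf_le_left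
    (Cfsg.Lib.Coprime.le_normalizer_inf I.norm (hRW.trans le_normalizer)) hok' (hMH.trans hHH') (hUH.trans hHH')
  -- growth
  haveI := (meet_pgroup (p := p) (R := R) (G := G)).isNilpotent
  have hlt : P.subgroupOf (meet p R G) < ⊤ := lt_top_iff_ne_top.mpr fun h =>
    hfull ((subgroupOf_eq_top.mp h).trans inf_le_right)
  obtain ⟨x, hxn, hxP⟩ := SetLike.exists_of_lt (Group.normalizerCondition_of_isNilpotent (G := meet p R G) _ hlt)
  rw [← subgroupOf_normalizer_eq inf_le_left] at hxn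
  have hxH' : (x : X) ∈ H' := ⟨meet_le x.2,
    Cfsg.Lib.Functor.normalizer_le_normalizer_induced (KInf.isCharPFunctor_lower (p := p)) hPp hxn⟩
  have h1 : Nat.card ↥(meet p R G ⊓ H') ≤ Nat.card (meet p R G) :=
    Nat.le_of_dvd Nat.card_pos (card_dvd_of_le inf_le_left)
  have h2 : Nat.card P < Nat.card ↥(meet p R G ⊓ H') := by
    refine Set.Finite.card_lt_card (Set.toFinite _) (SetLike.coe_ssubset_coe.mpr
      (lt_of_le_of_ne (inf_le_inf_left _ hHH') fun e => hxP ?_))
    show (x : X) ∈ P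
    rw [show P = meet p R G ⊓ H' from e]
    exact ⟨x.2, hxH'⟩
  have h2' : Nat.card ↥(meet p R G ⊓ H) < Nat.card ↥(meet p R G ⊓ H') := h2
  omega

/-- the centraliser of `a` normalises the functor of the meet, or is fixed modulo the centre -/
theorem cen_cases {a : X} (haR : a ∈ R) (ha : a ≠ 1) :
    (uSub p R G a ≤ oP p G →
      G ⊓ centralizer ({a} : Set X) ≤ (G ⊓ centralizer (R : Set X)) ⊔ oP p G) ∧
    (¬ uSub p R G a ≤ oP p G →
      G ⊓ centralizer ({a} : Set X) ≤ normalizer (Cfsg.inducedFunctor Cfsg.kInfLower (meet p R G) : Set X)) := by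
  set M := G ⊓ centralizer ({a} : Set X) with hM
  have hRM : R ≤ normalizer (M : Set X) := R_norm_cen I haR
  constructor
  · intro hU g hg
    have hT : oP p M ≤ oP p G := le_trans (le_uSub (oP_le_meet I inf_le_left hRM ((fix_le_cen I haR).trans le_normalizer))
      (hRM.trans (normalizer_le_oP M)) (le_normalizer_oP M)) hU
    obtain ⟨d, hd, hfix⟩ := Cfsg.Lib.Coprime.exists_fixed_in_coset (I.norm.trans (normalizer_le_oP G))
      (cop_of_le I (oP_le G)) (Or.inl (sol I)) (k := g) (fun s hs => by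
        have := comm_mem_oP I inf_le_left hRM (I.loc a haR ha) (inv_mem hg)
          (mem_centralizer_iff.mpr fun t ht => (central_oP I (hT ht) (inv_mem hg.1)).eq) hs
        rw [commutatorElement_def, inv_inv] at this
        exact hT this)
    rw [show g = g * d * d⁻¹ by group]
    exact mul_mem (mem_sup_left ⟨mul_mem hg.1 (oP_le G hd), hfix⟩) (mem_sup_right (inv_mem hd))
  · intro hU
    set U := uSub p R G a with hUd
    have hUR : R ≤ normalizer (U : Set X) := sSup_normalised fun V hV => hV.2.1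
    have hUM : M ≤ normalizer (U : Set X) := sSup_normalised fun V hV => hV.2.2
    have hok := ok_normalizer I haR ha (uSub_le a) hUR hUM hU inf_le_left
    exact climb_meet I haR ha hU _ (G ⊓ normalizer (U : Set X)) rfl inf_le_left
      (Cfsg.Lib.Coprime.le_normalizer_inf I.norm (hUR.trans le_normalizer)) hok (le_inf inf_le_left hUM)
      (le_inf ((uSub_le a).trans meet_le) le_normalizer)

/-- the conclusion for a minimal counterexample -/
theorem centralises_of_inp (hab : IsMulCommutative R) (hnc : ¬ IsCyclic R) : R ≤ centralizer (G : Set X) := by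
  haveI := hab
  have hgen : G ≤ Cfsg.Lib.Coprime.centralizerJoin R G :=
    (Cfsg.Lib.Coprime.centralizerJoin_eq hnc I.norm (cop_of_le I le_rfl)).ge
  set W := Cfsg.inducedFunctor Cfsg.kInfLower (meet p R G) with hW
  have hmp : IsPGroup p (meet p R G) := meet_pgroup
  have hCW : G ⊓ centralizer (R : Set X) ≤ normalizer (W : Set X) := fix_norm_meet.trans
    (Cfsg.Lib.Functor.normalizer_le_normalizer_induced (KInf.isCharPFunctor_lower (p := p)) hmp)
  have hWG : W ≤ G := (map_subtype_le _).trans meet_le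
  have hGW : G ≤ normalizer (W : Set X) := hgen.trans (iSup₂_le fun a ha => by
    obtain ⟨haR, ha1⟩ := ha
    by_cases hU : uSub p R G a ≤ oP p G
    · refine ((cen_cases I haR ha1).1 hU).trans (sup_le hCW fun z hz => centralizer_le_normalizer _ ?_)
      exact mem_centralizer_iff.mpr fun w hw => (central_oP I hz (hWG hw)).symm.eq
    · exact (cen_cases I haR ha1).2 hU)
  have hmZ : meet p R G ≤ oP p G := fun x hx => by
    have hWZ : W ≤ oP p G := le_oP hWG hGW (hmp.to_le (map_subtype_le _))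
    exact hWZ (self_central hmp hx (mem_centralizer_iff.mpr fun w hw => (central_oP I (hWZ hw) (meet_le hx)).eq))
  have hall : G ≤ (G ⊓ centralizer (R : Set X)) ⊔ oP p G := hgen.trans (iSup₂_le fun a ha =>
    (cen_cases I ha.1 ha.2).1 ((uSub_le a).trans hmZ))
  have hfix : G ≤ centralizer (R : Set X) := by
    refine I.top.ge.trans (res_le_iff.mpr fun g hg ho => ?_)
    have hn : oP p G ≤ normalizer ((G ⊓ centralizer (R : Set X) : Subgroup X) : Set X) := fun z hz =>
      centralizer_le_normalizer _ (mem_centralizer_iff.mpr fun c hc => (central_oP I hz hc.1).symm.eq)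
    obtain ⟨c, hc, z, hz, e⟩ := (Cfsg.Lib.Coprime.mem_sup_of_le_normalizer hn).mp (hall (gF_le G hg))
    have hcz : Commute c z := (central_oP I hz hc.1).symm
    obtain ⟨k, hk⟩ := oP_pgroup (p := p) G ⟨z, hz⟩
    have hk' : z ^ p ^ k = 1 := congrArg Subtype.val hk
    obtain ⟨m, hm⟩ := exists_pow_eq_self_of_coprime (x := z) (n := orderOf g)
      ((ho.pow_right k).coprime_dvd_right (orderOf_dvd_of_pow_eq_one hk'))
    have hzc : z ^ orderOf g ∈ centralizer (R : Set X) := by
      have h1 : (c * z) ^ orderOf g = 1 := by rw [e, pow_orderOf_eq_one]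
      rw [hcz.mul_pow] at h1
      rw [eq_inv_of_mul_eq_one_right h1]
      exact inv_mem (pow_mem hc.2 _)
    rw [← e, ← hm]
    exact mul_mem hc.2 (pow_mem hzc _)
  exact le_centralizer_iff.mp hfix

omit I in
/-- **the theorem** -/
theorem ok_of_loc (hp5 : 5 ≤ p) (hab : IsMulCommutative R) (hnc : ¬ IsCyclic R) :
    ∀ (n : ℕ) (G : Subgroup X), Nat.card G = n → R ≤ normalizer (G : Set X) →
      (Nat.card G).Coprime (Nat.card R) → Loc p R G → Ok p R G := by
  intro n
  induction n using Nat.strong_induction_on with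
  | _ n ih =>
  intro G hn hR hcop hloc
  have hrec : ∀ D : Subgroup X, D ≤ G → D ≠ G → R ≤ normalizer (D : Set X) → Loc p R D → Ok p R D := by
    intro D hD hne hRD hlD
    exact ih (Nat.card D) (hn ▸ Set.Finite.card_lt_card (Set.toFinite _)
      (SetLike.coe_ssubset_coe.mpr (lt_of_le_of_ne hD hne))) D rfl hRD
      (hcop.coprime_dvd_left (card_dvd_of_le hD)) hlD
  by_cases htop : F0 p G = G
  · have hI : Inp p R G := ⟨hp5, fun s hs t ht => congrArg Subtype.val
      ((hab.is_comm.comm ⟨s, hs⟩ ⟨t, ht⟩ : (⟨s, hs⟩ : R) * ⟨t, ht⟩ = ⟨t, ht⟩ * ⟨s, hs⟩)), hR, hcop, hloc, hrec, htop⟩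
    rw [Ok, htop]
    exact centralises_of_inp hI hab hnc
  have h := hrec (F0 p G) (F0_le G) htop (hR.trans (normalizer_le_F0 G)) (fun a haR ha => by
    refine (hloc a haR ha).trans (centralizer_le ?_)
    refine F0_mono (inf_le_inf_right _ (F0_le G)) (Cfsg.Lib.Coprime.le_normalizer_inf
      (inf_le_left.trans (le_normalizer_F0 G)) (inf_le_right.trans le_normalizer)))
  rwa [Ok, F0_F0] at h

end Cfsg.Lib.CapSylow
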