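import Cfsg.Agent.CapSylow.Opp

/-!
A fixed pair in a component: elements common to all invariant maximal `p`-subgroups of the component.
-/

set_option autoImplicit false
set_option linter.style.haveILetI false
set_option linter.unusedSectionVars false
set_option linter.unusedVariables false

namespace Cfsg.Lib.CapSylow

open Cfsg Cfsg.Lib.QuadPair Cfsg.Lib.CoprimeZJ
open Subgroup

variable {p : ℕ} [Fact p.Prime] {M : Type*} [AddCommGroup M] [Module (ZMod p) M] [Finite M]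
  [FiniteDimensional (ZMod p) M]

local notation "End'" => (M →ₗ[ZMod p] M)
local notation "GL'" => LinearMap.GeneralLinearGroup (ZMod p) M

instance finite_glp : Finite GL' := by
  haveI : Finite End' := DFunLike.finite _
  exact Finite.of_injective (fun g : GL' => (g : End')) fun _ _ h => Units.ext h

/-- the induction hypothesis -/
def IHyp (p : ℕ) (M : Type*) [AddCommGroup M] [Module (ZMod p) M] (n : ℕ) : Prop :=
  ∀ G' Γ' : Subgroup (LinearMap.GeneralLinearGroup (ZMod p) M), Nat.card G' < n →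
    Γ' ≤ normalizer (G' : Set (LinearMap.GeneralLinearGroup (ZMod p) M)) →
    (Nat.card G').Coprime (Nat.card Γ') → ∀ (u : M →ₗ[ZMod p] M) (hu : u * u = 0),
    InAll p Γ' G' (xu u hu) → InCore p G' (xu u hu)

/-- a fixed pair in a component -/
structure Ctx (H G Γ A₀ : Subgroup (LinearMap.GeneralLinearGroup (ZMod p) M)) (a c : M →ₗ[ZMod p] M) : Prop where
  hp5 : 5 ≤ p
  S : Setting H G Γ
  ih : IHyp p M (Nat.card G)
  hA₀ : A₀ ∈ quadraticRootSubgroups H
  ha : MinEl H a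
  hc : MinEl H c
  hI : Inv2 a c
  haA : rootOf ha ∈ part H A₀
  hcA : rootOf hc ∈ part H A₀
  fix : ∀ g ∈ Γ, conjBy A₀ g ∈ part H A₀ → cj g a = a ∧ cj g c = c

variable {H G Γ A₀ : Subgroup (LinearMap.GeneralLinearGroup (ZMod p) M)} {a c : M →ₗ[ZMod p] M}

theorem two_ne (hp5 : 5 ≤ p) : (2 : ZMod p) ≠ 0 := fun e => by
  have := (ZMod.natCast_eq_zero_iff 2 p).mp (by exact_mod_cast e)
  have := Nat.le_of_dvd (by norm_num) this
  omega

theorem card_ne (hp5 : 5 ≤ p) : Nat.card (ZMod p) ≠ 3 := by rw [Nat.card_zmod]; omega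

theorem exists_lam (hp5 : 5 ≤ p) :
    ∃ l : (ZMod p)ˣ, ∀ j : ℕ, 1 ≤ j → j ≤ 3 → (l : ZMod p) ^ j ≠ 1 := by
  haveI : IsCyclic (ZMod p)ˣ := inferInstance
  obtain ⟨g, hg⟩ := IsCyclic.exists_generator (α := (ZMod p)ˣ)
  refine ⟨g, fun j hj hj3 e => ?_⟩
  have hord : orderOf g = p - 1 := by
    rw [orderOf_eq_card_of_forall_mem_zpowers hg, Nat.card_eq_fintype_card, ZMod.card_units p]
  have h := orderOf_dvd_of_pow_eq_one (x := g) (n := j) (Units.ext (by simpa using e))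
  have := Nat.le_of_dvd (by omega) h
  omega

theorem xu_pow_p {u : End'} (hu : u * u = 0) : xu u hu ^ p = 1 := by
  rw [xu_pow]
  exact Units.ext (by rw [xu_val, ZMod.natCast_self, zero_smul, add_zero, Units.val_one])

theorem isPGroup_zpowers {g : GL'} {n : ℕ} (h : g ^ p ^ n = 1) : IsPGroup p (zpowers g) := by
  rintro ⟨x, i, rfl⟩
  refine ⟨n, Subtype.ext ?_⟩
  show (g ^ i) ^ p ^ n = 1
  rw [← zpow_natCast, ← zpow_mul, mul_comm, zpow_mul, zpow_natCast, h, one_zpow]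

theorem isPGroup_zpowers_xu {u : End'} (hu : u * u = 0) : IsPGroup p (zpowers (xu u hu)) :=
  isPGroup_zpowers (n := 1) (by rw [pow_one]; exact xu_pow_p hu)

theorem cj_xu_fix {u x : End'} (hu : u * u = 0) (h : x * u = u * x) : cj (xu u hu) x = x := by
  rw [cj, conj_one_add, h, sub_self, add_zero, mul_assoc, h, ← mul_assoc, hu, zero_mul, sub_zero]

theorem xu_commute {u v : End'} (hu : u * u = 0) (hv : v * v = 0) :
    xu u hu * xu v hv = xu v hv * xu u hu ↔ u * v = v * u := by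
  rw [unit_commute_iff, xu_sub_one, xu_sub_one]

theorem conj_fix {g : GL'} {u : End'} (hu : u * u = 0) (h : cj g u = u) : g * xu u hu * g⁻¹ = xu u hu :=
  Units.ext (by
    rw [Units.val_mul, Units.val_mul, xu_val, mul_add, add_mul, mul_one, Units.mul_inv]
    exact congrArg (1 + ·) h)

theorem nilp_xu {S : Subgroup GL'} (hS : IsPGroup p S) {u r : End'} (hu : u * u = 0) (hr : r * r = 0)
    (h1 : xu u hu ∈ S) (h2 : xu r hr ∈ S) : IsNilpotent (u * r) := by
  have := nilp_of_pgroup hS h1 h2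
  rwa [xu_sub_one, xu_sub_one] at this

theorem InCore.nilp {K : Subgroup GL'} {u r : End'} (hu : u * u = 0) (hr : r * r = 0)
    (h : InCore p K (xu u hu)) (hrK : xu r hr ∈ K) : IsNilpotent (r * u) := by
  obtain ⟨N, hNK, hNp, hnorm, huN⟩ := h
  exact nilp_xu (InCore.pgroup_sup hNp hnorm (zpowers_le.mpr hrK) (isPGroup_zpowers_xu hr)) hr hu
    (mem_sup_left (mem_zpowers _)) (mem_sup_right huN)

/-- a member of the centre of the group of roots of `p`-power order is trivial -/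
theorem central_eq_one (hs : Semi H) {z : GL'} (hz : z ∈ rootGroup H)
    (hzc : z ∈ centralizer (rootGroup H : Set GL')) {n : ℕ} (hzp : z ^ p ^ n = 1) : z = 1 := by
  have hroot : rootGroup H ≤ H := sup_le_group
  let U : Subgroup GL' :=
    { carrier := {g | g ∈ rootGroup H ⊓ centralizer (rootGroup H : Set GL') ∧ ∃ n : ℕ, g ^ p ^ n = 1}
      one_mem' := ⟨one_mem _, 0, one_pow _⟩
      mul_mem' := fun {g h} hg hh => by
        obtain ⟨hg', m, hm⟩ := hg
        obtain ⟨hh', l, hl⟩ := hh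
        have hcm : Commute g h := mem_centralizer_iff.mp hh'.2 g hg'.1
        refine ⟨mul_mem hg' hh', m + l, ?_⟩
        rw [hcm.mul_pow, pow_add, pow_mul, hm, one_pow, mul_comm (p ^ m), pow_mul, hl, one_pow, one_mul]
      inv_mem' := fun {g} hg => ⟨inv_mem hg.1, hg.2.imp fun m hm => by rw [inv_pow, hm, inv_one]⟩ }
  have hUH : U ≤ H := fun g hg => hroot hg.1.1
  have hUp : IsPGroup p U := fun g => g.2.2.imp fun m hm => Subtype.ext hm
  have hU : U = ⊥ := by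
    refine semi_unipotent_trivial hs hUH (fun g hg u hu => ⟨⟨?_, ?_⟩, ?_⟩) (unipotent_of_pgroup hUp)
    · have := RootSub.conjBy_eq_self_iff.mp (rootGroup_normal (G := H) hg)
      exact (mem_normalizer_iff''.mp this u).mp hu.1.1
    · refine mem_centralizer_iff.mpr fun x hx => ?_
      have hn := RootSub.conjBy_eq_self_iff.mp (rootGroup_normal (G := H) hg)
      have hx' : g * x * g⁻¹ ∈ rootGroup H := (mem_normalizer_iff.mp hn x).mp hx
      have := mem_centralizer_iff.mp hu.1.2 _ hx'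
      calc x * (g⁻¹ * u * g) = g⁻¹ * ((g * x * g⁻¹) * u) * g := by group
        _ = g⁻¹ * u * g * x := by rw [this]; group
    · obtain ⟨m, hm⟩ := hu.2
      refine ⟨m, ?_⟩
      have := conj_pow (a := g⁻¹) (b := u) (i := p ^ m)
      rw [inv_inv, hm, mul_one, inv_mul_cancel] at this
      exact this
  have : z ∈ U := ⟨⟨hz, hzc⟩, n, hzp⟩
  rwa [hU, mem_bot] at this

namespace Ctx

variable (C : Ctx H G Γ A₀ a c)

include C

theorem h2 : (2 : ZMod p) ≠ 0 := two_ne C.hp5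

theorem h3 : Nat.card (ZMod p) ≠ 3 := card_ne C.hp5

theorem pne : p ≠ 2 := by have := C.hp5; omega

theorem swap : Ctx H G Γ A₀ c a :=
  ⟨C.hp5, C.S, C.ih, C.hA₀, C.hc, C.ha, C.hI.symm, C.hcA, C.haA, fun g hg h => (C.fix g hg h).symm⟩

omit C in
/-- the group of the component -/
abbrev L (_ : Ctx H G Γ A₀ a c) : Subgroup GL' := partGroup H A₀

omit C in
/-- the roots of the other components -/
abbrev L' (_ : Ctx H G Γ A₀ a c) : Subgroup GL' := restRoots H A₀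

/-- the stabiliser of the component in `Γ` -/
abbrev Γ₀ : Subgroup GL' := partStab C.S C.hA₀

theorem L_le : C.L ≤ G := C.S.partGroup_le A₀

theorem L'_le : C.L' ≤ G := iSup₂_le fun _ hB => C.S.roots_le hB.1

theorem comm_L' : C.L' ≤ centralizer (C.L : Set GL') := rest_le_centralizer C.h2 C.h3 C.S.semi A₀

theorem xu_mem_L {w : End'} (hw : MinEl H w) (hp : rootOf hw ∈ part H A₀) : xu w hw.sq ∈ C.L :=
  le_partGroup hp (xu_mem_rootOf hw (Same.refl hw))

theorem aL : xu a C.hI.aa ∈ C.L := C.xu_mem_L C.ha C.haA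

theorem cL : xu c C.hI.cc ∈ C.L := C.xu_mem_L C.hc C.hcA

theorem L_central {z : GL'} (hz : z ∈ C.L) (hzc : z ∈ centralizer (C.L : Set GL')) {n : ℕ}
    (hzp : z ^ p ^ n = 1) : z = 1 := by
  refine central_eq_one C.S.semi (partGroup_le A₀ hz) ?_ hzp
  rw [rootGroup_eq (G := H) A₀]
  refine (le_centralizer_iff.mp (sup_le ?_ ?_ : C.L ⊔ C.L' ≤ centralizer ((zpowers z) : Set GL'))) (mem_zpowers z)
  · exact le_centralizer_iff.mp (zpowers_le.mpr hzc)
  · exact C.comm_L'.trans (centralizer_le (SetLike.coe_subset_coe.mpr (zpowers_le.mpr hz)))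

theorem meet_eq_one {z : GL'} (hz : z ∈ C.L ⊓ C.L') {n : ℕ} (hzp : z ^ p ^ n = 1) : z = 1 :=
  C.L_central hz.1 (C.comm_L' hz.2) hzp

theorem part_of_mem {w : End'} (hw : MinEl H w) (h : xu w hw.sq ∈ C.L) : rootOf hw ∈ part H A₀ := by
  by_contra hn
  have h1 := C.L_central h (le_centralizer_of_not_mem C.h2 C.h3 C.S.semi (rootOf_mem hw) hn
    (xu_mem_rootOf hw (Same.refl hw))) (n := 1) (by rw [pow_one]; exact xu_pow_p hw.sq)
  exact hw.ne (by rw [← xu_sub_one hw.sq, h1, Units.val_one, sub_self])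

theorem part_of_pair {b d : End'} (hb : MinEl H b) (hd : MinEl H d) (hI : Inv2 b d)
    (h : rootOf hb ∈ part H A₀) : rootOf hd ∈ part H A₀ :=
  part_pair_mem h (rootOf_mem hd) (rank_one_pair C.h2 C.h3 hb hd (not_nilp hI hb.ne))

/-- elements preserving the component -/
theorem pres {g : GL'} (hg : g ∈ H) (hgA : conjBy A₀ g ∈ part H A₀) :
    g ∈ normalizer (C.L : Set GL') ∧ g ∈ normalizer (C.L' : Set GL') := by
  have hinv : conjBy A₀ g⁻¹ ∈ part H A₀ := by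
    have := part_conj (inv_mem hg) hgA
    rw [RootSub.conjBy_conjBy, inv_mul_cancel, RootSub.conjBy_one] at this
    exact ⟨conj_mem_roots C.hA₀ (inv_mem hg), RootSub.freach_symm this.2⟩
  have hmove : ∀ g ∈ H, conjBy A₀ g ∈ part H A₀ → ∀ B ∈ part H A₀, conjBy B g ∈ part H A₀ := fun g hg h B hB => by
    have := part_conj hg hB
    rwa [part_eq_of_mem h] at this
  have hL : ∀ g ∈ H, conjBy A₀ g ∈ part H A₀ → conjBy C.L g ≤ C.L := fun g hg h => by
    rw [map_le_iff_le_comap]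
    refine iSup₂_le fun B hB => map_le_iff_le_comap.mp ?_
    exact le_partGroup (hmove g hg h B hB)
  have hL' : ∀ g ∈ H, conjBy A₀ g ∈ part H A₀ → conjBy A₀ g⁻¹ ∈ part H A₀ → conjBy C.L' g ≤ C.L' := fun g hg h h' => by
    rw [map_le_iff_le_comap]
    refine iSup₂_le fun B hB => map_le_iff_le_comap.mp ?_
    refine le_iSup₂ (f := fun B _ => B) (conjBy B g) (show conjBy B g ∈ {B | B ∈ quadraticRootSubgroups H ∧ B ∉ part H A₀} from
      ⟨conj_mem_roots hB.1 hg, fun hm => hB.2 ?_⟩)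
    have := hmove g⁻¹ (inv_mem hg) h' _ hm
    rwa [RootSub.conjBy_conjBy, inv_mul_cancel, RootSub.conjBy_one] at this
  refine ⟨Cfsg.Lib.Coprime.mem_normalizer_of_conj_mem (fun x hx => hL g hg hgA ⟨x, hx, rfl⟩) fun x hx => ?_,
    Cfsg.Lib.Coprime.mem_normalizer_of_conj_mem (fun x hx => hL' g hg hgA hinv ⟨x, hx, rfl⟩) fun x hx => ?_⟩
  · have := hL g⁻¹ (inv_mem hg) hinv ⟨x, hx, rfl⟩
    simpa using this
  · have := hL' g⁻¹ (inv_mem hg) hinv (by rw [inv_inv]; exact hgA) ⟨x, hx, rfl⟩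
    simpa using this

theorem stab_norm : C.Γ₀ ≤ normalizer (C.L : Set GL') := fun g hg => (C.pres (C.S.cle hg.1) hg.2).1

theorem quad_norm {u : End'} (hu : Fam H u) :
    xu u hu.sq ∈ normalizer (C.L : Set GL') ∧ xu u hu.sq ∈ normalizer (C.L' : Set GL') :=
  C.pres hu.xu_mem_one (part_fixed C.h2 C.h3 C.S.semi hu C.hA₀ (self_mem_part C.hA₀))

theorem conj_L_le {g : GL'} (hg : g ∈ Γ) (h : g ∉ C.Γ₀) : conjBy C.L g ≤ C.L' := by
  rw [map_le_iff_le_comap]
  refine iSup₂_le fun B hB => map_le_iff_le_comap.mp ?_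
  refine le_iSup₂ (f := fun B _ => B) (conjBy B g) (show conjBy B g ∈ {B | B ∈ quadraticRootSubgroups H ∧ B ∉ part H A₀} from
    ⟨conj_mem_roots hB.1 (C.S.cle hg), fun hm => h ⟨hg, ?_⟩⟩)
  have h1 : conjBy B g ∈ part H (conjBy A₀ g) := part_conj (C.S.cle hg) hB
  rw [← part_eq_of_mem hm, part_eq_of_mem h1]
  exact self_mem_part (conj_mem_roots C.hA₀ (C.S.cle hg))

theorem stab_fix {g : GL'} (hg : g ∈ C.Γ₀) : cj g a = a ∧ cj g c = c := C.fix g hg.1 hg.2

theorem fix_conj {g : GL'} (hg : g ∈ C.Γ₀) : g * xu a C.hI.aa * g⁻¹ = xu a C.hI.aa :=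
  conj_fix _ (C.stab_fix hg).1

/-- the product over an orbit -/
theorem orbit_elem {g : GL'} (hg : g ∈ C.L) (hfix : ∀ γ ∈ C.Γ₀, γ * g * γ⁻¹ = g) :
    ∃ gt ∈ G, (∀ γ ∈ Γ, γ * gt * γ⁻¹ = gt) ∧ ∃ r ∈ C.L', gt = g * r := by
  classical
  haveI : Fintype Γ := Fintype.ofFinite Γ
  set O : Finset GL' := Finset.univ.image (fun γ : Γ => (γ : GL') * g * (γ : GL')⁻¹) with hO
  have hoff : ∀ γ ∈ Γ, γ * g * γ⁻¹ ≠ g → γ * g * γ⁻¹ ∈ C.L' := fun γ hγ hne =>
    C.conj_L_le hγ (fun h => hne (hfix γ h)) ⟨g, hg, rfl⟩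
  have hcomm : (O : Set GL').Pairwise (Function.onFun Commute id) := by
    intro x hx y hy hxy
    simp only [hO, Finset.coe_image, Set.mem_image] at hx hy
    obtain ⟨γ, -, rfl⟩ := hx
    obtain ⟨δ, -, rfl⟩ := hy
    show Commute ((γ : GL') * g * (γ : GL')⁻¹) ((δ : GL') * g * (δ : GL')⁻¹)
    set ε : GL' := (δ : GL')⁻¹ * γ
    have hne : ε * g * ε⁻¹ ≠ g := fun e => hxy (by
      conv_rhs => rw [← e]
      simp only [ε, mul_inv_rev, inv_inv]
      group)
    have h := mem_centralizer_iff.mp (C.comm_L' (hoff ε (mul_mem (inv_mem δ.2) γ.2) hne)) g hg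
    have h' := congrArg (fun x => (δ : GL') * x * (δ : GL')⁻¹) h
    simp only [ε, mul_inv_rev, inv_inv] at h'
    show _ = _
    calc (γ : GL') * g * (γ : GL')⁻¹ * ((δ : GL') * g * (δ : GL')⁻¹)
        = (δ : GL') * ((δ : GL')⁻¹ * γ * g * ((γ : GL')⁻¹ * δ) * g) * (δ : GL')⁻¹ := by group
      _ = (δ : GL') * (g * ((δ : GL')⁻¹ * γ * g * ((γ : GL')⁻¹ * δ))) * (δ : GL')⁻¹ := h'.symm
      _ = _ := by group
  have hgO : g ∈ O := Finset.mem_image.mpr ⟨1, Finset.mem_univ _, by simp⟩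
  have hG : ∀ x ∈ O, x ∈ G := by
    intro x hx
    obtain ⟨γ, -, rfl⟩ := Finset.mem_image.mp hx
    exact (mem_normalizer_iff.mp (C.S.norm γ.2) g).mp (C.L_le hg)
  refine ⟨O.noncommProd id hcomm, Finset.noncommProd_induction _ _ _ (fun y => y ∈ G) (fun _ _ => mul_mem)
    (one_mem G) hG, fun γ hγ => ?_, ?_⟩
  · show (MulAut.conj γ).toMonoidHom _ = _
    rw [Finset.map_noncommProd]
    have hinj : Set.InjOn (fun x : GL' => γ * x * γ⁻¹) O := fun x _ y _ e => by simpa using e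
    have himg : O.image (fun x : GL' => γ * x * γ⁻¹) = O := by
      refine Finset.eq_of_subset_of_card_le (fun y hy => ?_) (Finset.card_image_of_injOn hinj).ge
      obtain ⟨x, hx, rfl⟩ := Finset.mem_image.mp hy
      obtain ⟨δ, -, rfl⟩ := Finset.mem_image.mp hx
      exact Finset.mem_image.mpr ⟨⟨γ, hγ⟩ * δ, Finset.mem_univ _, by simp [mul_assoc]⟩
    symm
    conv_lhs => rw [Finset.noncommProd_congr himg.symm (fun x _ => rfl)]
    unfold Finset.noncommProd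
    congr 1
    rw [Finset.image_val_of_injOn hinj, Multiset.map_map]
    rfl
  · refine ⟨(O.erase g).noncommProd id (hcomm.mono (Finset.coe_subset.mpr (Finset.erase_subset _ _))), ?_, ?_⟩
    · refine Finset.noncommProd_induction _ _ _ (fun y => y ∈ C.L') (fun _ _ => mul_mem) (one_mem _) fun x hx => ?_
      obtain ⟨hne, hx⟩ := Finset.mem_erase.mp hx
      obtain ⟨γ, -, rfl⟩ := Finset.mem_image.mp hx
      exact hoff γ γ.2 hne
    · exact (Finset.mul_noncommProd_erase O hgO id hcomm).symm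

/-- an invariant `p`-subgroup of the component lies in an invariant one of the whole group -/
theorem lift_pgroup {T : Subgroup GL'} (hT : T ≤ C.L) (hTp : IsPGroup p T)
    (hTi : C.Γ₀ ≤ normalizer (T : Set GL')) :
    ∃ S : Subgroup GL', IsMaxInv p Γ G S ∧ T ≤ S := by
  set W : Set (Subgroup GL') := (fun γ => conjBy T γ) '' (Γ : Set GL') with hW
  have hTW : T ≤ sSup W := le_sSup ⟨1, one_mem Γ, RootSub.conjBy_one⟩
  have hp : IsPGroup p (sSup W : Subgroup GL') := by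
    refine isPGroup_family W ?_ ?_
    · rintro _ ⟨γ, -, rfl⟩
      exact hTp.map _
    · rintro _ ⟨γ, hγ, rfl⟩ _ ⟨δ, hδ, rfl⟩ hne
      have hε : δ⁻¹ * γ ∉ C.Γ₀ := fun h => hne (by
        show conjBy T γ = conjBy T δ
        conv_rhs => rw [← RootSub.conjBy_eq_self_iff.mpr (hTi h), RootSub.conjBy_conjBy, mul_inv_cancel_left])
      rintro _ ⟨t, ht, rfl⟩
      refine mem_centralizer_iff.mpr ?_
      rintro _ ⟨s, hs, rfl⟩
      have h := mem_centralizer_iff.mp (C.comm_L' (C.conj_L_le (mul_mem (inv_mem hδ) hγ) hε ⟨t, hT ht, rfl⟩)) s (hT hs)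
      simp only [MulEquiv.coe_toMonoidHom, MulAut.conj_apply] at h ⊢
      have h' := congrArg (fun x => δ * x * δ⁻¹) h
      simp only [mul_inv_rev, inv_inv] at h'
      calc δ * s * δ⁻¹ * (γ * t * γ⁻¹) = δ * (s * (δ⁻¹ * γ * t * (γ⁻¹ * δ))) * δ⁻¹ := by group
        _ = δ * (δ⁻¹ * γ * t * (γ⁻¹ * δ) * s) * δ⁻¹ := h'
        _ = _ := by group
  have hG : sSup W ≤ G := sSup_le fun A hA => by
    obtain ⟨γ, hγ, rfl⟩ := hA
    rintro _ ⟨t, ht, rfl⟩
    exact (mem_normalizer_iff.mp (C.S.norm hγ) t).mp (C.L_le (hT ht))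
  have hinv : Γ ≤ normalizer ((sSup W : Subgroup GL') : Set GL') := by
    have hle : ∀ γ ∈ Γ, conjBy (sSup W) γ ≤ sSup W := fun γ hγ => by
      rw [map_le_iff_le_comap]
      refine sSup_le fun A hA => map_le_iff_le_comap.mp ?_
      obtain ⟨δ, hδ, rfl⟩ := hA
      refine le_of_eq_of_le (RootSub.conjBy_conjBy δ γ) (le_sSup ⟨γ * δ, mul_mem hγ hδ, rfl⟩)
    intro γ hγ
    refine Cfsg.Lib.Coprime.mem_normalizer_of_conj_mem (fun x hx => hle γ hγ ⟨x, hx, rfl⟩) fun x hx => ?_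
    have := hle γ⁻¹ (inv_mem hγ) ⟨x, hx, rfl⟩
    simpa using this
  obtain ⟨S, hS, hle⟩ := exists_maxInv hG hp hinv
  exact ⟨S, hS, hTW.trans hle⟩

/-- common membership inside the component -/
def PL (σ : GL') : Prop := InAll p C.Γ₀ C.L σ

theorem pl_of {σ l : GL'} (hσ : σ ∈ C.L) {n : ℕ} (hσp : σ ^ p ^ n = 1) (hl : l ∈ C.L')
    (h : InAll p Γ G (σ * l)) : C.PL σ := by
  refine ⟨hσ, fun T hT => ?_⟩
  obtain ⟨S, hS, hTS⟩ := C.lift_pgroup hT.le hT.pgroup hT.inv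
  set gens : Set GL' := {g | g ∈ C.L ∧ (∃ m : ℕ, g ^ p ^ m = 1) ∧ ∃ r ∈ C.L', g * r ∈ S} with hg
  have hcen : ∀ x ∈ C.L, ∀ y ∈ C.L', Commute x y := fun x hx y hy => mem_centralizer_iff.mp (C.comm_L' hy) x hx
  let R : Subgroup GL' :=
    { carrier := {g | g ∈ C.L ∧ ∃ r ∈ C.L', g * r ∈ S}
      one_mem' := ⟨one_mem _, 1, one_mem _, by rw [one_mul]; exact one_mem _⟩
      mul_mem' := fun {x y} hx hy => by
        obtain ⟨hx', r, hr, hrS⟩ := hx
        obtain ⟨hy', r', hr', hrS'⟩ := hy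
        refine ⟨mul_mem hx' hy', r * r', mul_mem hr hr', ?_⟩
        rw [show x * y * (r * r') = x * (y * r) * r' by group, (hcen y hy' r hr).eq,
          show x * (r * y) * r' = x * r * (y * r') by group]
        exact mul_mem hrS hrS'
      inv_mem' := fun {x} hx => by
        obtain ⟨hx', r, hr, hrS⟩ := hx
        refine ⟨inv_mem hx', r⁻¹, inv_mem hr, ?_⟩
        rw [← mul_inv_rev, ← (hcen x hx' r hr).eq]
        exact inv_mem hrS }
  have hgR : closure gens ≤ R := (closure_le _).mpr fun g hg => ⟨hg.1, hg.2.2⟩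
  have hp : IsPGroup p (closure gens) := isPGroup_projection C.comm_L' hS.pgroup (fun x hx => (hgR hx).1)
    (fun x hx => (hgR hx).2) (fun z hz n hzp => C.meet_eq_one hz hzp) rfl fun g hg => hg.2.1
  have hTle : T ≤ closure gens := fun t ht => subset_closure
    ⟨hT.le ht, by
      obtain ⟨m, hm⟩ := hT.pgroup ⟨t, ht⟩
      exact ⟨m, congrArg Subtype.val hm⟩, 1, one_mem _, by rw [mul_one]; exact hTS ht⟩
  have hinv : C.Γ₀ ≤ normalizer ((closure gens : Subgroup GL') : Set GL') := by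
    have hle : ∀ γ ∈ C.Γ₀, ∀ x ∈ gens, γ * x * γ⁻¹ ∈ gens := by
      intro γ hγ x hx
      obtain ⟨hxL, ⟨m, hm⟩, r, hr, hrS⟩ := hx
      refine ⟨(mem_normalizer_iff.mp (C.stab_norm hγ) x).mp hxL, ⟨m, by rw [conj_pow, hm, mul_one, mul_inv_cancel]⟩,
        γ * r * γ⁻¹, (mem_normalizer_iff.mp (C.pres (C.S.cle hγ.1) hγ.2).2 r).mp hr, ?_⟩
      rw [show γ * x * γ⁻¹ * (γ * r * γ⁻¹) = γ * (x * r) * γ⁻¹ by group]
      exact (mem_normalizer_iff.mp (hS.inv hγ.1) _).mp hrS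
    have hle' : ∀ γ ∈ C.Γ₀, conjBy (closure gens) γ ≤ closure gens := fun γ hγ => by
      rw [conjBy, MonoidHom.map_closure]
      exact closure_mono (Set.image_subset_iff.mpr (hle γ hγ))
    intro γ hγ
    refine Cfsg.Lib.Coprime.mem_normalizer_of_conj_mem (fun x hx => hle' γ hγ ⟨x, hx, rfl⟩) fun x hx => ?_
    have := hle' γ⁻¹ (inv_mem hγ) ⟨x, hx, rfl⟩
    simpa using this
  rw [← hT.max _ ((closure_le _).mpr fun g hg => hg.1) hp hinv hTle]
  exact subset_closure ⟨hσ, ⟨n, hσp⟩, l, hl, h.2 S hS⟩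

theorem zpowers_inv {g : GL'} (hfix : ∀ γ ∈ C.Γ₀, γ * g * γ⁻¹ = g) :
    C.Γ₀ ≤ normalizer (zpowers g : Set GL') := fun γ hγ => by
  refine RootSub.conjBy_eq_self_iff.mp ?_
  rw [conjBy, MonoidHom.map_zpowers]
  exact congrArg zpowers (hfix γ hγ)

/-- `[g, y]` for a fixed `g` -/
theorem pl_comm {g : GL'} (hg : g ∈ C.L) (hfix : ∀ γ ∈ C.Γ₀, γ * g * γ⁻¹ = g) {n : ℕ} (hgp : g ^ p ^ n = 1)
    {u : End'} (hu : Fam H u) (hy : InAll p Γ G (xu u hu.sq)) :
    C.PL (g * xu u hu.sq * g⁻¹ * (xu u hu.sq)⁻¹) ∧ C.PL (g * (xu u hu.sq)⁻¹ * g⁻¹ * xu u hu.sq) := by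
  suffices key : ∀ y : GL', InAll p Γ G y → y ∈ normalizer (C.L : Set GL') → y ∈ normalizer (C.L' : Set GL') →
      C.PL (g * y * g⁻¹ * y⁻¹) by
    obtain ⟨n1, n2⟩ := C.quad_norm hu
    refine ⟨key _ hy n1 n2, ?_⟩
    have := key _ hy.inv (Subgroup.inv_mem _ n1) (Subgroup.inv_mem _ n2)
    rwa [inv_inv] at this
  intro y hy n1 n2
  obtain ⟨gt, hgtG, hgtΓ, r, hr, rfl⟩ := C.orbit_elem hg hfix
  have hσ : g * y * g⁻¹ * y⁻¹ ∈ C.L := by
    rw [show g * y * g⁻¹ * y⁻¹ = g * (y * g⁻¹ * y⁻¹) by group]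
    exact mul_mem hg ((mem_normalizer_iff.mp n1 _).mp (inv_mem hg))
  have hρ : r * y * r⁻¹ * y⁻¹ ∈ C.L' := by
    rw [show r * y * r⁻¹ * y⁻¹ = r * (y * r⁻¹ * y⁻¹) by group]
    exact mul_mem hr ((mem_normalizer_iff.mp n2 _).mp (inv_mem hr))
  have hall : InAll p Γ G ((g * r) * y * (g * r)⁻¹ * y⁻¹) := by
    refine (hy.conj (Subgroup.le_normalizer hgtG) ?_).mul hy.inv
    refine Subgroup.centralizer_le_normalizer _ (mem_centralizer_iff.mpr fun γ hγ => ?_)
    exact mul_inv_eq_iff_eq_mul.mp (hgtΓ γ hγ)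
  obtain ⟨S, hS, hgS⟩ := C.lift_pgroup (zpowers_le.mpr hg) (isPGroup_zpowers hgp) (C.zpowers_inv hfix)
  have hgS' : g ∈ S := hgS (mem_zpowers g)
  obtain ⟨m, hm⟩ := hS.pgroup ⟨_, mul_mem (mul_mem (mul_mem hgS' (hy.2 S hS)) (inv_mem hgS')) (inv_mem (hy.2 S hS))⟩
  have hm' : (g * y * g⁻¹ * y⁻¹) ^ p ^ m = 1 := congrArg Subtype.val hm
  refine C.pl_of hσ hm' hρ ?_
  have e : (g * r) * y * (g * r)⁻¹ * y⁻¹ = g * (r * y * r⁻¹ * y⁻¹) * g⁻¹ * (g * y * g⁻¹ * y⁻¹) := by group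
  rw [e, mem_centralizer_iff.mp (C.comm_L' hρ) g hg, mul_inv_cancel_right,
    ← mem_centralizer_iff.mp (C.comm_L' hρ) _ hσ] at hall
  exact hall

theorem pl_mem {σ : GL'} (h : C.PL σ) : σ ∈ C.L := h.1

theorem pl_conj_a {σ : GL'} (h : C.PL σ) : C.PL (xu a C.hI.aa * σ * (xu a C.hI.aa)⁻¹) := by
  refine InAll.conj h (Subgroup.le_normalizer C.aL) (Subgroup.centralizer_le_normalizer _ ?_)
  exact mem_centralizer_iff.mpr fun γ hγ => mul_inv_eq_iff_eq_mul.mp (C.fix_conj hγ)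

theorem pl_conj_c {σ : GL'} (h : C.PL σ) : C.PL (xu c C.hI.cc * σ * (xu c C.hI.cc)⁻¹) :=
  C.swap.pl_conj_a h

theorem pl_common {σ : GL'} (h : C.PL σ) {Y : Subgroup GL'} (hY : Y ≤ C.L) (hYp : IsPGroup p Y)
    (hYi : C.Γ₀ ≤ normalizer (Y : Set GL')) : ∃ S : Subgroup GL', IsPGroup p S ∧ σ ∈ S ∧ Y ≤ S := by
  exact InAll.exists_common h hY hYp hYi

/-- the set as a group -/
def PLgroup : Subgroup GL' where
  carrier := {σ | C.PL σ}
  one_mem' := InAll.one (G := GL')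
  mul_mem' := fun h h' => InAll.mul h h'
  inv_mem' := fun h => InAll.inv h

theorem pl_nilp_a {u : End'} (hu : u * u = 0) (h : C.PL (xu u hu)) : IsNilpotent (a * u) := by
  obtain ⟨S, hS, h1, h2⟩ := C.pl_common h (zpowers_le.mpr C.aL) (isPGroup_zpowers_xu _)
    (C.zpowers_inv fun γ hγ => C.fix_conj hγ)
  exact nilp_xu hS C.hI.aa hu (h2 (mem_zpowers _)) h1

end Ctx

end Cfsg.Lib.CapSylow
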