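import Cfsg.Agent.CapSylow.StageB
import Cfsg.Agent.CoprimeZJ.Operators
import Cfsg.Agent.Components.Cores
import Cfsg.Agent.Components.PComponents

/-!
A quadratic element in all maximal invariant `p`-subgroups lies in a normal `p`-subgroup (`p ≥ 5`).
-/

set_option autoImplicit false
set_option linter.style.haveILetI false
set_option linter.unusedSectionVars false
set_option linter.unusedVariables false

namespace Cfsg.Lib.CapSylow

open Cfsg Cfsg.Lib.QuadPair Cfsg.Lib.CoprimeZJ
open Subgroup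

universe v

section Group

variable {p : ℕ} [Fact p.Prime] {X Y : Type*} [Group X] [Group Y] [Finite X] [Finite Y]

theorem solvable_or' {A B : Subgroup X} (h : (Nat.card A).Coprime (Nat.card B)) :
    Group.IsSolvable A ∨ Group.IsSolvable B := Cfsg.Lib.CoprimeZJ.solvable_or h

theorem InAll.pullback {f : X →* Y} (hf : Function.Injective f) {Γ G' : Subgroup X} {x : X}
    (h : InAll p (Γ.map f) (G'.map f) (f x)) : InAll p Γ G' x := by
  obtain ⟨y, hy, e⟩ := h.1
  refine ⟨hf e ▸ hy, fun S hS => ?_⟩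
  obtain ⟨T, hT, hST⟩ := exists_maxInv (Γ := Γ.map f) (map_mono hS.le) (hS.pgroup.map f)
    ((map_mono hS.inv).trans (le_normalizer_map f))
  obtain ⟨z, hz, e'⟩ := h.1
  have hle : T.comap f ≤ G' := fun w hw => by
    obtain ⟨w', hw', ew⟩ := hT.le hw
    exact hf ew ▸ hw'
  have := hS.max (T.comap f) hle (hT.pgroup.comap_of_injective f hf) (fun g hg => ?_) (map_le_iff_le_comap.mp hST)
  · rw [← this]; exact h.2 T hT
  · have hn := hT.inv ⟨g, hg, rfl⟩
    rw [mem_normalizer_iff] at hn ⊢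
    intro w
    simp only [mem_comap, map_mul, map_inv]
    exact hn (f w)

/-- images of common members -/
theorem InAll.map {f : X →* Y} {Γ G' : Subgroup X} {x : X} (hn : Γ ≤ normalizer (G' : Set X))
    (hcop : (Nat.card G').Coprime (Nat.card Γ)) (h : InAll p Γ G' x) : InAll p (Γ.map f) (G'.map f) (f x) := by
  refine ⟨⟨x, h.1, rfl⟩, fun T hT => ?_⟩
  set K := G' ⊓ T.comap f with hK
  have hKi : Γ ≤ normalizer (K : Set X) := by
    refine Cfsg.Lib.Coprime.le_normalizer_inf hn fun g hg => ?_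
    have hn' := hT.inv ⟨g, hg, rfl⟩
    rw [mem_normalizer_iff] at hn' ⊢
    intro w
    simp only [mem_comap, map_mul, map_inv]
    exact hn' (f w)
  have hcK : (Nat.card Γ).Coprime (Nat.card K) := (hcop.coprime_dvd_left (card_dvd_of_le inf_le_left)).symm
  obtain ⟨P, hP⟩ := Cfsg.Lib.Coprime.exists_invariant_sylow hKi hcK (solvable_or' hcK) p
  set P₀ := (P : Subgroup K).map K.subtype with hP₀
  have hTP : T ≤ P₀.map f := by
    intro t ht
    obtain ⟨g, hg, rfl⟩ := hT.le ht
    let φ : K →* T := (f.comp K.subtype).codRestrict T fun k => k.2.2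
    have hφ : Function.Surjective φ := fun t' => by
      obtain ⟨g', hg', e⟩ := hT.le t'.2
      exact ⟨⟨g', hg', by show f g' ∈ T; rw [e]; exact t'.2⟩, Subtype.ext e⟩
    set P' := P.mapSurjective hφ
    have htop : (P' : Subgroup T) = ⊤ := (P'.3 (hT.pgroup.of_equiv (Subgroup.topEquiv).symm) le_top).symm
    have : (⟨f g, ht⟩ : T) ∈ (P' : Subgroup T) := htop ▸ Subgroup.mem_top _
    rw [Sylow.coe_mapSurjective] at this
    obtain ⟨k, hk, e⟩ := this
    exact ⟨(k : X), ⟨k, hk, rfl⟩, congrArg Subtype.val e⟩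
  obtain ⟨S, hS, hle⟩ := exists_maxInv ((map_subtype_le _).trans inf_le_left) (P.2.map K.subtype) hP
  have := hT.max (S.map f) (map_mono hS.le) (hS.pgroup.map f) ((map_mono hS.inv).trans (le_normalizer_map f))
    (hTP.trans (map_mono hle))
  rw [← this]
  exact ⟨x, h.2 S hS, rfl⟩

theorem InCore.normalised {N H : Subgroup X} {x : X} (h : InCore p N x) (hN : H ≤ normalizer (N : Set X)) :
    ∃ U : Subgroup X, U ≤ N ∧ IsPGroup p U ∧ H ≤ normalizer (U : Set X) ∧ x ∈ U := by
  obtain ⟨Q, hQN, hQp, hQn, hxQ⟩ := h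
  haveI : (Q.subgroupOf N).Normal := (normal_subgroupOf_iff_le_normalizer hQN).mpr hQn
  have hle : Q.subgroupOf N ≤ pCore p N :=
    Cfsg.Lib.Components.le_pCore (hQp.of_equiv (subgroupOfEquivOfLe hQN).symm)
  refine ⟨(pCore p N).map N.subtype, map_subtype_le _, (Cfsg.Lib.Components.isPGroup_pCore p).map _, ?_,
    ⟨⟨x, hQN hxQ⟩, hle hxQ, rfl⟩⟩
  intro g hg
  have key : ∀ g ∈ normalizer (N : Set X), ∀ z ∈ (pCore p N).map N.subtype, g * z * g⁻¹ ∈ (pCore p N).map N.subtype := by
    rintro g hg - ⟨z, hz, rfl⟩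
    exact ⟨N.normalizerMonoidHom ⟨g, hg⟩ z, characteristic_iff_le_comap.mp inferInstance _ hz, rfl⟩
  exact Cfsg.Lib.Coprime.mem_normalizer_of_conj_mem (key g (hN hg))
    fun z hz => by simpa using key g⁻¹ (inv_mem (hN hg)) z hz

end Group

variable {p : ℕ} [Fact p.Prime]

section Irreducible

variable {M : Type*} [AddCommGroup M] [Module (ZMod p) M] [Finite M] [FiniteDimensional (ZMod p) M]

local notation "GL'" => LinearMap.GeneralLinearGroup (ZMod p) M

theorem irreducible_case (hp5 : 5 ≤ p) {G Γ : Subgroup GL'} (hn : Γ ≤ normalizer (G : Set GL'))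
    (hcop : (Nat.card G).Coprime (Nat.card Γ)) (ih : IHyp p M (Nat.card G))
    (hirr : ∀ W : Submodule (ZMod p) M, (∀ g ∈ G ⊔ Γ, ∀ w ∈ W, (g : M →ₗ[ZMod p] M) w ∈ W) → W = ⊥ ∨ W = ⊤)
    {u : M →ₗ[ZMod p] M} (hu : u * u = 0) (hy : InAll p Γ G (xu u hu)) : u = 0 := by
  classical
  by_contra hne
  set H := G ⊔ Γ with hH
  have hne1 : xu u hu ≠ 1 := fun e => hne (by rw [← xu_sub_one hu, e, Units.val_one, sub_self])
  have hpG : p ∣ Nat.card G := by
    have h := Subgroup.orderOf_dvd_natCard G hy.1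
    rwa [orderOf_eq_prime (xu_pow_p hu) hne1] at h
  have hpΓ : Nat.Coprime p (Nat.card Γ) := hcop.coprime_dvd_left hpG
  have hunip : ∀ (x : M →ₗ[ZMod p] M) (hx : x * x = 0), xu x hx ∈ H → xu x hx ∈ G := by
    intro x hx hmem
    obtain ⟨g, hg, γ, hγ, e⟩ := (Cfsg.Lib.Coprime.mem_sup_of_le_normalizer hn).mp hmem
    have hk : ∀ n : ℕ, (g * γ) ^ n * (γ ^ n)⁻¹ ∈ G := by
      intro n
      induction n with
      | zero => simp
      | succ n ih =>
        rw [show (g * γ) ^ (n + 1) * (γ ^ (n + 1))⁻¹ = g * (γ * ((g * γ) ^ n * (γ ^ n)⁻¹) * γ⁻¹) by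
          rw [pow_succ', pow_succ']; group]
        exact mul_mem hg ((mem_normalizer_iff.mp (hn hγ) _).mp ih)
    have h1 := hk p
    rw [e, xu_pow_p hx, one_mul, inv_mem_iff] at h1
    have h2 := Cfsg.Lib.Coprime.eq_one_of_coprime hcop h1 (pow_mem hγ p)
    have h3 : γ = 1 := orderOf_eq_one_iff.mp (Nat.eq_one_of_dvd_coprimes hpΓ
      (orderOf_dvd_of_pow_eq_one h2) (Subgroup.orderOf_dvd_natCard Γ hγ))
    rw [← e, h3, mul_one]
    exact hg
  have hm : ∃ m : M, m ≠ 0 := by
    by_contra h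
    push Not at h
    exact hne (LinearMap.ext fun v => by rw [h v, map_zero]; rfl)
  have hsemi : Semi H := ⟨hm, fun W h1 _ => hirr W h1⟩
  have S : Setting H G Γ := ⟨le_sup_left, le_sup_right, hn, hcop, hsemi, hunip⟩
  have hF : Fam H u := fam_of_mem hu (mem_sup_left hy.1)
  have h2 := two_ne (p := p) hp5
  have h3 := card_ne (p := p) hp5
  have hcen : xu u hu ∈ centralizer (rootGroup H : Set GL') := by
    refine centralizes_of_sandwich h2 h3 hsemi hF fun r hr => ?_
    obtain ⟨a, c, ha, hc, hI, haA, hcA, hfix⟩ :=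
      exists_fixed_pair_in (p := p) (by omega) h2 h3 S hr
    exact Ctx.sandwiched ⟨hp5, S, ih, rootOf_mem hr, ha, hc, hI, haA, hcA, fun g hg h => hfix g ⟨hg, h⟩⟩ hF hy hr
      (self_mem_part (rootOf_mem hr))
  obtain ⟨a, ha⟩ := exists_minEl (G := H) (σ := xu u hu) (mem_quadraticElements.mpr
    ⟨by rw [xu_sub_one]; exact hF, by rw [xu_sub_one]; exact hne⟩)
  set N := G ⊓ centralizer (rootGroup H : Set GL') with hN
  have hroot : rootGroup H ≤ G := iSup₂_le fun B hB => S.roots_le hB
  have hHN : H ≤ normalizer (N : Set GL') := by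
    refine Cfsg.Lib.Coprime.le_normalizer_inf (sup_le le_normalizer hn) fun g hg => ?_
    exact Cfsg.Lib.Thompson.normalizer_le_normalizer_centralizer _
      (RootSub.conjBy_eq_self_iff.mp (rootGroup_normal hg))
  have hlt : Nat.card N < Nat.card G := by
    refine Set.Finite.card_lt_card (Set.toFinite _) (SetLike.coe_ssubset_coe.mpr
      (lt_of_le_of_ne inf_le_left fun e => ?_))
    obtain ⟨c, hc, hI⟩ := exists_inv2 h2 h3 hsemi ha
    have hac : xu a ha.sq ∈ centralizer (rootGroup H : Set GL') :=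
      (e.ge (S.unip _ ha.sq ha.toFam.xu_mem_one)).2
    have := mem_centralizer_iff.mp hac _ (rootOf_le_rootGroup hc (xu_mem_rootOf hc (Same.refl hc)))
    rw [xu_commute] at this
    exact not_nilp hI ha.ne (commute_nilpotent ha.sq this.symm)
  have hcore := ih N Γ hlt ((le_sup_right : Γ ≤ H).trans hHN)
    (hcop.coprime_dvd_left (card_dvd_of_le inf_le_left)) u hu
    (hy.restrict inf_le_left ⟨hy.1, hcen⟩ ((le_sup_right : Γ ≤ H).trans hHN))
  obtain ⟨U, hUN, hUp, hUn, hxU⟩ := InCore.normalised hcore hHN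
  have hU : U = ⊥ := semi_unipotent_trivial hsemi ((hUN.trans inf_le_left).trans le_sup_left)
    (fun g hg x hx => (mem_normalizer_iff''.mp (hUn hg) x).mp hx) (unipotent_of_pgroup hUp)
  rw [hU, mem_bot] at hxU
  exact hne1 hxU

end Irreducible

/-! ### Invariant subspaces -/

section Subspace

variable {k : Type*} [Field k] {M : Type*} [AddCommGroup M] [Module k M] (W : Submodule k M)

local notation "GLk" => LinearMap.GeneralLinearGroup k M

/-- the stabiliser of a subspace -/
def subStab : Subgroup GLk where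
  carrier := {x | (∀ w ∈ W, (x : M →ₗ[k] M) w ∈ W) ∧ ∀ w ∈ W, (↑x⁻¹ : M →ₗ[k] M) w ∈ W}
  one_mem' := by simp
  inv_mem' := fun {x} hx => ⟨hx.2, by rw [inv_inv]; exact hx.1⟩
  mul_mem' := fun {x y} hx hy => ⟨fun w hw => by rw [Units.val_mul]; exact hx.1 _ (hy.1 w hw), fun w hw => by
    rw [_root_.mul_inv_rev, Units.val_mul]; exact hy.2 _ (hx.2 w hw)⟩

theorem subStab_le {K : Subgroup GLk} (h : ∀ g ∈ K, ∀ w ∈ W, (g : M →ₗ[k] M) w ∈ W) : K ≤ subStab W :=
  fun g hg => ⟨h g hg, h _ (inv_mem hg)⟩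

/-- the action on a subspace -/
def onSub : subStab W →* LinearMap.GeneralLinearGroup k W :=
  let lin : subStab W → Module.End k W := fun g => ((g : GLk) : M →ₗ[k] M).restrict g.2.1
  have hl : ∀ g h, lin (g * h) = lin g * lin h := fun _ _ => LinearMap.ext fun _ => Subtype.ext rfl
  have h1 : lin 1 = 1 := LinearMap.ext fun _ => Subtype.ext rfl
  MonoidHom.mk' (fun g => ⟨lin g, lin g⁻¹, by rw [← hl, mul_inv_cancel, h1], by rw [← hl, inv_mul_cancel, h1]⟩)
    fun g h => Units.ext (hl g h)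

/-- the action on the quotient by a subspace -/
def onQuot : subStab W →* LinearMap.GeneralLinearGroup k (M ⧸ W) :=
  let lin : subStab W → Module.End k (M ⧸ W) := fun g => W.mapQ W ((g : GLk) : M →ₗ[k] M) g.2.1
  have hl : ∀ g h, lin (g * h) = lin g * lin h := fun _ _ => Submodule.linearMap_qext _ (LinearMap.ext fun _ => rfl)
  have h1 : lin 1 = 1 := Submodule.linearMap_qext _ (LinearMap.ext fun _ => rfl)
  MonoidHom.mk' (fun g => ⟨lin g, lin g⁻¹, by rw [← hl, mul_inv_cancel, h1], by rw [← hl, inv_mul_cancel, h1]⟩)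
    fun g h => Units.ext (hl g h)

theorem onSub_val (g : subStab W) (w : W) :
    (((onSub W g : LinearMap.GeneralLinearGroup k W) : W →ₗ[k] W) w : M) = ((g : GLk) : M →ₗ[k] M) w := rfl

theorem onQuot_val (g : subStab W) (v : M) :
    ((onQuot W g : LinearMap.GeneralLinearGroup k (M ⧸ W)) : (M ⧸ W) →ₗ[k] (M ⧸ W)) (Submodule.Quotient.mk v) =
      Submodule.Quotient.mk (((g : GLk) : M →ₗ[k] M) v) := rfl

end Subspace

/-- **the linear theorem** -/
theorem quadratic_core (hp5 : 5 ≤ p) : ∀ (n : ℕ) (M : Type v) [AddCommGroup M] [Module (ZMod p) M] [Finite M]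
    (G Γ : Subgroup (LinearMap.GeneralLinearGroup (ZMod p) M)), Nat.card G + Nat.card M = n →
    Γ ≤ normalizer (G : Set (LinearMap.GeneralLinearGroup (ZMod p) M)) →
    (Nat.card G).Coprime (Nat.card Γ) → ∀ (u : M →ₗ[ZMod p] M) (hu : u * u = 0),
    InAll p Γ G (xu u hu) → InCore p G (xu u hu) := by
  intro n
  induction n using Nat.strong_induction_on with
  | _ n ih =>
  intro M _ _ _ G Γ hcard hn hcop u hu hy
  haveI : Module.Finite (ZMod p) M := Module.Finite.of_finite
  by_cases hirr : ∀ W : Submodule (ZMod p) M, (∀ g ∈ G ⊔ Γ, ∀ w ∈ W, (g : M →ₗ[ZMod p] M) w ∈ W) → W = ⊥ ∨ W = ⊤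
  · have hu0 := irreducible_case hp5 hn hcop
      (fun G' Γ' h => ih (Nat.card G' + Nat.card M) (by omega) M G' Γ' rfl) hirr hu hy
    refine ⟨⊥, bot_le, IsPGroup.of_bot, fun g _ => ?_, ?_⟩
    · exact Cfsg.Lib.Coprime.mem_normalizer_of_conj_mem (fun x hx => by simp [Subgroup.mem_bot.mp hx])
        fun x hx => by simp [Subgroup.mem_bot.mp hx]
    · rw [Subgroup.mem_bot]
      exact Units.ext (by rw [xu_val, hu0, add_zero, Units.val_one])
  push Not at hirr
  obtain ⟨W, hW, hW0, hW1⟩ := hirr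
  have hGs : G ≤ subStab W := subStab_le W fun g hg => hW g (mem_sup_left hg)
  have hΓs : Γ ≤ subStab W := subStab_le W fun g hg => hW g (mem_sup_right hg)
  set Gs := G.subgroupOf (subStab W) with hGsdef
  set Γs := Γ.subgroupOf (subStab W) with hΓsdef
  have hns : Γs ≤ normalizer (Gs : Set (subStab W)) := fun g hg => by
    rw [mem_normalizer_iff]
    intro x
    simp only [hGsdef, mem_subgroupOf, Subgroup.coe_mul, Subgroup.coe_inv]
    exact mem_normalizer_iff.mp (hn hg) (x : LinearMap.GeneralLinearGroup (ZMod p) M)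
  have hcops : (Nat.card Gs).Coprime (Nat.card Γs) := by
    rw [Nat.card_congr (subgroupOfEquivOfLe hGs).toEquiv, Nat.card_congr (subgroupOfEquivOfLe hΓs).toEquiv]
    exact hcop
  set x : subStab W := ⟨xu u hu, hGs hy.1⟩
  have hxs : InAll p Γs Gs x := by
    refine InAll.pullback (f := (subStab W).subtype) (subStab W).subtype_injective ?_
    rw [hΓsdef, hGsdef, map_subgroupOf_eq_of_le hΓs, map_subgroupOf_eq_of_le hGs]
    exact hy
  haveI : Finite (M ⧸ W) := Finite.of_surjective _ W.mkQ_surjective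
  have huW : ∀ w ∈ W, u w ∈ W := fun w hw => by
    have := sub_mem (x.2.1 w hw) hw
    simpa [x, xu_val] using this
  have sub : ∀ (M' : Type v) [AddCommGroup M'] [Module (ZMod p) M'] [Finite M']
      (f : subStab W →* LinearMap.GeneralLinearGroup (ZMod p) M') (u' : M' →ₗ[ZMod p] M') (hu' : u' * u' = 0),
      f x = xu u' hu' → Nat.card M' < Nat.card M → InCore p (Gs.map f) (f x) := by
    intro M' _ _ _ f u' hu' hfx hlt
    have hle : Nat.card (Gs.map f) ≤ Nat.card G := by
      refine (Nat.le_of_dvd Nat.card_pos (card_map_dvd _ f)).trans_eq ?_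
      exact Nat.card_congr (subgroupOfEquivOfLe hGs).toEquiv
    have h := hxs.map (f := f) hns hcops
    rw [hfx] at h ⊢
    exact ih (Nat.card (Gs.map f) + Nat.card M') (by omega) M' _ _ rfl
      ((map_mono hns).trans (le_normalizer_map f))
      ((hcops.coprime_dvd_left (card_map_dvd _ f)).coprime_dvd_right (card_map_dvd _ f)) u' hu' h
  have hu1 : u.restrict huW * u.restrict huW = 0 :=
    LinearMap.ext fun w => Subtype.ext (congrArg (fun f : M →ₗ[ZMod p] M => f w) hu)
  have hu2 : W.mapQ W u huW * W.mapQ W u huW = 0 :=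
    Submodule.linearMap_qext _ (LinearMap.ext fun v => by
      show Submodule.Quotient.mk (u (u v)) = 0
      rw [← Module.End.mul_apply, hu]; exact Submodule.Quotient.mk_zero W)
  have hs1 := sub W (onSub W) _ hu1
    (Units.ext (LinearMap.ext fun w => Subtype.ext (by rw [onSub_val]; rfl))) (by
      refine lt_of_le_of_ne (Nat.card_le_card_of_injective _ Subtype.val_injective) fun e => hW1 ?_
      exact Submodule.eq_top_iff'.mpr fun v => by
        obtain ⟨w, rfl⟩ := ((Nat.bijective_iff_injective_and_card _).mpr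
          ⟨Subtype.val_injective, e⟩).2 v
        exact w.2)
  have hs2 := sub (M ⧸ W) (onQuot W) _ hu2
    (Units.ext (Submodule.linearMap_qext _ (LinearMap.ext fun v => rfl))) (by
      refine lt_of_le_of_ne (Nat.card_le_card_of_surjective _ W.mkQ_surjective) fun e => hW0 ?_
      refine (Submodule.eq_bot_iff _).mpr fun w hw => ?_
      exact ((Nat.bijective_iff_surjective_and_card _).mpr ⟨W.mkQ_surjective, e.symm⟩).1
        (((Submodule.Quotient.mk_eq_zero W).mpr hw).trans (map_zero W.mkQ).symm))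
  obtain ⟨N₁, -, hN₁p, hN₁n, hx₁⟩ := hs1
  obtain ⟨N₂, -, hN₂p, hN₂n, hx₂⟩ := hs2
  set K : Subgroup (subStab W) := Gs ⊓ (N₁.comap (onSub W) ⊓ N₂.comap (onQuot W)) with hK
  have hKp : IsPGroup p K := by
    intro g
    obtain ⟨m₁, hm₁⟩ := hN₁p ⟨_, g.2.2.1⟩
    obtain ⟨m₂, hm₂⟩ := hN₂p ⟨_, g.2.2.2⟩
    set y : subStab W := (g : subStab W) ^ p ^ (m₁ + m₂) with hy'
    have e1 : onSub W y = 1 := by
      have := congrArg Subtype.val hm₁
      simp only [SubmonoidClass.coe_pow, OneMemClass.coe_one] at this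
      rw [hy', map_pow, pow_add, pow_mul, this, one_pow]
    have e2 : onQuot W y = 1 := by
      have := congrArg Subtype.val hm₂
      simp only [SubmonoidClass.coe_pow, OneMemClass.coe_one] at this
      rw [hy', map_pow, pow_add, mul_comm, pow_mul, this, one_pow]
    set d : M →ₗ[ZMod p] M := ((y : LinearMap.GeneralLinearGroup (ZMod p) M) : M →ₗ[ZMod p] M) - 1 with hd
    have hd1 : ∀ w ∈ W, d w = 0 := fun w hw => by
      have h := onSub_val W y ⟨w, hw⟩
      rw [e1] at h
      rw [hd, LinearMap.sub_apply, ← h]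
      exact sub_self w
    have hd2 : ∀ v, d v ∈ W := fun v => by
      have h := onQuot_val W y v
      rw [e2] at h
      rw [hd, LinearMap.sub_apply]
      exact (Submodule.Quotient.eq W).mp h.symm
    have hdd : d * d = 0 := LinearMap.ext fun v => hd1 _ (hd2 v)
    have hy1 : (y : LinearMap.GeneralLinearGroup (ZMod p) M) ^ p = 1 := by
      rw [show (y : LinearMap.GeneralLinearGroup (ZMod p) M) = xu d hdd from
        Units.ext (by rw [xu_val, hd, add_sub_cancel])]
      exact xu_pow_p hdd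
    refine ⟨m₁ + m₂ + 1, Subtype.ext ?_⟩
    rw [SubmonoidClass.coe_pow, OneMemClass.coe_one, pow_succ, pow_mul]
    exact Subtype.ext hy1
  refine ⟨K.map (subStab W).subtype, ?_, hKp.map _, ?_, ⟨x, ⟨hy.1, hx₁, hx₂⟩, rfl⟩⟩
  · rintro _ ⟨g, hg, rfl⟩
    exact hg.1
  · have hKn : Gs ≤ normalizer (K : Set (subStab W)) := by
      refine Cfsg.Lib.Coprime.le_normalizer_inf le_normalizer (Cfsg.Lib.Coprime.le_normalizer_inf ?_ ?_)
      · intro g hg
        have hn' := hN₁n ⟨g, hg, rfl⟩
        rw [mem_normalizer_iff] at hn' ⊢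
        intro w
        simp only [mem_comap, map_mul, map_inv]
        exact hn' _
      · intro g hg
        have hn' := hN₂n ⟨g, hg, rfl⟩
        rw [mem_normalizer_iff] at hn' ⊢
        intro w
        simp only [mem_comap, map_mul, map_inv]
        exact hn' _
    have := (map_mono hKn).trans (le_normalizer_map (subStab W).subtype)
    rwa [hGsdef, map_subgroupOf_eq_of_le hGs] at this

end Cfsg.Lib.CapSylow
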