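import Cfsg.Agent.Components.GenFitting
import Cfsg.Agent.Components.Structure
import Cfsg.Agent.Components.PxQ
import Cfsg.Agent.Coprime.Sylow
import Cfsg.Agent.Coprime.Generation
import Cfsg.Agent.Transfer.Basic
import Cfsg.Agent.Thompson.PComplement

/-!
`O^p`, `O_p` and `O^p(F*)` of a subgroup, as subgroups of the ambient group.
-/

set_option autoImplicit false
set_option linter.style.haveILetI false
set_option linter.unusedSectionVars false

namespace Cfsg.Lib.CapSylow

open Subgroup
open scoped commutatorElement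

universe u

variable {X : Type u} [Group X] [Finite X] {p : ℕ} [Fact p.Prime]

/-! ### commutators of coprime order -/

theorem eq_one_of_coprime_pow {q : X} {m k : ℕ} (h1 : q ^ m = 1) (h2 : q ^ k = 1) (h : Nat.Coprime m k) :
    q = 1 := by
  have := pow_gcd_eq_one.mpr ⟨h1, h2⟩
  rwa [h.gcd_eq_one, pow_one] at this

/-- if `x g x⁻¹ = q g` with `q` commuting with `g`, of order prime to that of `g`, then `x` commutes with `g` -/
theorem commute_of_twist {x g q : X} (hq : Commute q g) (he : x * g * x⁻¹ = q * g) {k : ℕ} (hk : q ^ k = 1)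
    (hcop : Nat.Coprime (orderOf g) k) : Commute x g := by
  have h1 : (x * g * x⁻¹) ^ orderOf g = 1 := by rw [conj_pow, pow_orderOf_eq_one, mul_one, mul_inv_cancel]
  rw [he, hq.mul_pow, pow_orderOf_eq_one, mul_one] at h1
  rw [eq_one_of_coprime_pow h1 hk hcop, one_mul] at he
  exact mul_inv_eq_iff_eq_mul.mp he

/-- a `p'`-element fixing its commutator with an element in a `p`-group commutes with the element -/
theorem commute_of_pElement {g t : X} (hg : (orderOf g).Coprime p) {T : Subgroup X} (hT : IsPGroup p T)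
    (hq : ⁅g, t⁆ ∈ T) (hc : Commute ⁅g, t⁆ g) : Commute g t := by
  obtain ⟨k, hk⟩ := hT ⟨_, hq⟩
  refine (commute_of_twist (q := ⁅g, t⁆⁻¹) hc.inv_left (by rw [commutatorElement_def]; group)
    (k := p ^ k) (by rw [inv_pow, inv_eq_one]; exact congrArg Subtype.val hk) (hg.pow_right k)).symm

/-! ### definitions -/

/-- `O^p(H)` -/
def res (p : ℕ) (H : Subgroup X) : Subgroup X := Subgroup.closure {g | g ∈ H ∧ (orderOf g).Coprime p}

/-- `F*(H)` -/
def gF (H : Subgroup X) : Subgroup X := (Cfsg.generalizedFittingSubgroup H).map H.subtype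

/-- `O_p(H)` -/
def oP (p : ℕ) (H : Subgroup X) : Subgroup X := (Cfsg.pCore p H).map H.subtype

/-- `O^p(F*(H))` -/
def F0 (p : ℕ) (H : Subgroup X) : Subgroup X := res p (gF H)

theorem map_pResidual (H : Subgroup X) : (Cfsg.pResidual p H).map H.subtype = res p H := by
  rw [Cfsg.pResidual, MonoidHom.map_closure, res]
  congr 1
  ext g
  constructor
  · rintro ⟨h, hh, rfl⟩
    exact ⟨h.2, by rw [Subgroup.coe_subtype, Subgroup.orderOf_coe]; exact hh⟩
  · rintro ⟨hg, ho⟩
    exact ⟨⟨g, hg⟩, by rw [Set.mem_ofPred_eq, Subgroup.orderOf_mk]; exact ho, rfl⟩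

theorem F0_eq (H : Subgroup X) :
    ((Cfsg.pResidual p ↥(Cfsg.generalizedFittingSubgroup H)).map (Cfsg.generalizedFittingSubgroup H).subtype).map
      H.subtype = F0 p H := by
  rw [map_pResidual, res, F0, res, gF, MonoidHom.map_closure]
  congr 1
  ext g
  constructor
  · rintro ⟨h, ⟨hh, ho⟩, rfl⟩
    exact ⟨⟨h, hh, rfl⟩, by rw [Subgroup.coe_subtype, Subgroup.orderOf_coe]; exact ho⟩
  · rintro ⟨⟨h, hh, rfl⟩, ho⟩
    exact ⟨h, ⟨hh, by rwa [Subgroup.coe_subtype, Subgroup.orderOf_coe] at ho⟩, rfl⟩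

theorem mem_res {H : Subgroup X} {g : X} (hg : g ∈ H) (ho : (orderOf g).Coprime p) : g ∈ res p H :=
  subset_closure ⟨hg, ho⟩

theorem res_le (H : Subgroup X) : res p H ≤ H := (closure_le H).mpr fun _ h => h.1

theorem res_le_iff {H K : Subgroup X} :
    res p H ≤ K ↔ ∀ g ∈ H, (orderOf g).Coprime p → g ∈ K :=
  ⟨fun h g hg ho => h (mem_res hg ho), fun h => (closure_le K).mpr fun g hg => h g hg.1 hg.2⟩

theorem res_mono {H K : Subgroup X} (h : H ≤ K) : res p H ≤ res p K :=
  res_le_iff.mpr fun _ hg ho => mem_res (h hg) ho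

theorem res_idem (H : Subgroup X) : res p (res p H) = res p H :=
  le_antisymm (res_le _) (res_le_iff.mpr fun _ hg ho => mem_res (mem_res hg ho) ho)

theorem le_centralizer_res {H : Subgroup X} {S : Set X}
    (h : ∀ g ∈ H, (orderOf g).Coprime p → ∀ x ∈ S, Commute g x) : S ⊆ centralizer (res p H : Set X) := by
  intro x hx
  have hle : res p H ≤ centralizer ({x} : Set X) :=
    res_le_iff.mpr fun g hg ho => mem_centralizer_singleton_iff.mpr (h g hg ho x hx).eq
  exact mem_centralizer_iff.mpr fun g hg => mem_centralizer_singleton_iff.mp (hle hg)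

/-! ### normalisers -/

theorem normalizer_le_map_char (H : Subgroup X) (K : Subgroup H) [K.Characteristic] :
    normalizer (H : Set X) ≤ normalizer (K.map H.subtype : Set X) := by
  have key : ∀ g ∈ normalizer (H : Set X), ∀ z ∈ K.map H.subtype, g * z * g⁻¹ ∈ K.map H.subtype := by
    rintro g hg - ⟨z, hz, rfl⟩
    exact ⟨H.normalizerMonoidHom ⟨g, hg⟩ z, characteristic_iff_le_comap.mp inferInstance _ hz, rfl⟩
  exact fun g hg => Cfsg.Lib.Coprime.mem_normalizer_of_conj_mem (key g hg)
    fun z hz => by simpa using key g⁻¹ (inv_mem hg) z hz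

theorem normalizer_le_res (H : Subgroup X) : normalizer (H : Set X) ≤ normalizer (res p H : Set X) := by
  have key : ∀ g ∈ normalizer (H : Set X), res p H ≤ (res p H).comap (MulAut.conj g).toMonoidHom :=
    fun g hg => res_le_iff.mpr fun z hz ho => mem_comap.mpr (mem_res ((mem_normalizer_iff.mp hg z).mp hz)
      (by rwa [orderOf_injective (MulAut.conj g).toMonoidHom (MulAut.conj g).injective z]))
  exact fun g hg => Cfsg.Lib.Coprime.mem_normalizer_of_conj_mem (fun z hz => key g hg hz)
    fun z hz => by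
      have := key g⁻¹ (inv_mem hg) hz
      simpa using this

theorem normalizer_le_gF (H : Subgroup X) : normalizer (H : Set X) ≤ normalizer (gF H : Set X) :=
  normalizer_le_map_char H _

theorem normalizer_le_oP (H : Subgroup X) : normalizer (H : Set X) ≤ normalizer (oP p H : Set X) :=
  normalizer_le_map_char H _

theorem normalizer_le_F0 (H : Subgroup X) : normalizer (H : Set X) ≤ normalizer (F0 p H : Set X) :=
  (normalizer_le_gF H).trans (normalizer_le_res _)

/-! ### `O_p` -/

theorem oP_le (H : Subgroup X) : oP p H ≤ H := map_subtype_le _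

theorem oP_pgroup (H : Subgroup X) : IsPGroup p (oP p H) := (Cfsg.Lib.Components.isPGroup_pCore p).map _

theorem le_oP {H V : Subgroup X} (hle : V ≤ H) (hn : H ≤ normalizer (V : Set X)) (hV : IsPGroup p V) :
    V ≤ oP p H := by
  haveI : (V.subgroupOf H).Normal := (normal_subgroupOf_iff_le_normalizer hle).mpr hn
  rw [← map_subgroupOf_eq_of_le hle]
  exact map_mono (Cfsg.Lib.Components.le_pCore (hV.of_equiv (subgroupOfEquivOfLe hle).symm))

theorem le_normalizer_oP (H : Subgroup X) : H ≤ normalizer (oP p H : Set X) :=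
  le_normalizer.trans (normalizer_le_oP H)

/-! ### `F*` -/

theorem gF_le (H : Subgroup X) : gF H ≤ H := map_subtype_le _

theorem F0_le_gF (H : Subgroup X) : F0 p H ≤ gF H := res_le _

theorem F0_le (H : Subgroup X) : F0 p H ≤ H := (F0_le_gF H).trans (gF_le H)

theorem le_normalizer_F0 (H : Subgroup X) : H ≤ normalizer (F0 p H : Set X) :=
  le_normalizer.trans (normalizer_le_F0 H)

theorem centralizer_gF {H : Subgroup X} {x : X} (hx : x ∈ H) (hc : x ∈ centralizer (gF H : Set X)) :
    x ∈ gF H := by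
  refine ⟨⟨x, hx⟩, Cfsg.Lib.Components.centralizer_genFitting_le (mem_centralizer_iff.mpr fun y hy =>
    Subtype.ext ?_), rfl⟩
  exact mem_centralizer_iff.mp hc y ⟨y, hy, rfl⟩

theorem gF_of_normal {H N : Subgroup X} (hle : N ≤ H) (hn : H ≤ normalizer (N : Set X)) :
    gF N = gF H ⊓ N := by
  haveI : (N.subgroupOf H).Normal := (normal_subgroupOf_iff_le_normalizer hle).mpr hn
  have h := congrArg (Subgroup.map H.subtype) (Cfsg.Lib.Components.genFitting_map_subtype_eq
    (Subgroup.Normal.isSubnormal (inferInstance : (N.subgroupOf H).Normal)))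
  rw [map_inf _ _ _ H.subtype_injective, map_subgroupOf_eq_of_le hle, map_map,
    ← Cfsg.Lib.Components.genFitting_map_equiv (subgroupOfEquivOfLe hle).symm, map_map] at h
  exact h

theorem gF_mono {H N : Subgroup X} (hle : N ≤ H) (hn : H ≤ normalizer (N : Set X)) : gF N ≤ gF H :=
  (gF_of_normal hle hn).le.trans inf_le_left

theorem F0_mono {H N : Subgroup X} (hle : N ≤ H) (hn : H ≤ normalizer (N : Set X)) : F0 p N ≤ F0 p H :=
  res_mono (gF_mono hle hn)

theorem F0_F0 (H : Subgroup X) : F0 p (F0 p H) = F0 p H := by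
  show res p (gF (F0 p H)) = F0 p H
  rw [gF_of_normal (F0_le H) (le_normalizer_F0 H), inf_eq_right.mpr (F0_le_gF H), F0, res_idem]

theorem oP_le_gF (H : Subgroup X) : oP p H ≤ gF H := by
  refine map_mono (le_trans ?_ Cfsg.Lib.Components.fitting_le_genFitting)
  exact (le_iSup (fun q : {q : ℕ // q.Prime} => Cfsg.pCore q.1 H) ⟨p, Fact.out⟩).trans
    Cfsg.Lib.Components.iSup_pCore_le_fitting

/-- `O_p` commutes with `O^p(F*)` -/
theorem commute_oP_F0 {H : Subgroup X} {t f : X} (ht : t ∈ oP p H) (hf : f ∈ F0 p H) : Commute t f := by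
  obtain ⟨t', ht', rfl⟩ := ht
  set T := Cfsg.pCore p H
  haveI hCn : (centralizer (T : Set H)).Normal := inferInstance
  have hle : Cfsg.generalizedFittingSubgroup H ≤ centralizer (T : Set H) ⊔ T := by
    refine sup_le ((Cfsg.Lib.Components.layer_le_centralizer_solvable_normal ?_).trans le_sup_left) ?_
    · haveI := (Cfsg.Lib.Components.isPGroup_pCore (G := H) p).isNilpotent
      infer_instance
    · rw [Cfsg.Lib.Components.fitting_eq_iSup_pCore]
      refine iSup_le fun q => ?_
      haveI := Fact.mk q.2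
      by_cases h : q.1 = p
      · exact (h ▸ le_rfl : Cfsg.pCore q.1 H ≤ T).trans le_sup_right
      · have h' : Cfsg.pCore q.1 H ≤ centralizer (T : Set H) := fun y hy => mem_centralizer_iff.mpr fun x hx =>
          (Cfsg.Lib.Components.pCore_commute h y x hy hx).symm.eq
        exact h'.trans le_sup_left
  have hle' : F0 p H ≤ centralizer ({(t' : X)} : Set X) := by
    refine res_le_iff.mpr fun g hg ho => ?_
    obtain ⟨g', hg', rfl⟩ := hg
    obtain ⟨c, hc, t₀, ht₀, e⟩ := mem_sup_of_normal_left.mp (hle hg')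
    have ho' : (orderOf g').Coprime p := by
      rwa [Subgroup.coe_subtype, Subgroup.orderOf_coe] at ho
    set π := QuotientGroup.mk' (centralizer (T : Set H))
    have h1 : π g' = π t₀ := by
      have hc1 : π c = 1 := (QuotientGroup.eq_one_iff c).mpr hc
      rw [← e, map_mul, hc1, one_mul]
    obtain ⟨k, hk⟩ := Cfsg.Lib.Components.isPGroup_pCore p ⟨t₀, ht₀⟩
    have h2 : π g' ^ p ^ k = 1 := by
      rw [h1, ← map_pow, show t₀ ^ p ^ k = 1 from congrArg Subtype.val hk, map_one]
    have h3 : π g' ^ orderOf g' = 1 := by rw [← map_pow, pow_orderOf_eq_one, map_one]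
    have h4 : π g' = 1 := by
      have := pow_gcd_eq_one.mpr ⟨h3, h2⟩
      rwa [(ho'.pow_right k).gcd_eq_one, pow_one] at this
    have h5 := mem_centralizer_iff.mp ((QuotientGroup.eq_one_iff g').mp h4) t' ht'
    exact mem_centralizer_singleton_iff.mpr (congrArg Subtype.val h5).symm
  exact (mem_centralizer_singleton_iff.mp (hle' hf)).symm

/-- `F* = O^p(F*) O_p` -/
theorem gF_le_sup (H : Subgroup X) : gF H ≤ F0 p H ⊔ oP p H := by
  rw [gF, Cfsg.generalizedFittingSubgroup, Subgroup.map_sup]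
  refine sup_le ?_ ?_
  · set L := (Cfsg.layer H).map H.subtype
    have hperf : ⁅L, L⁆ = L := by
      rw [← map_commutator, Cfsg.Lib.Components.layer_perfect]
    have hLg : L ≤ gF H := map_mono Cfsg.Lib.Components.layer_le_genFitting
    refine le_trans (Cfsg.Lib.Components.perfect_le_of_pPrime_elements (p := p) hperf
      ((hLg.trans (gF_le H)).trans (le_normalizer_F0 H)) fun x hx ho => ?_) le_sup_left
    exact mem_res (hLg hx) ho
  · rw [Cfsg.Lib.Components.fitting_eq_iSup_pCore, Subgroup.map_iSup]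
    refine iSup_le fun q => ?_
    haveI := Fact.mk q.2
    by_cases h : q.1 = p
    · exact (h ▸ le_rfl : (Cfsg.pCore q.1 H).map H.subtype ≤ oP p H).trans le_sup_right
    · rintro _ ⟨y, hy, rfl⟩
      refine mem_sup_left (mem_res ⟨y, ?_, rfl⟩ ?_)
      · exact Cfsg.Lib.Components.fitting_le_genFitting
          (Cfsg.Lib.Components.iSup_pCore_le_fitting (mem_iSup_of_mem q hy))
      · rw [Subgroup.coe_subtype, Subgroup.orderOf_coe]
        obtain ⟨k, hk⟩ := (Cfsg.Lib.Components.isPGroup_pCore q.1) ⟨y, hy⟩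
        exact Nat.Coprime.coprime_dvd_left (orderOf_dvd_of_pow_eq_one (congrArg Subtype.val hk))
          ((Nat.coprime_primes q.2 Fact.out).mpr h |>.pow_left k)

/-- elements centralising `O^p(F*)` and `O_p` -/
theorem mem_gF_of_centralizes {H : Subgroup X} {x : X} (hx : x ∈ H)
    (h0 : x ∈ centralizer (F0 p H : Set X)) (hT : x ∈ centralizer (oP p H : Set X)) : x ∈ gF H := by
  refine centralizer_gF hx ?_
  have hle : gF H ≤ centralizer ({x} : Set X) := (gF_le_sup (p := p) H).trans (sup_le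
    (fun g hg => mem_centralizer_singleton_iff.mpr (mem_centralizer_iff.mp h0 g hg))
    (fun g hg => mem_centralizer_singleton_iff.mpr (mem_centralizer_iff.mp hT g hg)))
  exact mem_centralizer_iff.mpr fun g hg => mem_centralizer_singleton_iff.mp (hle hg)

/-- the parts of an element of the centre of `F*` -/
theorem parts_of_centralizes {H : Subgroup X} {x : X} (hx : x ∈ H)
    (h0 : x ∈ centralizer (F0 p H : Set X)) (hT : x ∈ centralizer (oP p H : Set X)) :
    ∃ t z : X, t ∈ oP p H ∧ z ∈ F0 p H ∧ (orderOf z).Coprime p ∧ t ∈ zpowers x ∧ z ∈ zpowers x ∧ t * z = x := by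
  obtain ⟨t, z, ht, hz, e, ⟨k, hk⟩, hzo⟩ := Cfsg.Lib.Transfer.exists_pPart p x
  have hg : x ∈ gF H := mem_gF_of_centralizes hx h0 hT
  refine ⟨t, z, ?_, mem_res (zpowers_le.mpr hg hz) hzo, hzo, ht, hz, e⟩
  set W := gF H ⊓ centralizer (gF H : Set X) with hW
  have hxW : x ∈ W := by
    refine ⟨hg, ?_⟩
    have hle : gF H ≤ centralizer ({x} : Set X) := (gF_le_sup (p := p) H).trans (sup_le
      (fun g hg => mem_centralizer_singleton_iff.mpr (mem_centralizer_iff.mp h0 g hg))
      (fun g hg => mem_centralizer_singleton_iff.mpr (mem_centralizer_iff.mp hT g hg)))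
    exact mem_centralizer_iff.mpr fun g hg => mem_centralizer_singleton_iff.mp (hle hg)
  have htW : t ∈ W := zpowers_le.mpr hxW ht
  haveI : IsMulCommutative W := ⟨⟨fun a b => Subtype.ext ((mem_centralizer_iff.mp b.2.2) a a.2.1)⟩⟩
  letI : CommGroup W := { mul_comm := fun a b => IsMulCommutative.is_comm.comm a b }
  -- the `p`-part of the centre
  set S : Subgroup W :=
    { carrier := {w | ∃ n : ℕ, w ^ p ^ n = 1}
      one_mem' := ⟨0, one_pow _⟩
      mul_mem' := fun {a b} ⟨m, hm⟩ ⟨n, hn⟩ => ⟨m + n, by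
        rw [mul_pow, pow_add, pow_mul, hm, one_pow, one_mul, mul_comm (p ^ m), pow_mul, hn, one_pow]⟩
      inv_mem' := fun {a} ⟨m, hm⟩ => ⟨m, by rw [inv_pow, hm, inv_one]⟩ }
  have hSp : IsPGroup p (S.map W.subtype) := by
    rintro ⟨_, w, ⟨n, hn⟩, rfl⟩
    refine ⟨n, Subtype.ext ?_⟩
    show (w : X) ^ p ^ n = 1
    rw [← SubmonoidClass.coe_pow, hn, OneMemClass.coe_one]
  have hSn : H ≤ normalizer (S.map W.subtype : Set X) := by
    have hHW : H ≤ normalizer (W : Set X) := by
      have h1 := le_normalizer.trans (normalizer_le_gF H)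
      exact Cfsg.Lib.Coprime.le_normalizer_inf h1 (h1.trans (Cfsg.Lib.Thompson.normalizer_le_normalizer_centralizer _))
    have key : ∀ g ∈ normalizer (W : Set X), ∀ z ∈ S.map W.subtype, g * z * g⁻¹ ∈ S.map W.subtype := by
      rintro g hg - ⟨w, ⟨n, hn⟩, rfl⟩
      refine ⟨W.normalizerMonoidHom ⟨g, hg⟩ w, ⟨n, ?_⟩, rfl⟩
      rw [← map_pow, hn, map_one]
    exact fun g hg => Cfsg.Lib.Coprime.mem_normalizer_of_conj_mem (key g (hHW hg))
      fun z hz => by simpa using key g⁻¹ (inv_mem (hHW hg)) z hz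
  exact le_oP ((map_subtype_le _).trans (inf_le_left.trans (gF_le H))) hSn hSp
    ⟨⟨t, htW⟩, ⟨k, Subtype.ext (by show t ^ p ^ k = 1; rw [← hk, pow_orderOf_eq_one])⟩, rfl⟩

end Cfsg.Lib.CapSylow
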