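import Cfsg.Agent.RootSub.QuadPair.Decomp
import Cfsg.Agent.Coprime.Sylow
import Cfsg.Agent.Thompson.PComplement
import Cfsg.Agent.Transfer.Basic

/-!
`p`-subgroups of a linear group in characteristic `p`, and the maximal invariant `p`-subgroups.
-/

set_option autoImplicit false
set_option linter.style.haveILetI false
set_option linter.unusedSectionVars false

namespace Cfsg.Lib.CapSylow

open Subgroup Cfsg Cfsg.Lib.QuadPair
open scoped Pointwise

section Groups

variable {G : Type*} [Group G] [Finite G] {p : ℕ} [Fact p.Prime]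

/-- pairwise commuting `p`-subgroups generate a `p`-group -/
theorem isPGroup_family (W : Set (Subgroup G)) (hW : ∀ A ∈ W, IsPGroup p A)
    (hc : ∀ A ∈ W, ∀ B ∈ W, A ≠ B → A ≤ centralizer (B : Set G)) : IsPGroup p (sSup W : Subgroup G) := by
  suffices key : ∀ F : Set (Subgroup G), F ⊆ W → IsPGroup p (sSup F : Subgroup G) from key W subset_rfl
  intro F
  induction F, Set.toFinite F using Set.Finite.induction_on with
  | empty => intro _; rw [sSup_empty]; exact IsPGroup.of_bot
  | @insert A F hA _ ih =>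
    intro h
    rw [sSup_insert]
    refine IsPGroup.to_sup_of_normal_right' (hW A (h (Set.mem_insert A F)))
      (ih ((Set.subset_insert A F).trans h)) ?_
    refine le_trans ?_ (Subgroup.centralizer_le_normalizer _)
    rw [le_centralizer_iff]
    exact sSup_le fun B hB => hc B (h (Set.mem_insert_of_mem A hB)) A (h (Set.mem_insert A F))
      fun e => hA (e ▸ hB)

/-- `p`-elements of a central extension of a `p`-group by a group without `p`-elements -/
theorem isPGroup_projection {L L' S T : Subgroup G} (hcomm : L' ≤ centralizer (L : Set G))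
    (hS : IsPGroup p S) (hT : T ≤ L) (hTS : ∀ t ∈ T, ∃ l ∈ L', t * l ∈ S)
    (hLL : ∀ z ∈ L ⊓ L', ∀ n : ℕ, z ^ p ^ n = 1 → z = 1)
    {gens : Set G} (hgen : T = closure gens) (hp : ∀ g ∈ gens, ∃ n : ℕ, g ^ p ^ n = 1) :
    IsPGroup p T := by
  set Z := (L ⊓ L').subgroupOf T with hZ
  have hcen : ∀ t ∈ T, ∀ l ∈ L', Commute t l := fun t ht l hl => mem_centralizer_iff.mp (hcomm hl) t (hT ht)
  have hpow : ∀ t : T, ∃ n : ℕ, t ^ p ^ n ∈ Z := by
    intro t
    obtain ⟨l, hl, hls⟩ := hTS t t.2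
    obtain ⟨n, hn⟩ := hS ⟨_, hls⟩
    refine ⟨n, ?_⟩
    have h : ((t : G) * l) ^ p ^ n = 1 := congrArg Subtype.val hn
    rw [(hcen t t.2 l hl).mul_pow, mul_eq_one_iff_eq_inv] at h
    rw [hZ, mem_subgroupOf, SubmonoidClass.coe_pow]
    exact ⟨pow_mem (hT t.2) _, by rw [h]; exact L'.inv_mem (L'.pow_mem hl _)⟩
  haveI hZn : Z.Normal := ⟨fun z hz t => by
    have hl : (z : G) ∈ L' := (mem_subgroupOf.mp hz).2
    have : t * z * t⁻¹ = z := Subtype.ext (by
      show (t : G) * z * (t : G)⁻¹ = z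
      rw [(hcen t t.2 z hl).eq, mul_inv_cancel_right])
    rwa [this]⟩
  have hquot : IsPGroup p (T ⧸ Z) := by
    intro q
    induction q using QuotientGroup.induction_on with
    | H t =>
      obtain ⟨n, hn⟩ := hpow t
      exact ⟨n, by rw [← QuotientGroup.mk_pow]; exact (QuotientGroup.eq_one_iff _).mpr hn⟩
  have hZcop : (Nat.card Z).Coprime p := by
    refine ((Fact.out : p.Prime).coprime_iff_not_dvd.mpr fun hd => ?_).symm
    obtain ⟨z, hz⟩ := exists_prime_orderOf_dvd_card' p hd
    have h1 : ((z : T) : G) ^ p ^ 1 = 1 := by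
      have := pow_orderOf_eq_one z
      rw [hz] at this
      rw [pow_one]
      exact congrArg (fun w : Z => ((w : T) : G)) this
    have := hLL _ (mem_subgroupOf.mp z.2) 1 h1
    rw [show z = 1 from Subtype.ext (Subtype.ext this), orderOf_one] at hz
    exact (Fact.out : p.Prime).ne_one hz.symm
  obtain ⟨P⟩ : Nonempty (Sylow p T) := inferInstance
  obtain ⟨k, hk⟩ := IsPGroup.iff_card.mp hquot
  have hcard : Nat.card T = p ^ k * Nat.card Z := by rw [card_eq_card_quotient_mul_card_subgroup Z, hk]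
  have hPtop : (P : Subgroup T) ⊔ Z = ⊤ := by
    refine eq_top_of_card_eq _ (Nat.dvd_antisymm (card_subgroup_dvd_card _) ?_)
    rw [hcard]
    refine Nat.Coprime.mul_dvd_of_dvd_of_dvd (hZcop.symm.pow_left k) ?_ (card_dvd_of_le le_sup_right)
    exact (P.pow_dvd_card_of_pow_dvd_card (hcard ▸ dvd_mul_right _ _)).trans (card_dvd_of_le le_sup_left)
  haveI hPn : (P : Subgroup T).Normal := by
    rw [← normalizer_eq_top_iff, eq_top_iff, ← hPtop]
    refine sup_le le_normalizer (le_trans ?_ (Subgroup.centralizer_le_normalizer _))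
    intro z hz
    refine mem_centralizer_iff.mpr fun y _ => Subtype.ext ?_
    exact (hcen (y : G) y.2 (z : G) (mem_subgroupOf.mp hz).2).eq
  have hle : T ≤ (P : Subgroup T).map T.subtype := by
    conv_lhs => rw [hgen]
    rw [closure_le]
    intro g hg
    have hgT : g ∈ T := hgen ▸ subset_closure hg
    obtain ⟨n, hn⟩ := hp g hg
    have hz : IsPGroup p (zpowers (⟨g, hgT⟩ : T)) := by
      rintro ⟨x, i, rfl⟩
      refine ⟨n, Subtype.ext ?_⟩
      show ((⟨g, hgT⟩ : T) ^ i) ^ p ^ n = 1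
      rw [← zpow_natCast, ← zpow_mul, mul_comm, zpow_mul, zpow_natCast,
        show (⟨g, hgT⟩ : T) ^ p ^ n = 1 from Subtype.ext hn, one_zpow]
    obtain ⟨Q, hQ⟩ := hz.exists_le_sylow
    haveI := Sylow.unique_of_normal P hPn
    exact ⟨⟨g, hgT⟩, Subsingleton.elim Q P ▸ hQ (mem_zpowers _), rfl⟩
  exact (P.2.map T.subtype).to_le hle

/-- a maximal invariant `p`-subgroup -/
structure IsMaxInv (p : ℕ) (Γ G' S : Subgroup G) : Prop where
  le : S ≤ G'
  pgroup : IsPGroup p S
  inv : Γ ≤ normalizer (S : Set G)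
  max : ∀ S', S' ≤ G' → IsPGroup p S' → Γ ≤ normalizer (S' : Set G) → S ≤ S' → S' = S

/-- membership of all maximal invariant `p`-subgroups -/
def InAll (p : ℕ) (Γ G' : Subgroup G) (x : G) : Prop := x ∈ G' ∧ ∀ S, IsMaxInv p Γ G' S → x ∈ S

theorem exists_maxInv {Γ G' Y : Subgroup G} (hY : Y ≤ G') (hYp : IsPGroup p Y)
    (hYi : Γ ≤ normalizer (Y : Set G)) : ∃ S, IsMaxInv p Γ G' S ∧ Y ≤ S := by
  obtain ⟨S, ⟨h1, h2, h3, h4⟩, hmax⟩ := Set.Finite.exists_maximal
    (Set.toFinite {S : Subgroup G | S ≤ G' ∧ IsPGroup p S ∧ Γ ≤ normalizer (S : Set G) ∧ Y ≤ S})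
    ⟨Y, hY, hYp, hYi, le_rfl⟩
  exact ⟨S, ⟨h1, h2, h3, fun S' a b c d => le_antisymm (hmax ⟨a, b, c, h4.trans d⟩ d) d⟩, h4⟩

theorem InAll.exists_common {Γ G' Y : Subgroup G} {x : G} (hx : InAll p Γ G' x) (hY : Y ≤ G')
    (hYp : IsPGroup p Y) (hYi : Γ ≤ normalizer (Y : Set G)) : ∃ S : Subgroup G, IsPGroup p S ∧ x ∈ S ∧ Y ≤ S := by
  obtain ⟨S, hS, hYS⟩ := exists_maxInv hY hYp hYi
  exact ⟨S, hS.pgroup, hx.2 S hS, hYS⟩

theorem InAll.one {Γ G' : Subgroup G} : InAll p Γ G' 1 := ⟨one_mem _, fun S _ => one_mem S⟩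

theorem InAll.mul {Γ G' : Subgroup G} {x y : G} (hx : InAll p Γ G' x) (hy : InAll p Γ G' y) :
    InAll p Γ G' (x * y) := ⟨mul_mem hx.1 hy.1, fun S hS => mul_mem (hx.2 S hS) (hy.2 S hS)⟩

theorem InAll.inv {Γ G' : Subgroup G} {x : G} (hx : InAll p Γ G' x) : InAll p Γ G' x⁻¹ :=
  ⟨inv_mem hx.1, fun S hS => inv_mem (hx.2 S hS)⟩

theorem InAll.pow {Γ G' : Subgroup G} {x : G} (hx : InAll p Γ G' x) (n : ℕ) : InAll p Γ G' (x ^ n) :=
  ⟨pow_mem hx.1 n, fun S hS => pow_mem (hx.2 S hS) n⟩

theorem InAll.restrict {Γ G' K : Subgroup G} {x : G} (hx : InAll p Γ G' x) (hK : K ≤ G') (hxK : x ∈ K)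
    (hKi : Γ ≤ normalizer (K : Set G)) : InAll p Γ K x := by
  refine ⟨hxK, fun T hT => ?_⟩
  obtain ⟨S, hS, hTS⟩ := exists_maxInv (hT.le.trans hK) hT.pgroup hT.inv
  have h := hT.max (S ⊓ K) inf_le_right (hS.pgroup.to_le inf_le_left)
    (Cfsg.Lib.Coprime.le_normalizer_inf hS.inv hKi) (le_inf hTS hT.le)
  exact h ▸ mem_inf.mpr ⟨hx.2 S hS, hxK⟩

theorem InAll.conj {Γ G' : Subgroup G} {x g : G} (hx : InAll p Γ G' x) (hg : g ∈ normalizer (G' : Set G))
    (hgΓ : g ∈ normalizer (Γ : Set G)) : InAll p Γ G' (g * x * g⁻¹) := by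
  refine ⟨(mem_normalizer_iff.mp hg x).mp hx.1, fun S hS => ?_⟩
  set S' := S.map (MulAut.conj g⁻¹).toMonoidHom
  have hback : ∀ T : Subgroup G, (T.map (MulAut.conj g).toMonoidHom).map (MulAut.conj g⁻¹).toMonoidHom = T ∧
      (T.map (MulAut.conj g⁻¹).toMonoidHom).map (MulAut.conj g).toMonoidHom = T := fun T => by
    constructor <;>
    · rw [map_map]
      convert Subgroup.map_id T
      ext z; simp [mul_assoc]
  have hG : G'.map (MulAut.conj g⁻¹).toMonoidHom = G' :=
    Cfsg.Lib.Transfer.map_conj_eq_self_iff.mpr (inv_mem hg)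
  have hG2 : G'.map (MulAut.conj g).toMonoidHom = G' := Cfsg.Lib.Transfer.map_conj_eq_self_iff.mpr hg
  have hΓ : Γ.map (MulAut.conj g⁻¹).toMonoidHom = Γ :=
    Cfsg.Lib.Transfer.map_conj_eq_self_iff.mpr (inv_mem hgΓ)
  have hΓ2 : Γ.map (MulAut.conj g).toMonoidHom = Γ := Cfsg.Lib.Transfer.map_conj_eq_self_iff.mpr hgΓ
  have hS' : IsMaxInv p Γ G' S' := by
    refine ⟨(map_mono hS.le).trans hG.le, hS.pgroup.map _, ?_, fun T hT1 hT2 hT3 hT4 => ?_⟩
    · exact hΓ.ge.trans ((map_mono hS.inv).trans (le_normalizer_map _))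
    · have := hS.max (T.map (MulAut.conj g).toMonoidHom) ((map_mono hT1).trans hG2.le) (hT2.map _)
        (hΓ2.ge.trans ((map_mono hT3).trans (le_normalizer_map _))) ((hback S).2.ge.trans (map_mono hT4))
      rw [← (hback T).1, this]
  obtain ⟨s, hs, hsx⟩ := hx.2 S' hS'
  rw [← hsx]
  simpa [mul_assoc] using hs

/-- membership of a normal `p`-subgroup -/
def InCore (p : ℕ) (G' : Subgroup G) (x : G) : Prop :=
  ∃ N : Subgroup G, N ≤ G' ∧ IsPGroup p N ∧ G' ≤ normalizer (N : Set G) ∧ x ∈ N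

theorem InCore.pgroup_sup {G' : Subgroup G} {N Y : Subgroup G} (hN : IsPGroup p N)
    (hnorm : G' ≤ normalizer (N : Set G)) (hY : Y ≤ G') (hYp : IsPGroup p Y) :
    IsPGroup p (Y ⊔ N : Subgroup G) := IsPGroup.to_sup_of_normal_right' hYp hN (hY.trans hnorm)

end Groups

section Linear

variable {k : Type*} [Field k] [Finite k] {M : Type*} [AddCommGroup M] [Module k M] [FiniteDimensional k M]
variable {p : ℕ} [Fact p.Prime] [CharP k p]

local notation "End'" => (M →ₗ[k] M)
local notation "GL'" => LinearMap.GeneralLinearGroup k M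

/-- a `p`-subgroup is unipotent -/
theorem unipotent_of_pgroup {S : Subgroup GL'} (hS : IsPGroup p S) : IsUnipotentOn S := by
  classical
  haveI : Finite M := Module.finite_of_finite k
  haveI hfinq : ∀ N : Submodule k M, Finite (M ⧸ N) := fun N => Finite.of_surjective _ N.mkQ_surjective
  let step : Submodule k M → Submodule k M := fun F => ⨅ g ∈ S, F.comap ((g : End') - 1)
  let F : ℕ → Submodule k M := fun n => step^[n] ⊥
  have hFs : ∀ n, F (n + 1) = step (F n) := fun n => Function.iterate_succ_apply' step n ⊥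
  have hmem : ∀ n v, v ∈ F (n + 1) ↔ ∀ g ∈ S, ((g : End') - 1) v ∈ F n := fun n v => by
    rw [hFs]; simp [step, Submodule.mem_iInf]
  have hinv : ∀ n, ∀ g ∈ S, ∀ v ∈ F n, (g : End') v ∈ F n := by
    intro n
    induction n with
    | zero =>
      intro g _ v hv
      simp only [F, Function.iterate_zero, id_eq, Submodule.mem_bot] at hv ⊢
      rw [hv, map_zero]
    | succ n ih =>
      intro g hg v hv
      rw [hmem] at hv ⊢
      intro h hh
      have h1 := hv (g⁻¹ * h * g) (mul_mem (mul_mem (inv_mem hg) hh) hg)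
      have h2 := ih g hg _ h1
      rw [← Module.End.mul_apply] at h2 ⊢
      convert h2 using 2
      rw [Units.val_mul, Units.val_mul, mul_sub, mul_one, sub_mul, one_mul, ← mul_assoc, ← mul_assoc,
        Units.mul_inv, one_mul]
  have hmono : ∀ n, F n ≤ F (n + 1) := fun n v hv => (hmem n v).mpr fun g hg => by
    rw [LinearMap.sub_apply, Module.End.one_apply]; exact sub_mem (hinv n g hg v hv) hv
  have hgrow : ∀ n, F n ≠ ⊤ → F n < F (n + 1) := by
    intro n hn
    refine lt_of_le_of_ne (hmono n) fun e => ?_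
    letI : MulAction S (M ⧸ F n) :=
      { smul := fun g => (F n).mapQ (F n) ((g : GL') : End') fun v hv => hinv n _ g.2 v hv
        one_smul := fun q => by
          induction q using Submodule.Quotient.induction_on with
          | H v => exact congrArg Submodule.Quotient.mk rfl
        mul_smul := fun g h q => by
          induction q using Submodule.Quotient.induction_on with
          | H v => exact congrArg Submodule.Quotient.mk rfl }
    haveI : Nontrivial (M ⧸ F n) := Submodule.Quotient.nontrivial_iff.mpr hn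
    have hdvd : p ∣ Nat.card (M ⧸ F n) := by
      rw [Module.natCard_eq_pow_finrank (K := k)]
      exact dvd_pow ((CharP.cast_eq_zero_iff k p _).mp (by
        haveI := Fintype.ofFinite k; rw [Nat.card_eq_fintype_card, Nat.cast_card_eq_zero]))
        (Module.finrank_pos).ne'
    have h0 : (0 : M ⧸ F n) ∈ MulAction.fixedPoints S (M ⧸ F n) := fun g => map_zero _
    obtain ⟨q, hq, hq0⟩ := hS.exists_fixed_point_of_prime_dvd_card_of_fixed_point _ hdvd h0
    induction q using Submodule.Quotient.induction_on with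
    | H v =>
      refine hq0 ((Submodule.Quotient.mk_eq_zero _).mpr (e.ge ((hmem n v).mpr fun g hg => ?_))).symm
      rw [LinearMap.sub_apply, Module.End.one_apply]
      exact (Submodule.Quotient.eq _).mp (hq ⟨g, hg⟩)
  have htop : ∀ n, F n = ⊤ ∨ n ≤ Module.finrank k (F n) := by
    intro n
    induction n with
    | zero => exact Or.inr (Nat.zero_le _)
    | succ n ih =>
      rcases ih with h | h
      · exact Or.inl (top_le_iff.mp (h ▸ hmono n))
      · by_cases hn : F n = ⊤
        · exact Or.inl (top_le_iff.mp (hn ▸ hmono n))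
        · exact Or.inr (Nat.succ_le_of_lt (lt_of_le_of_lt h (Submodule.finrank_lt_finrank_of_lt (hgrow n hn))))
  set d := Module.finrank k M + 1
  have hd : F d = ⊤ := (htop d).resolve_right fun h => by
    have := Submodule.finrank_le (F d); omega
  refine ⟨d, fun l hl hlen => ?_⟩
  have key : ∀ l : List GL', (∀ g ∈ l, g ∈ S) → ∀ m, ∀ v ∈ F (m + l.length),
      (l.map fun g : GL' => (g : End') - 1).prod v ∈ F m := by
    intro l
    induction l with
    | nil => intro _ m v hv; simpa using hv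
    | cons g l ih =>
      intro hl m v hv
      rw [List.map_cons, List.prod_cons, Module.End.mul_apply]
      refine (hmem m _).mp (ih (fun x hx => hl x (List.mem_cons_of_mem _ hx)) (m + 1) v ?_) g
        (hl g (List.mem_cons_self ..))
      rwa [List.length_cons, show m + (l.length + 1) = m + 1 + l.length by ring] at hv
  rw [RootSub.unip_list]
  refine LinearMap.ext fun v => ?_
  have := key l hl 0 v (by rw [zero_add, hlen, hd]; exact Submodule.mem_top)
  simpa [F] using this

/-- products from one `p`-subgroup are nilpotent -/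
theorem nilp_of_pgroup {S : Subgroup GL'} (hS : IsPGroup p S) {g h : GL'} (hg : g ∈ S) (hh : h ∈ S) :
    IsNilpotent (((g : End') - 1) * ((h : End') - 1)) := nilp_of_unipotent (unipotent_of_pgroup hS) hg hh

theorem nilp_mem_span {S : Subgroup GL'} (hS : IsPGroup p S) {x : End'} (hx : x ∈ RootSub.dSpan S) :
    IsNilpotent x := by
  obtain ⟨n, hn⟩ := RootSub.isNull_of_unipotent (unipotent_of_pgroup hS)
  exact ⟨n, by rw [← List.prod_replicate]; exact hn _ (fun y hy => (List.eq_of_mem_replicate hy) ▸ hx) (by simp)⟩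

end Linear

end Cfsg.Lib.CapSylow
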