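import Cfsg.Agent.CapSylow.Alg
import Cfsg.Agent.CapSylow.Nilp

/-!
Opposites of weight vectors, the splitting of a quadratic element, and the parts under a quadratic element.
-/

set_option autoImplicit false
set_option linter.style.haveILetI false
set_option linter.unusedSectionVars false
set_option linter.unusedVariables false

open Polynomial

namespace Cfsg.Lib.CapSylow

open Cfsg Cfsg.Lib.QuadPair Cfsg.Lib.CoprimeZJ

section Split

variable {k : Type*} [Field k] {M : Type*} [AddCommGroup M] [Module k M] [FiniteDimensional k M]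

local notation "End'" => (M →ₗ[k] M)
local notation "GL'" => LinearMap.GeneralLinearGroup k M

variable {G : Subgroup (LinearMap.GeneralLinearGroup k M)} {a u : M →ₗ[k] M}

/-- Splitting off an element of smallest rank, with its form. -/
theorem split_form (h2 : (2 : k) ≠ 0) (h3 : Nat.card k ≠ 3) (ha : MinEl G a) (hu : Fam G u)
    (hn : ¬ IsNilpotent (a * u)) :
    ∃ w, MinEl G w ∧ ¬ IsNilpotent (a * w) ∧ ∃ h, w = u * h * u := by
  obtain ⟨Q, ε, c, hQm, hirr, hQ0, hkill0, hεa, hεX, hεQ, D, hup, hlow, hG⟩ := pair_core h2 h3 ha hu hn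
  obtain ⟨T, hT⟩ : ∃ T, T = a * u := ⟨_, rfl⟩
  rw [← hT] at hkill0 hεa
  obtain ⟨w, hw⟩ : ∃ w, w = u * aeval T ε := ⟨_, rfl⟩
  have hw1 : w * a = u * a := by rw [hw, mul_assoc, hεa]
  have hsq : w * w = 0 ∧ w * (u - w) = 0 ∧ (u - w) * w = 0 := by
    have key : ∀ f : k[X], u * aeval T f * u = 0 := fun f => by rw [hT]; exact (aeval_mid ha.sq hu.sq f).2
    have e1 : w * u = 0 := hw ▸ key ε
    have e2 : w * w = 0 := by nth_rewrite 2 [hw]; rw [← mul_assoc, e1, zero_mul]
    have e3 : u * w = 0 := by rw [hw, ← mul_assoc, hu.sq, zero_mul]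
    exact ⟨e2, by rw [mul_sub, e1, e2, sub_zero], by rw [sub_mul, e3, e2, sub_zero]⟩
  have hFw : Fam G w := by
    refine ⟨hsq.1, fun t => ⟨sl2Unit D (rl (algebraMap k (AdjoinRoot Q) t * AdjoinRoot.root Q)), hG _, ?_⟩⟩
    rw [sl2Unit_rl, AdjoinRoot.algebraMap_eq, ← AdjoinRoot.mk_C, ← AdjoinRoot.mk_X, ← map_mul, hlow, map_mul, aeval_C,
      ← Algebra.smul_def, mul_smul_comm, hw, hT]
  have hr1 : LinearMap.range w ≤ (LinearMap.range a).map u := by
    obtain ⟨g, hg⟩ := hεX
    rintro _ ⟨v, rfl⟩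
    refine ⟨a (u (aeval T g v)), ⟨_, rfl⟩, ?_⟩
    rw [hw, hg, map_mul, aeval_X, hT]
    rfl
  have hdis : Disjoint (LinearMap.range a) (LinearMap.ker u) := core_disj hQ0 (hT ▸ hkill0)
  have hfr : Module.finrank k ((LinearMap.range a).map u) = rk a := by
    have := finrank_map_add u (LinearMap.range a)
    rwa [hdis.eq_bot, finrank_bot, add_zero] at this
  have hw0 : w ≠ 0 := fun h => hn ⟨2, by
    rw [h, zero_mul] at hw1
    rw [pow_two, ← mul_assoc, mul_assoc a u a, ← hw1, mul_zero, zero_mul]⟩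
  have hwr : rk w = rk a := le_antisymm ((Submodule.finrank_mono hr1).trans hfr.le) (ha.min w hFw hw0)
  have hmw : MinEl G w := ha.of_rk_le hFw hw0 hwr.le
  have hrange : LinearMap.range w = (LinearMap.range a).map u :=
    Submodule.eq_of_le_of_finrank_le hr1 (hfr.le.trans hwr.ge)
  have hFd : Fam G (u - w) := by
    have h := hu.add (hFw.smul (-1)) (by rw [mul_smul_comm, hw, ← mul_assoc, hu.sq, zero_mul, smul_zero])
      (by rw [smul_mul_assoc, hw, hT, (aeval_mid ha.sq hu.sq _).2, smul_zero])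
    rwa [neg_one_smul, ← sub_eq_add_neg] at h
  have haw : a * (u - w) = 0 := by
    rw [hw, show u - u * aeval T ε = u * aeval T (1 - ε) by rw [map_sub, map_one, mul_sub, mul_one], ← mul_assoc,
      ← hT]
    nth_rewrite 1 [← aeval_X (R := k) T]
    rw [← map_mul]
    obtain ⟨g, hg⟩ := hεQ
    rw [hg, show X * (Q * g) = Q * g * X by ring, map_mul, aeval_X]
    nth_rewrite 2 [hT]
    rw [← mul_assoc, (hkill0 _).mpr (dvd_mul_right _ _), zero_mul]
  have hnw : ¬ IsNilpotent (a * w) := fun h => hn (by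
    rw [mul_sub, sub_eq_zero] at haw
    rw [haw]
    exact h)
  obtain ⟨g, hg⟩ := hεX
  refine ⟨w, hmw, hnw, aeval T g * a, ?_⟩
  rw [hw, hg, mul_comm X g, map_mul, aeval_X]
  nth_rewrite 2 [hT]
  simp only [mul_assoc]

/-- the outer part of the dichotomy, without a generation hypothesis -/
theorem mem_rootGroup_sup (h2 : (2 : k) ≠ 0) (h3 : Nat.card k ≠ 3) (hs : Semi G) :
    ∀ (u : End') (hu : Fam G u),
      xu u hu.sq ∈ rootGroup G ⊔ (G ⊓ Subgroup.centralizer (rootGroup G : Set GL')) := by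
  suffices key : ∀ (n : ℕ) (u : End') (hu : Fam G u), rk u ≤ n →
      xu u hu.sq ∈ rootGroup G ⊔ (G ⊓ Subgroup.centralizer (rootGroup G : Set GL')) from
    fun u hu => key _ u hu le_rfl
  intro n
  induction n using Nat.strong_induction_on with
  | _ n ih =>
    intro u hu hle
    by_cases hall : ∀ a, MinEl G a → IsNilpotent (a * u)
    · exact Subgroup.mem_sup_right (Subgroup.mem_inf.mpr ⟨hu.xu_mem_one,
        centralizes_of_sandwich h2 h3 hs hu fun a ha => sandwich h2 ha hu (hall a ha)⟩)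
    · push Not at hall
      obtain ⟨a, ha, hn⟩ := hall
      obtain ⟨w, hw, hF, hw1, hw2, hlt, -⟩ := split_step h2 h3 ha hu hn
      have e : xu u hu.sq = xu w hw.sq * xu (u - w) hF.sq := Units.ext (by
        rw [Units.val_mul, xu_val, xu_val, xu_val,
          show (1 + w) * (1 + (u - w)) = 1 + u + w * (u - w) by noncomm_ring, hw1, add_zero])
      rw [e]
      exact mul_mem (Subgroup.mem_sup_left (rootOf_le_rootGroup hw (xu_mem_rootOf hw (Same.refl hw))))
        (ih (rk (u - w)) (lt_of_lt_of_le hlt hle) _ hF le_rfl)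

/-- the roots outside a part -/
def restRoots (G : Subgroup (LinearMap.GeneralLinearGroup k M)) (A : Subgroup (LinearMap.GeneralLinearGroup k M)) :
    Subgroup (LinearMap.GeneralLinearGroup k M) :=
  ⨆ B ∈ {B | B ∈ quadraticRootSubgroups G ∧ B ∉ part G A}, B

theorem rest_le_centralizer (h2 : (2 : k) ≠ 0) (h3 : Nat.card k ≠ 3) (hs : Semi G) (A : Subgroup GL') :
    restRoots G A ≤ Subgroup.centralizer (partGroup G A : Set GL') :=
  iSup₂_le fun _ hB => le_centralizer_of_not_mem h2 h3 hs hB.1 hB.2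

theorem rootGroup_eq (A : Subgroup GL') : rootGroup G = partGroup G A ⊔ restRoots G A := by
  refine le_antisymm ?_ (sup_le (partGroup_le A) (iSup₂_le fun B hB => le_iSup₂ (f := fun B _ => B) B hB.1))
  refine iSup₂_le fun B hB => ?_
  by_cases h : B ∈ part G A
  · exact (le_partGroup h).trans le_sup_left
  · exact le_trans (le_iSup₂ (f := fun B _ => B) B (show B ∈ {B | B ∈ quadraticRootSubgroups G ∧ B ∉ part G A} from
      ⟨hB, h⟩)) le_sup_right

/-- a quadratic element preserves every part -/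
theorem part_fixed [Finite k] (h2 : (2 : k) ≠ 0) (h3 : Nat.card k ≠ 3) (hs : Semi G) (hu : Fam G u) {A B : Subgroup GL'}
    (hA : A ∈ quadraticRootSubgroups G) (hB : B ∈ part G A) : conjBy B (xu u hu.sq) ∈ part G A := by
  let K : Subgroup GL' :=
    { carrier := {g | g ∈ G ∧ ∀ C, (C ∈ part G A → conjBy C g ∈ part G A) ∧ (C ∈ part G A → conjBy C g⁻¹ ∈ part G A)}
      one_mem' := ⟨one_mem G, fun C => by simp only [inv_one, RootSub.conjBy_one]; exact ⟨id, id⟩⟩
      mul_mem' := fun {g h} hg hh => ⟨mul_mem hg.1 hh.1, fun C => ⟨fun hC => by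
        rw [← RootSub.conjBy_conjBy]; exact (hg.2 _).1 ((hh.2 C).1 hC), fun hC => by
        rw [mul_inv_rev, ← RootSub.conjBy_conjBy]; exact (hh.2 _).2 ((hg.2 C).2 hC)⟩⟩
      inv_mem' := fun {g} hg => ⟨inv_mem hg.1, fun C => by rw [inv_inv]; exact ⟨(hg.2 C).2, (hg.2 C).1⟩⟩ }
  have hroot : rootGroup G ≤ K := by
    rw [rootGroup_eq (G := G) A]
    refine sup_le (fun g hg => ⟨sup_le_group (partGroup_le A hg), fun C =>
      ⟨fun hC => part_stable hA hg hC, fun hC => part_stable hA (inv_mem hg) hC⟩⟩) fun g hg => ?_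
    have hfix : ∀ g ∈ restRoots G A, ∀ C ∈ part G A, conjBy C g = C := fun g hg C hC =>
      RootSub.conjBy_eq_self_iff.mpr (Subgroup.centralizer_le_normalizer _ (Subgroup.centralizer_le
        (SetLike.coe_subset_coe.mpr (le_partGroup hC)) (rest_le_centralizer h2 h3 hs A hg)))
    refine ⟨(iSup₂_le fun B hB => mem_le hB.1 : restRoots G A ≤ G) hg, fun C => ⟨fun hC => ?_, fun hC => ?_⟩⟩
    · rw [hfix g hg C hC]; exact hC
    · rw [hfix _ (inv_mem hg) C hC]; exact hC
  have hcen : G ⊓ Subgroup.centralizer (rootGroup G : Set GL') ≤ K := fun g hg => by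
    have hfix : ∀ g ∈ Subgroup.centralizer (rootGroup G : Set GL'), ∀ C ∈ part G A, conjBy C g = C :=
      fun g hg C hC => RootSub.conjBy_eq_self_iff.mpr (Subgroup.centralizer_le_normalizer _
        (Subgroup.centralizer_le (SetLike.coe_subset_coe.mpr (le_iSup₂ (f := fun B _ => B) C hC.1)) hg))
    exact ⟨hg.1, fun C => ⟨fun hC => by rw [hfix g hg.2 C hC]; exact hC,
      fun hC => by rw [hfix _ (inv_mem hg.2) C hC]; exact hC⟩⟩
  exact (((sup_le hroot hcen) (mem_rootGroup_sup h2 h3 hs u hu)).2 B).1 hB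

end Split

section Opp

variable {k : Type*} [Field k] [Finite k] {M : Type*} [AddCommGroup M] [Module k M] [FiniteDimensional k M]

local notation "End'" => (M →ₗ[k] M)
local notation "GL'" => LinearMap.GeneralLinearGroup k M

variable {H G : Subgroup (LinearMap.GeneralLinearGroup k M)} {a c b d D z : M →ₗ[k] M}

theorem smul_inv2 (hI : Inv2 b d) {μ : k} (hμ : μ ≠ 0) : Inv2 (μ • b) (μ⁻¹ • d) := by
  have := inv2_smul hI (Units.mk0 μ hμ)
  rwa [Units.val_mk0, Units.val_inv_eq_inv_val, Units.val_mk0] at this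

/-- an opposite with a fixed root has the inverse weight -/
theorem opposite_eigen (hd : MinEl H d) (hI : Inv2 b d) {t : GL'} (ht : t ∈ H) {μ : k} (hμ : μ ≠ 0)
    (hb : cj t b = μ • b) (hs : Same H d (cj t d)) : cj t d = μ⁻¹ • d := by
  have h1 : Inv2 b (μ • cj t d) := by
    have := smul_inv2 (cj_inv2 hI t) (inv_ne_zero hμ)
    rwa [inv_inv, hb, smul_smul, inv_mul_cancel₀ hμ, one_smul] at this
  have hs' : Same H d (μ • cj t d) := hs.smul μ
  obtain ⟨-, hk, hr⟩ := hs'.data (smul_ne_zero hμ (hd.conj ht).ne)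
  have e := opp_unique hI h1 (proj_eq hI h1 rfl rfl hk hr).symm (hs'.mul_eq_zero hd (Same.refl hd))
  conv_rhs => rw [e, smul_smul, inv_mul_cancel₀ hμ, one_smul]

variable {p : ℕ} [Fact p.Prime] [CharP k p]

theorem flag_isPGroup (hp : p ≠ 2) (ha : a ≠ 0) : IsPGroup p (flagGroup G a) := fun g =>
  ⟨1, Subtype.ext (by rw [pow_one, SubmonoidClass.coe_pow]; exact flag_pow hp ha g.2)⟩

/-- an eigenvector has an opposite eigenvector -/
theorem exists_eigen_opposite (hp : p ≠ 2) (h2 : (2 : k) ≠ 0) (h3 : Nat.card k ≠ 3) (hs : Semi H) (hGH : G ≤ H)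
    (hG : ∀ (x : End') (hx : x * x = 0), xu x hx ∈ H → xu x hx ∈ G) (hb : MinEl H b) {t : GL'} (ht : t ∈ G)
    (hcop : (orderOf t).Coprime p) {μ : k} (hμ : μ ≠ 0) (he : cj t b = μ • b) :
    ∃ d, MinEl H d ∧ Inv2 b d ∧ cj t d = μ⁻¹ • d := by
  haveI : Finite M := Module.finite_of_finite k
  haveI : Finite End' := DFunLike.finite _
  haveI : Finite GL' := Finite.of_injective (fun g : GL' => (g : End')) fun _ _ h => Units.ext h
  set Γ := Subgroup.zpowers t
  obtain ⟨d₀, hd₀, hI₀⟩ := exists_inv2 h2 h3 hs hb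
  have hfixroot : ∀ g ∈ Γ, conjBy (rootOf hb) g = rootOf hb := by
    intro g hg
    refine RootSub.conjBy_eq_self_iff.mpr ((Subgroup.zpowers_le.mpr ?_) hg)
    refine RootSub.conjBy_eq_self_iff.mp ?_
    rw [root_conj hb (hGH ht)]
    exact rootOf_congr _ _ (by rw [he, LinearMap.ker_smul _ _ hμ]) (by rw [he, LinearMap.range_smul _ _ hμ])
  have hΓG : Γ ≤ G := Subgroup.zpowers_le.mpr ht
  have hscal : ∀ g ∈ Γ, ∃ ν : k, ν ≠ 0 ∧ cj g b = ν • b := by
    intro g hg
    obtain ⟨n, rfl⟩ := Subgroup.mem_zpowers_iff.mp hg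
    induction n with
    | zero => exact ⟨1, one_ne_zero, by rw [zpow_zero, cj_one, one_smul]⟩
    | succ i ih =>
      obtain ⟨ν, hν, e⟩ := ih (Subgroup.zpow_mem _ (Subgroup.mem_zpowers t) _)
      refine ⟨ν * μ, mul_ne_zero hν hμ, ?_⟩
      rw [zpow_add_one, cj_comp, he, cj_smul, e, smul_smul, mul_comm]
    | pred i ih =>
      obtain ⟨ν, hν, e⟩ := ih (Subgroup.zpow_mem _ (Subgroup.mem_zpowers t) _)
      refine ⟨ν * μ⁻¹, mul_ne_zero hν (inv_ne_zero hμ), ?_⟩
      have e' : cj t⁻¹ b = μ⁻¹ • b := by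
        have h := congrArg (cj t⁻¹) he
        rw [← cj_comp, inv_mul_cancel, cj_one, cj_smul] at h
        conv_rhs => rw [h, smul_smul, inv_mul_cancel₀ hμ, one_smul]
      rw [zpow_sub_one, cj_comp, e', cj_smul, e, smul_smul, mul_comm]
  let Sd : Set (Submodule k End') := {W | ∃ d, MinEl H d ∧ Inv2 b d ∧ W = Submodule.span k {d}}
  let cjl : GL' → (End' →ₗ[k] End') := fun g =>
    { toFun := cj g, map_add' := cj_add g, map_smul' := fun r x => cj_smul g r x }
  let act : GL' → Submodule k End' → Submodule k End' := fun g W => W.map (cjl g)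
  have hact : ∀ g d, act g (Submodule.span k {d}) = Submodule.span k {cj g d} := fun g d => by
    simp only [act, Submodule.map_span, Set.image_singleton]; rfl
  obtain ⟨W, ⟨d, hd, hI, rfl⟩, hfix⟩ : ∃ W ∈ Sd, ∀ g ∈ Γ, act g W = W := by
    refine exists_fixedPoint act (fun W => ?_) (fun g h W => ?_) (U := flagGroup G b) ?_ ?_ ?_
      ⟨_, d₀, hd₀, hI₀, rfl⟩ ?_ ?_ ?_
    · refine SetLike.ext fun x => ?_
      simp [act, cjl, cj_one]
    · simp only [act, ← Submodule.map_comp]
      congr 1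
    · intro g hg
      refine Cfsg.Lib.Coprime.mem_normalizer_of_conj_mem (fun x hx => ?_) fun x hx => ?_
      · exact flagGroup_conj hb (hGH (hΓG hg)) (hfixroot g hg)
          (mul_mem (mul_mem (hΓG hg) hx.1) (inv_mem (hΓG hg))) hx
      · have h := flagGroup_conj (n := g⁻¹) (g := x) hb (hGH (hΓG (inv_mem hg))) (hfixroot _ (inv_mem hg))
          (mul_mem (mul_mem (hΓG (inv_mem hg)) hx.1) (inv_mem (hΓG (inv_mem hg)))) hx
        rwa [inv_inv] at h
    · obtain ⟨n, hn⟩ := IsPGroup.iff_card.mp (flag_isPGroup (G := G) (p := p) hp hb.ne)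
      rw [hn, Nat.card_zpowers]
      exact (hcop.symm).pow_left n
    · haveI : IsMulCommutative (Subgroup.zpowers t) := inferInstance
      exact Group.isSolvable_of_comm fun x y => IsMulCommutative.is_comm.comm x y
    · rintro u hu _ ⟨d, hd, hI, rfl⟩
      refine ⟨cj u d, hd.conj (hGH (flagGroup_le G hu)), ?_, hact u d⟩
      have := cj_inv2 hI u
      rwa [flag_fixes hu] at this
    · rintro g hg _ ⟨d, hd, hI, rfl⟩
      obtain ⟨ν, hν, e⟩ := hscal g hg
      refine ⟨ν • cj g d, ?_, ?_, ?_⟩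
      · exact (((Same.refl (hd.conj (hGH (hΓG hg)))).smul ν).data (smul_ne_zero hν (hd.conj (hGH (hΓG hg))).ne)).1
      · have := smul_inv2 (cj_inv2 hI g) (inv_ne_zero hν)
        rwa [inv_inv, e, smul_smul, inv_mul_cancel₀ hν, one_smul] at this
      · rw [hact]
        exact (Submodule.span_singleton_smul_eq (isUnit_iff_ne_zero.mpr hν) _).symm
    · rintro _ ⟨d₁, m₁, h₁, rfl⟩ _ ⟨d₂, m₂, h₂, rfl⟩
      obtain ⟨u, hu, hmove⟩ := exists_flag_move hp h2 hG hb m₂ m₁ h₂ h₁
      have hd' : MinEl H (cj u d₁) := m₁.conj (hGH (flagGroup_le G hu))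
      have hI' : Inv2 b (cj u d₁) := by
        have := cj_inv2 h₁ u
        rwa [flag_fixes hu] at this
      have hP : b * cj u d₁ + cj u d₁ * b = b * d₂ + d₂ * b := by
        rw [← hmove, cj_proj, flag_fixes hu]
      have hX := same_shift h2 h3 hb hI' h₂ hP hd' m₂
      refine ⟨xu _ hX.fam.sq * u, mul_mem ⟨hG _ _ hX.fam.xu_mem_one, ?_⟩ hu, ?_⟩
      · rw [xu_sub_one]
        refine ⟨hX.mul_eq_zero hb (Same.refl hb), (Same.refl hb).mul_eq_zero hb hX, fun v _ => ?_⟩
        exact hX.range_le ⟨v, rfl⟩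
      · rw [hact, cj_comp]
        congr 2
        exact conj_shift hI' h₂ hP
  refine ⟨d, hd, hI, ?_⟩
  have h := hfix t (Subgroup.mem_zpowers t)
  rw [hact] at h
  obtain ⟨α, hα⟩ := Submodule.mem_span_singleton.mp (h ▸ Submodule.mem_span_singleton_self (cj t d))
  refine opposite_eigen hd hI (hGH ht) hμ he ?_
  rw [← hα]
  exact (Same.refl hd).smul α

end Opp

end Cfsg.Lib.CapSylow
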