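import Cfsg.Agent.CapSylow.Ctx

/-!
A quadratic element in all maximal invariant `p`-subgroups commutes with the fixed pair.
-/

set_option autoImplicit false
set_option linter.style.haveILetI false
set_option linter.unusedSectionVars false
set_option linter.unusedVariables false

namespace Cfsg.Lib.CapSylow

open Cfsg Cfsg.Lib.QuadPair Cfsg.Lib.CoprimeZJ
open Subgroup

variable {p : ℕ} [Fact p.Prime] {M : Type*} [AddCommGroup M] [Module (ZMod p) M] [Finite M]
  [FiniteDimensional (ZMod p) M]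

local notation "End'" => (M →ₗ[ZMod p] M)
local notation "GL'" => LinearMap.GeneralLinearGroup (ZMod p) M

theorem tor_one {a c : End'} (hI : Inv2 a c) : tor hI 1 = 1 := Units.ext (by
  rw [tor_val, inv_one, Units.val_one, one_smul, one_smul, Units.val_one]
  exact one_split.symm)

theorem tor_mul {a c : End'} (hI : Inv2 a c) (s t : (ZMod p)ˣ) : tor hI s * tor hI t = tor hI (s * t) :=
  Units.ext (by
    rw [Units.val_mul, tor_val, tor_val, tor_val]
    simp only [add_mul, mul_add, smul_mul_assoc, mul_smul_comm, pp hI, pn hI, np hI, nn hI, pz hI, zp hI, nz hI,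
      zn hI, zzz hI, smul_zero, smul_smul, add_zero, zero_add, Units.val_mul, mul_inv]
    rw [mul_comm (t : ZMod p), mul_comm (↑t⁻¹ : ZMod p)])

theorem tor_coprime {a c : End'} (hI : Inv2 a c) (t : (ZMod p)ˣ) : (orderOf (tor hI t)).Coprime p := by
  have h : tor hI t ^ (p - 1) = 1 := by
    have : ∀ n : ℕ, tor hI t ^ n = tor hI (t ^ n) := by
      intro n
      induction n with
      | zero => rw [pow_zero, pow_zero, tor_one]
      | succ n ih => rw [pow_succ, pow_succ, ih, tor_mul]
    rw [this, ZMod.units_pow_card_sub_one_eq_one, tor_one]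
  have hp := (Fact.out : p.Prime)
  refine Nat.Coprime.coprime_dvd_left (orderOf_dvd_of_pow_eq_one h) ?_
  have hne : ¬ p ∣ p - 1 := fun hd => by
    have := hp.two_le
    have := Nat.le_of_dvd (by omega) hd
    omega
  exact (hp.coprime_iff_not_dvd.mpr hne).symm

theorem minEl_uru {H : Subgroup GL'} {u r : End'} (hr : MinEl H r) (hW : u * r * u * (u * r * u) = 0)
    (h : xu _ hW ∈ H) (hne : u * r * u ≠ 0) : MinEl H (u * r * u) :=
  hr.of_rk_le (fam_of_mem hW h) hne (rk_uru u r)

variable {H G Γ A₀ : Subgroup (LinearMap.GeneralLinearGroup (ZMod p) M)} {a c : M →ₗ[ZMod p] M}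

namespace Ctx

variable (C : Ctx H G Γ A₀ a c)

include C

theorem L_leH : C.L ≤ H := C.L_le.trans C.S.gle

theorem fam_L {u : End'} (hu : u * u = 0) (h : xu u hu ∈ C.L) : Fam H u := fam_of_mem hu (C.L_leH h)

theorem pair_nilp {x y : End'} (hx : MinEl H x) (hy : MinEl H y) (h : IsNilpotent (x * y)) :
    x * y * x = 0 ∧ y * x * y = 0 := nilpotent_pair C.h2 hx hy h

theorem norm_root {g : GL'} (hg : g ∈ H) (h : cj g a = a) : g ∈ normalizer (rootOf C.ha : Set GL') := by
  refine RootSub.conjBy_eq_self_iff.mp ?_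
  rw [root_conj C.ha hg]
  exact rootOf_congr _ _ (by rw [h]) (by rw [h])

/-- a root fixed by the torus commutes with the pair -/
theorem commute_of_fixed {z : End'} (hz : MinEl H z) {t : (ZMod p)ˣ}
    (ht : ∀ j : ℕ, 1 ≤ j → j ≤ 3 → (t : ZMod p) ^ j ≠ 1) (hf : cj (tor C.hI t) z = z) :
    a * z = z * a := by
  obtain ⟨hPN, hPZ, hNP, hNZ, hZP, hZN⟩ := diag_of_fixed C.hI ht hf
  have hI := C.hI
  have haza : a * z * a = 0 := by
    calc a * z * a = (a * c * a) * z * (a * c * a) := by rw [hI.aca]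
      _ = a * (c * a * z * (a * c)) * a := by simp only [mul_assoc]
      _ = 0 := by rw [hNP, mul_zero, zero_mul]
  have hn : IsNilpotent (a * z) := ⟨2, by rw [pow_two, ← mul_assoc, haza, zero_mul]⟩
  by_contra hne
  have P := commPair C.h2 C.ha hz hn hne
  obtain ⟨-, -, z3, z4⟩ := P.zero C.ha.sq hz.sq
  have haN : a * z = a * (c * a * z * (c * a)) := by
    have e : c * a * z = c * a * z * (c * a) := by
      conv_lhs => rw [← mul_one (c * a * z), one_split (a := a) (c := c), mul_add, mul_add, hNP, hNZ, zero_add, add_zero]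
    rw [← e, ← mul_assoc, ← mul_assoc, hI.aca]
  have hPa : z * a = a * c * z * (a * c) * a := by
    have e : z * (a * c) = a * c * z * (a * c) := by
      conv_lhs => rw [← one_mul z, one_split (a := a) (c := c), add_mul, add_mul, add_mul, add_mul, hNP, hZP, add_zero,
        add_zero]
    rw [← e, mul_assoc z, hI.aca]
  have hr : LinearMap.range (a * z - z * a) ≤ LinearMap.range a := by
    rintro _ ⟨v, rfl⟩
    refine sub_mem ⟨z v, rfl⟩ ?_
    rw [hPa]
    exact ⟨(c * z * (a * c) * a) v, by simp only [Module.End.mul_apply]⟩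
  have hk : LinearMap.ker a ≤ LinearMap.ker (a * z - z * a) := fun v hv => by
    rw [LinearMap.mem_ker] at hv ⊢
    rw [LinearMap.sub_apply, haN]
    simp only [Module.End.mul_apply, hv, map_zero, sub_zero]
  obtain ⟨mθ, kθ, rθ⟩ := (same_of_le C.ha P.minX.toFam hr hk).data P.minX.ne
  have h1 : z * a = 0 := mul_eq_zero_of_range (rθ ▸ range_le_of_mul_eq_zero z4)
  have h2 : a * z = 0 := mul_eq_zero_of_range (kθ ▸ range_le_of_mul_eq_zero z3)
  exact hne (h2.trans h1.symm)

theorem commute_of_fixed' {z : End'} (hz : MinEl H z) {t : (ZMod p)ˣ}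
    (ht : ∀ j : ℕ, 1 ≤ j → j ≤ 3 → (t : ZMod p) ^ j ≠ 1) (hf : cj (tor C.hI t) z = z) :
    c * z = z * c := by
  refine C.swap.commute_of_fixed hz (t := t⁻¹) ?_ (by rw [tor_swap C.hI]; exact hf)
  intro j h1 h2 e
  refine ht j h1 h2 ?_
  rw [← Units.val_pow_eq_pow_val, inv_pow, Units.val_eq_one, inv_eq_one] at e
  rw [← Units.val_pow_eq_pow_val, e, Units.val_one]

/-- an opposite of an eigenvector, inside the component -/
theorem exists_opp_eigen {b : End'} (hb : MinEl H b) (hbA : rootOf hb ∈ part H A₀) (t : (ZMod p)ˣ) {μ : ZMod p}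
    (hμ : μ ≠ 0) (he : cj (tor C.hI t) b = μ • b) :
    ∃ (d : End') (hd : MinEl H d), Inv2 b d ∧ cj (tor C.hI t) d = μ⁻¹ • d ∧ rootOf hd ∈ part H A₀ := by
  obtain ⟨d, hd, hI, e⟩ := exists_eigen_opposite C.pne C.h2 C.h3 C.S.semi C.S.gle C.S.unip hb
    (tor_mem C.hI (C.L_le C.aL) (C.L_le C.cL) t) (tor_coprime C.hI t) hμ he
  exact ⟨d, hd, hI, e, C.part_of_pair hb hd hI hbA⟩

/-- the opposite of a root of weight one -/
theorem pure_opposite {b : End'} (hb : MinEl H b) (hbA : rootOf hb ∈ part H A₀) (hp : Pure a c b) :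
    ∃ (d : End') (hd : MinEl H d), Inv2 b d ∧ Pure c a d ∧ rootOf hd ∈ part H A₀ := by
  obtain ⟨l, hl⟩ := exists_lam C.hp5
  obtain ⟨d, hd, hI, e, hA⟩ := C.exists_opp_eigen hb hbA l l.ne_zero (hp.eigen C.hI l)
  refine ⟨d, hd, hI, pure_of_eigen C.hI.symm (t := l⁻¹) ?_ ?_, hA⟩
  · intro j h1 h2 e'
    refine hl j h1 h2 ?_
    rw [← Units.val_pow_eq_pow_val, inv_pow, Units.val_eq_one, inv_eq_one] at e'
    rw [← Units.val_pow_eq_pow_val, e', Units.val_one]
  · rw [tor_swap C.hI, e, Units.val_inv_eq_inv_val]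

/-- the opposite of a root of weight zero -/
theorem zero_opposite {b : End'} (hb : MinEl H b) (hbA : rootOf hb ∈ part H A₀) (h1 : a * b = b * a)
    (h2 : c * b = b * c) :
    ∃ (d : End') (hd : MinEl H d), Inv2 b d ∧ a * d = d * a ∧ c * d = d * c ∧ rootOf hd ∈ part H A₀ := by
  obtain ⟨l, hl⟩ := exists_lam C.hp5
  obtain ⟨d, hd, hI, e, hA⟩ := C.exists_opp_eigen hb hbA l one_ne_zero
    (by rw [one_smul]; exact fixed_of_commute C.hI h1 h2 l)
  rw [inv_one, one_smul] at e
  exact ⟨d, hd, hI, C.commute_of_fixed hd hl e, C.commute_of_fixed' hd hl e, hA⟩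

theorem flag_of_pure {d : End'} (hd : d * d = 0) (hL : xu d hd ∈ C.L) (hp : Pure c a d) :
    xu d hd ∈ flagGroup C.L c := by
  refine ⟨hL, ?_⟩
  rw [xu_sub_one]
  refine ⟨hp.2.1, hp.1, fun v hv => ?_⟩
  have e := Pure.eq C.hI.symm hp
  rw [e, LinearMap.add_apply]
  refine add_mem ⟨(a * d * zz c a) v, by simp only [Module.End.mul_apply]⟩ ?_
  simp only [Module.End.mul_apply, hv, map_zero]
  exact zero_mem _

theorem flag_pgroup : IsPGroup p (flagGroup C.L c) := flag_isPGroup C.pne C.hc.ne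

theorem flag_inv : C.Γ₀ ≤ normalizer (flagGroup C.L c : Set GL') := by
  have key : ∀ g ∈ C.Γ₀, ∀ x ∈ flagGroup C.L c, g * x * g⁻¹ ∈ flagGroup C.L c := fun g hg x hx =>
    flagGroup_conj C.hc (C.S.cle hg.1)
      (RootSub.conjBy_eq_self_iff.mpr (C.swap.norm_root (C.S.cle hg.1) (C.stab_fix hg).2))
      ((mem_normalizer_iff.mp (C.stab_norm hg) x).mp hx.1) hx
  intro g hg
  refine Cfsg.Lib.Coprime.mem_normalizer_of_conj_mem (fun x hx => key g hg x hx) fun x hx => ?_
  have h := key g⁻¹ (Subgroup.inv_mem _ hg) x hx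
  rwa [inv_inv] at h

/-- common membership with the flag group of `c` -/
theorem flag_common {σ : GL'} (h : C.PL σ) :
    ∃ S : Subgroup GL', IsPGroup p S ∧ σ ∈ S ∧ flagGroup C.L c ≤ S :=
  C.pl_common h (flagGroup_le _) C.flag_pgroup C.flag_inv

/-- the part of the component fixing the root of `a` -/
abbrev KL : Subgroup GL' := C.L ⊓ normalizer (rootOf C.ha : Set GL')

theorem a_ne_c_comm : a * c ≠ c * a := fun e => not_nilp C.hI C.ha.ne (commute_nilpotent C.hI.aa e)

theorem c_not_norm : xu c C.hI.cc ∉ normalizer (rootOf C.ha : Set GL') := fun hn => by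
  refine C.a_ne_c_comm (Eq.symm (commute_of_normalizes C.h2 C.h3 C.hc C.ha fun y hy => ?_))
  have h := (mem_normalizer_iff.mp hn _).mp (xu_mem_rootOf C.ha hy)
  rw [mem_rootOf] at h
  rw [Units.val_mul, Units.val_mul, xu_val y, mul_add, add_mul, mul_one, Units.mul_inv, add_sub_cancel_left] at h
  exact h

theorem KL_lt : Nat.card ↥C.KL < Nat.card G := by
  have hlt : C.KL < G := lt_of_le_of_ne (inf_le_left.trans C.L_le) fun e => C.c_not_norm (e.ge (C.L_le C.cL)).2
  exact Set.Finite.card_lt_card (Set.toFinite _) (SetLike.coe_ssubset_coe.mpr hlt)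

theorem mem_KL {u : End'} (hu : u * u = 0) (hL : xu u hu ∈ C.L) (h : a * u = u * a) : xu u hu ∈ C.KL :=
  ⟨hL, C.norm_root (C.L_leH hL) (cj_xu_fix hu h)⟩

theorem core_KL {u : End'} (hu : u * u = 0) (h : C.PL (xu u hu)) (hc : a * u = u * a) :
    InCore p C.KL (xu u hu) := by
  have hn : C.Γ₀ ≤ normalizer (C.KL : Set GL') :=
    Cfsg.Lib.Coprime.le_normalizer_inf C.stab_norm ((fun g hg =>
      Subgroup.le_normalizer (C.norm_root (C.S.cle hg.1) (C.stab_fix hg).1)))
  refine C.ih C.KL C.Γ₀ C.KL_lt hn ?_ u hu (InAll.restrict h inf_le_left (C.mem_KL hu h.1 hc) hn)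
  exact (C.S.cop.coprime_dvd_left (card_dvd_of_le (inf_le_left.trans C.L_le))).coprime_dvd_right
    (card_dvd_of_le fun g hg => hg.1)

/-- **no common root of weight zero** -/
theorem no_zero_root {w : End'} (hw : MinEl H w) (h : C.PL (xu w hw.sq)) (h1 : a * w = w * a)
    (h2 : c * w = w * c) : False := by
  obtain ⟨r, hr, hI, hr1, -, hrA⟩ := C.zero_opposite hw (C.part_of_mem hw h.1) h1 h2
  exact not_nilp hI.symm hr.ne (InCore.nilp hw.sq hr.sq (C.core_KL hw.sq h h1)
    (C.mem_KL hr.sq (C.xu_mem_L hr hrA) hr1))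

theorem no_pure_root {b : End'} (hb : MinEl H b) (h : C.PL (xu b hb.sq)) (hp : Pure a c b) : False := by
  obtain ⟨d, hd, hI, hpd, hA⟩ := C.pure_opposite hb (C.part_of_mem hb h.1) hp
  obtain ⟨S, hS, h1, h2⟩ := C.flag_common h
  exact not_nilp hI hb.ne (nilp_xu hS hb.sq hd.sq h1 (h2 (C.flag_of_pure hd.sq (C.xu_mem_L hd hA) hpd)))

theorem xu_of_comm {x y : End'} (hx : x * x = 0) (hy : y * y = 0) (h1 : x * y * x = 0) (h2 : y * x * y = 0)
    (hxy : (x * y - y * x) * (x * y - y * x) = 0) :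
    xu x hx * xu y hy * (xu x hx)⁻¹ * (xu y hy)⁻¹ = xu (x * y - y * x) hxy :=
  Units.ext (by rw [← commutatorElement_def, comm_exact hx hy h1 h2, xu_val])

/-- **no common root annihilating `a`** -/
theorem no_root_ann {w : End'} (hw : MinEl H w) (h : C.PL (xu w hw.sq)) (h1 : a * w = 0) (h2 : w * a = 0) :
    False := by
  obtain ⟨S, hS, hs1, hs2⟩ := C.pl_common h (zpowers_le.mpr C.cL) (isPGroup_zpowers_xu _)
    (C.zpowers_inv fun γ hγ => conj_fix _ (C.stab_fix hγ).2)
  have hn : IsNilpotent (c * w) := nilp_xu hS C.hI.cc hw.sq (hs2 (mem_zpowers _)) hs1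
  by_cases hcw : c * w = w * c
  · exact C.no_zero_root hw h (h1.trans h2.symm) hcw
  have P := commPair C.h2 C.hc hw hn hcw
  have hX : C.PL (xu (c * w - w * c) P.minX.sq) := by
    rw [← C.xu_of_comm C.hI.cc hw.sq P.aba P.bab P.minX.sq]
    exact InAll.mul (C.pl_conj_c h) (InAll.inv h)
  have hna := C.pl_nilp_a P.minX.sq hX
  set B := a * (c * w - w * c) - (c * w - w * c) * a with hB
  have e : B = a * c * w + w * (c * a) := by
    rw [hB, mul_sub, sub_mul, ← mul_assoc, ← mul_assoc, h1, zero_mul, mul_assoc c w a, h2, mul_zero, sub_zero,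
      zero_sub, sub_neg_eq_add, mul_assoc w c a]
  by_cases hne : a * (c * w - w * c) = (c * w - w * c) * a
  · refine hcw ?_
    have h0 : a * c * w + w * (c * a) = 0 := by rw [← e, hB, hne, sub_self]
    have hP : a * c * w = 0 := by
      have := congrArg ((a * c) * ·) h0
      simp only [mul_add, mul_zero, ← mul_assoc] at this
      rw [C.hI.aca, show a * c * w * c * a = a * (c * w * c) * a by simp only [mul_assoc], P.aba, mul_zero,
        zero_mul, add_zero] at this
      exact this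
    rw [hP, zero_add] at h0
    have e1 : c * w = 0 := by
      calc c * w = c * a * c * w := by rw [C.hI.cac]
        _ = c * (a * c * w) := by simp only [mul_assoc]
        _ = 0 := by rw [hP, mul_zero]
    have e2 : w * c = 0 := by
      calc w * c = w * (c * a * c) := by rw [C.hI.cac]
        _ = w * (c * a) * c := by simp only [mul_assoc]
        _ = 0 := by rw [h0, zero_mul]
    rw [e1, e2]
  have Q := commPair C.h2 C.ha P.minX hna hne
  have hBm : MinEl H B := Q.minX
  have hBL : C.PL (xu B hBm.sq) := by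
    have := C.xu_of_comm C.hI.aa P.minX.sq Q.aba Q.bab Q.minX.sq
    show C.PL (xu (a * (c * w - w * c) - (c * w - w * c) * a) Q.minX.sq)
    rw [← this]
    exact InAll.mul (C.pl_conj_a hX) (InAll.inv hX)
  refine C.no_pure_root hBm hBL ⟨?_, ?_, ?_, ?_⟩
  · rw [e, mul_add, ← mul_assoc, ← mul_assoc, C.hI.aa, zero_mul, zero_mul, zero_add, ← mul_assoc, h1, zero_mul]
  · rw [e, add_mul, mul_assoc (a * c), h2, mul_zero, zero_add, mul_assoc, mul_assoc c a a, C.hI.aa, mul_zero, mul_zero]
  · rw [e, mul_add, add_mul, ← mul_assoc, zp C.hI, zero_mul, zero_mul, zero_add, mul_assoc, mul_assoc w, nz C.hI,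
      mul_zero, mul_zero]
  · rw [e, mul_add, add_mul, ← mul_assoc c (a * c), ← mul_assoc c a, C.hI.cac, P.aba, zero_add,
      show c * (w * (c * a)) * c = c * w * c * (a * c) by simp only [mul_assoc], P.aba, zero_mul]

theorem pure_sq {e : End'} (hp : Pure a c e) (hc : c * e * c = 0) : a * e = e * a := hp.1.trans hp.2.1.symm

/-- **no common element of weight one** -/
theorem pure_zero {e : End'} (he : e * e = 0) (h : C.PL (xu e he)) (hp : Pure a c e) : e = 0 := by
  obtain ⟨hae, hea, hzez, hcec⟩ := id hp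
  obtain ⟨-, hW, -, hWm⟩ := lw C.pne he C.hI.cc hcec (E := C.PLgroup)
    (InAll.mul (C.pl_conj_c h) (InAll.inv h)) (InAll.mul (C.pl_conj_c (InAll.inv h)) h)
  have hece : e * c * e = 0 := by
    by_contra hne
    refine C.no_zero_root (minEl_uru C.hc hW (C.L_leH (C.pl_mem hWm)) hne) hWm ?_ ?_
    · rw [← mul_assoc, ← mul_assoc, hae, mul_assoc (e * c) e a, hea, mul_zero, zero_mul, zero_mul]
    · rw [← mul_assoc, ← mul_assoc, hcec, zero_mul, show e * c * e * c = e * (c * e * c) by simp only [mul_assoc],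
        hcec, mul_zero]
  have hF : Fam H e := C.fam_L he h.1
  by_cases hall : ∀ r, MinEl H r → r * e * r = 0
  · by_contra hne
    have := central_eq_one C.S.semi (partGroup_le A₀ h.1) (centralizes_of_sandwich C.h2 C.h3 C.S.semi hF hall)
      (n := 1) (by rw [pow_one]; exact xu_pow_p he)
    exact hne (by rw [← xu_sub_one he, this, Units.val_one, sub_self])
  exfalso
  push Not at hall
  obtain ⟨r, hr, hrer⟩ := hall
  have hn : ¬ IsNilpotent (r * e) := fun hn => hrer (sandwich C.h2 hr hF hn)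
  have hrA : rootOf hr ∈ part H A₀ := by
    by_contra hn'
    have hc' := mem_centralizer_iff.mp
      (le_centralizer_of_not_mem C.h2 C.h3 C.S.semi (rootOf_mem hr) hn' (xu_mem_rootOf hr (Same.refl hr))) _ h.1
    rw [xu_commute] at hc'
    exact hrer (by rw [mul_assoc, hc', ← mul_assoc, hr.sq, zero_mul])
  obtain ⟨w, hw, hnw, g, hwe⟩ := split_form C.h2 C.h3 hr hF hn
  have hwA : rootOf hw ∈ part H A₀ := part_pair_mem hrA (rootOf_mem hw) (rank_one_pair C.h2 C.h3 hr hw hnw)
  have haw : a * w = 0 := by rw [hwe, ← mul_assoc, ← mul_assoc, hae, zero_mul, zero_mul]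
  have hwa : w * a = 0 := by rw [hwe, mul_assoc, hea, mul_zero]
  have hwcw : w * c * w = 0 := by
    rw [hwe, show e * g * e * c * (e * g * e) = e * g * (e * c * e) * g * e by simp only [mul_assoc], hece]
    simp
  have hnc : IsNilpotent (c * w) := ⟨2, by
    rw [pow_two, show c * w * (c * w) = c * (w * c * w) by simp only [mul_assoc], hwcw, mul_zero]⟩
  have hcwc : c * w * c = 0 := (C.pair_nilp C.hc hw hnc).1
  have heL := h.1
  by_cases hcw : c * w = w * c
  · obtain ⟨r₁, hr₁, hI, hr1a, hr1c, hr₁A⟩ := C.zero_opposite hw hwA (haw.trans hwa.symm) hcw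
    have hne : e * r₁ * e ≠ 0 := fun h0 => hw.ne (by
      rw [← hI.aca, hwe, show e * g * e * r₁ * (e * g * e) = e * g * (e * r₁ * e) * g * e by simp only [mul_assoc],
        h0]
      simp)
    have hs : r₁ * e * r₁ = 0 := sandwich C.h2 hr₁ hF (InCore.nilp he hr₁.sq (C.core_KL he h (hae.trans hea.symm))
      (C.mem_KL hr₁.sq (C.xu_mem_L hr₁ hr₁A) hr1a))
    have hrL := C.xu_mem_L hr₁ hr₁A
    obtain ⟨-, hWr, -, hWrm⟩ := lw C.pne he hr₁.sq hs (E := C.L)
      (mul_mem (mul_mem (mul_mem hrL heL) (inv_mem hrL)) (inv_mem heL))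
      (mul_mem (mul_mem (mul_mem hrL (inv_mem heL)) (inv_mem hrL)) heL)
    have mθ := minEl_uru hr₁ hWr (C.L_leH hWrm) hne
    -- `θ` has the range and the kernel of `a`
    have hP : ∀ x : End', r₁ * (a * c) = a * c * r₁ ∧ r₁ * (c * a) = c * a * r₁ := fun _ =>
      ⟨by rw [← mul_assoc, ← hr1a, mul_assoc, ← hr1c, ← mul_assoc], by rw [← mul_assoc, ← hr1c, mul_assoc, ← hr1a, ← mul_assoc]⟩
    obtain ⟨hrP, hrN⟩ := hP e
    have hrZ : r₁ * zz a c = zz a c * r₁ := by
      rw [zz, mul_sub, mul_sub, sub_mul, sub_mul, mul_one, one_mul, hrP, hrN]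
    have heq := Pure.eq C.hI hp
    have hθ : e * r₁ * e = a * c * (e * r₁ * e) * (c * a) := by
      have z1 : e * (a * c) = 0 := by rw [← mul_assoc, hea, zero_mul]
      have z2 : c * a * e = 0 := by rw [mul_assoc, hae, mul_zero]
      have hc1 : zz a c * r₁ * e = zz a c * r₁ * e * (c * a) := by
        have e1 : zz a c * e = zz a c * e * (c * a) := by
          conv_lhs => rw [← mul_one (zz a c * e), one_split (a := a) (c := c), mul_add, mul_add, hzez, mul_assoc _ e (a * c),
            z1, mul_zero, zero_add, add_zero]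
        calc zz a c * r₁ * e = r₁ * (zz a c * e) := by rw [← hrZ, mul_assoc]
          _ = r₁ * (zz a c * e * (c * a)) := by rw [← e1]
          _ = r₁ * zz a c * e * (c * a) := by simp only [mul_assoc]
          _ = _ := by rw [hrZ]
      have hc2 : e * zz a c = a * c * e * zz a c := by
        conv_lhs => rw [← one_mul (e * zz a c), one_split (a := a) (c := c), add_mul, add_mul, ← mul_assoc, ← mul_assoc (c * a),
          ← mul_assoc (zz a c), z2, hzez, zero_mul, add_zero, add_zero]
      have hc3 : e * (r₁ * e) = e * zz a c * (r₁ * e) := by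
        have z3 : e * (c * a) * (r₁ * e) = 0 := by
          rw [mul_assoc e, ← mul_assoc (c * a), ← hrN, mul_assoc r₁, z2, mul_zero, mul_zero]
        calc e * (r₁ * e) = e * 1 * (r₁ * e) := by rw [mul_one]
          _ = e * (a * c) * (r₁ * e) + e * (c * a) * (r₁ * e) + e * zz a c * (r₁ * e) := by
              rw [one_split (a := a) (c := c), mul_add, mul_add, add_mul, add_mul]
          _ = _ := by rw [z1, z3, zero_mul, zero_add, zero_add]
      conv_lhs => rw [mul_assoc, hc3, hc2]
      calc a * c * e * zz a c * (r₁ * e) = a * c * e * (zz a c * r₁ * e) := by simp only [mul_assoc]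
        _ = a * c * e * (zz a c * r₁ * e * (c * a)) := by rw [← hc1]
        _ = a * c * (e * zz a c * (r₁ * e)) * (c * a) := by simp only [mul_assoc]
        _ = _ := by rw [← hc3]; simp only [mul_assoc]
    have hsame : Same H a (e * r₁ * e) := by
      refine same_of_le C.ha mθ.toFam ?_ ?_
      · rw [hθ]
        rintro _ ⟨v, rfl⟩
        exact ⟨(c * (e * r₁ * e) * (c * a)) v, by simp only [Module.End.mul_apply]⟩
      · intro v hv
        rw [LinearMap.mem_ker] at hv ⊢
        rw [hθ]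
        simp only [Module.End.mul_apply, hv, map_zero]
    refine not_nilp C.hI C.ha.ne ((nilp_congr_iff C.h2 C.h3 C.ha C.hc hsame hne (Same.refl C.hc) C.hc.ne).mp
      ⟨2, ?_⟩)
    rw [pow_two, show e * r₁ * e * c * (e * r₁ * e * c) = e * r₁ * (e * c * e) * r₁ * e * c by simp only [mul_assoc],
      hece]
    simp
  -- the commutator with `c`
  have P := commPair C.h2 C.hc hw hnc hcw
  have hXL : xu (c * w - w * c) P.minX.sq ∈ C.L := by
    rw [← C.xu_of_comm C.hI.cc hw.sq P.aba P.bab P.minX.sq]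
    exact mul_mem (mul_mem (mul_mem C.cL (C.xu_mem_L hw hwA)) (inv_mem C.cL)) (inv_mem (C.xu_mem_L hw hwA))
  have eB : a * (c * w - w * c) - (c * w - w * c) * a = a * c * w + w * (c * a) := by
    rw [mul_sub, sub_mul, ← mul_assoc, ← mul_assoc, haw, zero_mul, mul_assoc c w a, hwa, mul_zero, sub_zero,
      zero_sub, sub_neg_eq_add, mul_assoc w c a]
  have haXa : a * (c * w - w * c) * a = 0 := by
    rw [mul_sub, sub_mul, ← mul_assoc, mul_assoc (a * c) w a, hwa, mul_zero, ← mul_assoc, haw]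
    simp
  have hna : IsNilpotent (a * (c * w - w * c)) := ⟨2, by rw [pow_two, ← mul_assoc, haXa, zero_mul]⟩
  by_cases hne : a * (c * w - w * c) = (c * w - w * c) * a
  · refine hcw ?_
    have h0 : a * c * w + w * (c * a) = 0 := by rw [← eB, hne, sub_self]
    have hP : a * c * w = 0 := by
      have := congrArg ((a * c) * ·) h0
      simp only [mul_add, mul_zero, ← mul_assoc] at this
      rw [C.hI.aca, show a * c * w * c * a = a * (c * w * c) * a by simp only [mul_assoc], hcwc, mul_zero,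
        zero_mul, add_zero] at this
      exact this
    rw [hP, zero_add] at h0
    have e1 : c * w = 0 := by
      calc c * w = c * a * c * w := by rw [C.hI.cac]
        _ = c * (a * c * w) := by simp only [mul_assoc]
        _ = 0 := by rw [hP, mul_zero]
    have e2 : w * c = 0 := by
      calc w * c = w * (c * a * c) := by rw [C.hI.cac]
        _ = w * (c * a) * c := by simp only [mul_assoc]
        _ = 0 := by rw [h0, zero_mul]
    rw [e1, e2]
  have Q := commPair C.h2 C.ha P.minX hna hne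
  set B := a * (c * w - w * c) - (c * w - w * c) * a with hBdef
  have hBL : xu B Q.minX.sq ∈ C.L := by
    have := C.xu_of_comm C.hI.aa P.minX.sq Q.aba Q.bab Q.minX.sq
    show xu (a * (c * w - w * c) - (c * w - w * c) * a) Q.minX.sq ∈ C.L
    rw [← this]
    exact mul_mem (mul_mem (mul_mem C.aL hXL) (inv_mem C.aL)) (inv_mem hXL)
  have hBp : Pure a c B := by
    refine ⟨?_, ?_, ?_, ?_⟩
    · rw [eB, mul_add, ← mul_assoc, ← mul_assoc, C.hI.aa, zero_mul, zero_mul, zero_add, ← mul_assoc, haw, zero_mul]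
    · rw [eB, add_mul, mul_assoc (a * c), hwa, mul_zero, zero_add, mul_assoc, mul_assoc c a a, C.hI.aa, mul_zero, mul_zero]
    · rw [eB, mul_add, add_mul, ← mul_assoc, zp C.hI, zero_mul, zero_mul, zero_add, mul_assoc, mul_assoc w, nz C.hI,
        mul_zero, mul_zero]
    · rw [eB, mul_add, add_mul, ← mul_assoc c (a * c), ← mul_assoc c a, C.hI.cac, hcwc, zero_add,
        show c * (w * (c * a)) * c = c * w * c * (a * c) by simp only [mul_assoc], hcwc, zero_mul]
  obtain ⟨D, hD, hI, hDp, hDA⟩ := C.pure_opposite Q.minX (C.part_of_mem Q.minX hBL) hBp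
  -- `B` begins and ends with `e`
  have hBe : ∃ g' : End', B = e * g' * e := by
    have z1 : e * (a * c) = 0 := by rw [← mul_assoc, hea, zero_mul]
    have z2 : c * a * e = 0 := by rw [mul_assoc, hae, mul_zero]
    have z3 : a * c * e * (c * a) = 0 := by
      rw [show a * c * e * (c * a) = a * (c * e * c) * a by simp only [mul_assoc], hcec, mul_zero, zero_mul]
    have e1 : a * c * e = e * zz a c := by
      have l1 : a * c * e = a * c * e * zz a c := by
        conv_lhs => rw [← mul_one (a * c * e), one_split (a := a) (c := c), mul_add, mul_add, mul_assoc _ e (a * c), z1,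
          mul_zero, z3, zero_add, zero_add]
      have l2 : e * zz a c = a * c * e * zz a c := by
        conv_lhs => rw [← one_mul (e * zz a c), one_split (a := a) (c := c), add_mul, add_mul, ← mul_assoc, ← mul_assoc (c * a),
          ← mul_assoc (zz a c), z2, hzez, zero_mul, add_zero, add_zero]
      rw [l2, ← l1]
    have e2 : e * (c * a) = zz a c * e := by
      have l1 : zz a c * e = zz a c * e * (c * a) := by
        conv_lhs => rw [← mul_one (zz a c * e), one_split (a := a) (c := c), mul_add, mul_add, hzez, mul_assoc _ e (a * c),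
          z1, mul_zero, zero_add, add_zero]
      have l2 : e * (c * a) = zz a c * e * (c * a) := by
        conv_lhs => rw [← one_mul (e * (c * a)), one_split (a := a) (c := c), add_mul, add_mul, ← mul_assoc (a * c),
          ← mul_assoc (c * a), z3, z2, zero_mul, zero_add, zero_add, ← mul_assoc]
      rw [l2, ← l1]
    refine ⟨zz a c * g + g * zz a c, ?_⟩
    rw [eB, hwe, show a * c * (e * g * e) = (a * c * e) * g * e by simp only [mul_assoc], e1,
      show e * g * e * (c * a) = e * g * (e * (c * a)) by simp only [mul_assoc], e2]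
    simp only [mul_add, add_mul, mul_assoc]
  obtain ⟨g', hBe⟩ := hBe
  have hne' : e * D * e ≠ 0 := fun h0 => Q.minX.ne (by
    show B = 0
    rw [← hBdef] at hI
    rw [← hI.aca, hBe, show e * g' * e * D * (e * g' * e) = e * g' * (e * D * e) * g' * e by simp only [mul_assoc], h0]
    simp)
  obtain ⟨S, hS, hs1, hs2⟩ := C.flag_common h
  have hDL := C.xu_mem_L hD hDA
  have hDS := hs2 (C.flag_of_pure hD.sq hDL hDp)
  have hDeD : D * e * D = 0 := sandwich C.h2 hD hF (nilp_xu hS hD.sq he hDS hs1)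
  obtain ⟨-, hB2, -, hB2m⟩ := lw C.pne he hD.sq hDeD (E := C.L)
    (mul_mem (mul_mem (mul_mem hDL heL) (inv_mem hDL)) (inv_mem heL))
    (mul_mem (mul_mem (mul_mem hDL (inv_mem heL)) (inv_mem hDL)) heL)
  have mB2 := minEl_uru hD hB2 (C.L_leH hB2m) hne'
  have hB2p : Pure a c (e * D * e) := by
    obtain ⟨l, hl⟩ := exists_lam C.hp5
    refine pure_of_eigen C.hI hl ?_
    have hDe : cj (tor C.hI l) D = (↑l⁻¹ : ZMod p) • D := by
      rw [← tor_swap C.hI]; exact hDp.eigen C.hI.symm l⁻¹
    rw [cj_mul, cj_mul, hp.eigen C.hI l, hDe]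
    simp only [smul_mul_assoc, mul_smul_comm, smul_smul]
    rw [Units.inv_mul, mul_one]
  obtain ⟨D₂, hD₂, hI₂, hD₂p, hD₂A⟩ := C.pure_opposite mB2 (C.part_of_mem mB2 hB2m) hB2p
  have hD₂S := hs2 (C.flag_of_pure hD₂.sq (C.xu_mem_L hD₂ hD₂A) hD₂p)
  have hm : ∀ {x : End'} {hx : x * x = 0}, xu x hx ∈ S → x ∈ RootSub.dSpan S := fun {x hx} hxS => by
    rw [← xu_sub_one hx]; exact RootSub.sub_one_mem_dSpan hxS
  refine not_nilp hI₂ mB2.ne (nilp_mem_span hS ?_)
  exact RootSub.dSpan_mul S _ (RootSub.dSpan_mul S _ (RootSub.dSpan_mul S _ (hm hs1) _ (hm hDS)) _ (hm hs1))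
    _ (hm hD₂S)

/-- **stage A** -/
theorem commute_left {u : End'} (hu : Fam H u) (hy : InAll p Γ G (xu u hu.sq)) : a * u = u * a := by
  obtain ⟨S, hS, hAS⟩ := C.lift_pgroup (zpowers_le.mpr C.aL) (isPGroup_zpowers_xu _)
    (C.zpowers_inv fun γ hγ => C.fix_conj hγ)
  have haua : a * u * a = 0 :=
    sandwich C.h2 C.ha hu (nilp_xu hS.pgroup C.hI.aa hu.sq (hAS (mem_zpowers _)) (hy.2 S hS))
  obtain ⟨hp1, hp2⟩ := C.pl_comm C.aL (fun γ hγ => C.fix_conj hγ) (n := 1) (by rw [pow_one]; exact xu_pow_p _) hu hy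
  obtain ⟨he, hW, hem, hWm⟩ := lw C.pne hu.sq C.hI.aa haua (E := C.PLgroup) hp1 hp2
  have hW0 : u * a * u = 0 := by
    by_contra hne
    refine C.no_root_ann (minEl_uru C.ha hW (C.L_leH (C.pl_mem hWm)) hne) hWm ?_ ?_
    · rw [← mul_assoc, ← mul_assoc, haua, zero_mul]
    · rw [show u * a * u * a = u * (a * u * a) by simp only [mul_assoc], haua, mul_zero]
  refine sub_eq_zero.mp (C.pure_zero he hem ⟨?_, ?_, ?_, ?_⟩)
  · rw [mul_sub, ← mul_assoc, C.hI.aa, zero_mul, ← mul_assoc, haua, sub_zero]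
  · rw [sub_mul, haua, mul_assoc, C.hI.aa, mul_zero, sub_zero]
  · rw [mul_sub, sub_mul, ← mul_assoc, za C.hI, zero_mul, zero_mul, ← mul_assoc, mul_assoc _ a (zz a c), az C.hI,
      mul_zero, sub_zero]
  · obtain ⟨S', hS', hs1, hs2⟩ := C.pl_common hem (zpowers_le.mpr C.cL) (isPGroup_zpowers_xu _)
      (C.zpowers_inv fun γ hγ => conj_fix _ (C.stab_fix hγ).2)
    exact sandwich C.h2 C.hc (fam_of_mem he (C.L_leH (C.pl_mem hem)))
      (nilp_xu hS' C.hI.cc he (hs2 (mem_zpowers _)) hs1)

end Ctx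

end Cfsg.Lib.CapSylow
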