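import Cfsg.Agent.CapSylow.StageA

/-!
A quadratic element commuting with the fixed pair is sandwiched by every root of the component.
-/

set_option autoImplicit false
set_option linter.style.haveILetI false
set_option linter.unusedSectionVars false
set_option linter.unusedVariables false

namespace Cfsg.Lib.CapSylow

open Cfsg Cfsg.Lib.QuadPair Cfsg.Lib.CoprimeZJ
open Subgroup

variable {p : ℕ} [Fact p.Prime] {M : Type*} [AddCommGroup M] [Module (ZMod p) M] [Finite M]
  [FiniteDimensional (ZMod p) M]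

local notation "End'" => (M →ₗ[ZMod p] M)
local notation "GL'" => LinearMap.GeneralLinearGroup (ZMod p) M

theorem conj_xu {g : GL'} {u : End'} (hu : u * u = 0) (hu' : cj g u * cj g u = 0) :
    g * xu u hu * g⁻¹ = xu (cj g u) hu' :=
  Units.ext (by
    rw [Units.val_mul, Units.val_mul, xu_val, xu_val, mul_add, add_mul, mul_one, Units.mul_inv]
    rfl)

theorem cj_sub_one (g h : GL') : ((g * h * g⁻¹ : GL') : End') - 1 = cj g ((h : End') - 1) := by
  rw [cj, mul_sub, sub_mul, mul_one, Units.mul_inv, Units.val_mul, Units.val_mul]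

theorem zz_commute {a c u : End'} (h1 : a * u = u * a) (h2 : c * u = u * c) : zz a c * u = u * zz a c := by
  have hP : Commute (a * c) u := Commute.mul_left (h1 : Commute a u) (h2 : Commute c u)
  have hN : Commute (c * a) u := Commute.mul_left (h2 : Commute c u) (h1 : Commute a u)
  exact ((Commute.one_left u).sub_left hP).sub_left hN

theorem pure_uru {a c b u : End'} (h1 : a * u = u * a) (h2 : c * u = u * c) (hb : Pure a c b) :
    Pure a c (u * b * u) := by
  obtain ⟨b1, b2, b3, b4⟩ := hb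
  refine ⟨?_, ?_, ?_, ?_⟩
  · rw [← mul_assoc, ← mul_assoc, h1, mul_assoc u a b, b1, mul_zero, zero_mul]
  · rw [mul_assoc, ← h1, ← mul_assoc, mul_assoc u b a, b2, mul_zero, zero_mul]
  · rw [show zz a c * (u * b * u) * zz a c = (zz a c * u) * b * (u * zz a c) by simp only [mul_assoc],
      zz_commute h1 h2]
    nth_rewrite 2 [← zz_commute h1 h2]
    rw [show u * zz a c * b * (zz a c * u) = u * (zz a c * b * zz a c) * u by simp only [mul_assoc], b3, mul_zero,
      zero_mul]
  · rw [show c * (u * b * u) * c = (c * u) * b * (u * c) by simp only [mul_assoc], h2]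
    nth_rewrite 2 [← h2]
    rw [show u * c * b * (c * u) = u * (c * b * c) * u by simp only [mul_assoc], b4, mul_zero, zero_mul]

theorem pure_cj {a c b : End'} {g : GL'} (ha : cj g a = a) (hc : cj g c = c) (hb : Pure a c b) :
    Pure a c (cj g b) := by
  obtain ⟨b1, b2, b3, b4⟩ := hb
  have hz : cj g (zz a c) = zz a c := by
    rw [zz, cj_sub, cj_sub, cj_mul, cj_mul, ha, hc, show cj g (1 : End') = 1 by rw [cj, mul_one, Units.mul_inv]]
  refine ⟨?_, ?_, ?_, ?_⟩
  · conv_lhs => rw [← ha]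
    rw [← cj_mul, b1, cj_zero]
  · conv_lhs => rw [← ha]
    rw [← cj_mul, b2, cj_zero]
  · conv_lhs => rw [← hz]
    rw [← cj_mul, ← cj_mul, b3, cj_zero]
  · conv_lhs => rw [← hc]
    rw [← cj_mul, ← cj_mul, b4, cj_zero]

variable {H G Γ A₀ : Subgroup (LinearMap.GeneralLinearGroup (ZMod p) M)} {a c : M →ₗ[ZMod p] M}

namespace Ctx

variable (C : Ctx H G Γ A₀ a c) {u : M →ₗ[ZMod p] M}

include C

/-- the elements fixing all conjugates of the root of `a` -/
abbrev KA : Subgroup GL' := G ⊓ ⨅ γ : Γ, normalizer (conjBy (rootOf C.ha) (γ : GL') : Set GL')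

theorem KA_lt : Nat.card ↥C.KA < Nat.card G := by
  refine Set.Finite.card_lt_card (Set.toFinite _) (SetLike.coe_ssubset_coe.mpr (lt_of_le_of_ne inf_le_left fun e => ?_))
  have h := (mem_iInf.mp (e.ge (C.L_le C.cL)).2) ⟨1, one_mem Γ⟩
  rw [RootSub.conjBy_one] at h
  exact C.c_not_norm h

theorem KA_norm : Γ ≤ normalizer (C.KA : Set GL') := by
  have key : ∀ g ∈ Γ, ∀ x ∈ C.KA, g * x * g⁻¹ ∈ C.KA := by
    intro g hg x hx
    refine ⟨(mem_normalizer_iff.mp (C.S.norm hg) x).mp hx.1, mem_iInf.mpr fun γ => ?_⟩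
    have h := mem_iInf.mp hx.2 ⟨g⁻¹ * γ, mul_mem (inv_mem hg) γ.2⟩
    rw [← RootSub.conjBy_eq_self_iff] at h ⊢
    rw [show conjBy (rootOf C.ha) (γ : GL') = conjBy (conjBy (rootOf C.ha) (g⁻¹ * γ)) g by
      rw [RootSub.conjBy_conjBy, mul_inv_cancel_left]]
    conv_rhs => rw [← h]
    rw [RootSub.conjBy_conjBy, RootSub.conjBy_conjBy, RootSub.conjBy_conjBy, RootSub.conjBy_conjBy]
    congr 1
    group
  intro g hg
  refine Cfsg.Lib.Coprime.mem_normalizer_of_conj_mem (fun x hx => key g hg x hx) fun x hx => ?_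
  have h := key g⁻¹ (inv_mem hg) x hx
  rwa [inv_inv] at h

theorem mem_KA {g : GL'} (hg : g ∈ C.L) (hn : g ∈ normalizer (rootOf C.ha : Set GL')) : g ∈ C.KA := by
  refine ⟨C.L_le hg, mem_iInf.mpr fun γ => ?_⟩
  by_cases h : (γ : GL') ∈ C.Γ₀
  · rw [RootSub.conjBy_eq_self_iff.mpr (C.norm_root (C.S.cle γ.2) (C.stab_fix h).1)]
    exact hn
  · refine Subgroup.centralizer_le_normalizer _ (mem_centralizer_iff.mpr fun x hx => ?_)
    have hx' : x ∈ C.L' := C.conj_L_le γ.2 h ((map_mono (le_partGroup C.haA) :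
      conjBy (rootOf C.ha) (γ : GL') ≤ conjBy C.L (γ : GL')) hx)
    exact (mem_centralizer_iff.mp (C.comm_L' hx') g hg).symm

theorem xu_KA {r : End'} (hr : MinEl H r) (hrA : rootOf hr ∈ part H A₀) (h : a * r = r * a) :
    xu r hr.sq ∈ C.KA :=
  C.mem_KA (C.xu_mem_L hr hrA) (C.norm_root hr.toFam.xu_mem_one (cj_xu_fix hr.sq h))

theorem quad_KA (hu : Fam H u) (hy : InAll p Γ G (xu u hu.sq)) : xu u hu.sq ∈ C.KA := by
  refine ⟨hy.1, mem_iInf.mpr fun γ => ?_⟩
  have hg : ((γ : GL')⁻¹) ∈ H := C.S.cle (inv_mem γ.2)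
  have hu' : Fam H (cj (γ : GL')⁻¹ u) := hu.conj hg
  have hall : InAll p Γ G (xu (cj (γ : GL')⁻¹ u) hu'.sq) := by
    rw [← conj_xu hu.sq]
    exact hy.conj (C.S.norm (inv_mem γ.2)) (Subgroup.le_normalizer (inv_mem γ.2))
  have hn := C.norm_root hu'.xu_mem_one (cj_xu_fix hu'.sq (C.commute_left hu' hall))
  rw [← conj_xu hu.sq hu'.sq, inv_inv] at hn
  rw [← RootSub.conjBy_eq_self_iff] at hn ⊢
  conv_rhs => rw [← hn]
  rw [RootSub.conjBy_conjBy, RootSub.conjBy_conjBy]
  congr 1
  group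

theorem core_KA (hu : Fam H u) (hy : InAll p Γ G (xu u hu.sq)) : InCore p C.KA (xu u hu.sq) :=
  C.ih C.KA Γ C.KA_lt C.KA_norm (C.S.cop.coprime_dvd_left (card_dvd_of_le inf_le_left)) u hu.sq
    (hy.restrict inf_le_left (C.quad_KA hu hy) C.KA_norm)

theorem root_sandwich (hu : Fam H u) (hy : InAll p Γ G (xu u hu.sq)) {r : End'} (hr : MinEl H r)
    (hrA : rootOf hr ∈ part H A₀) (h : a * r = r * a) : r * u * r = 0 :=
  sandwich C.h2 hr hu (InCore.nilp hu.sq hr.sq (C.core_KA hu hy) (C.xu_KA hr hrA h))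

theorem lw_L (hu : Fam H u) {r : End'} (hr : r * r = 0) (hrL : xu r hr ∈ C.L) (hrur : r * u * r = 0) :
    ∃ hW : u * r * u * (u * r * u) = 0, xu _ hW ∈ C.L := by
  have hn := (C.quad_norm hu).1
  obtain ⟨-, hW, -, hWm⟩ := lw C.pne hu.sq hr hrur (E := C.L)
    (by
      rw [show xu r hr * xu u hu.sq * (xu r hr)⁻¹ * (xu u hu.sq)⁻¹ =
        xu r hr * (xu u hu.sq * (xu r hr)⁻¹ * (xu u hu.sq)⁻¹) by group]
      exact mul_mem hrL ((mem_normalizer_iff.mp hn _).mp (inv_mem hrL)))
    (by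
      rw [show xu r hr * (xu u hu.sq)⁻¹ * (xu r hr)⁻¹ * xu u hu.sq =
        xu r hr * ((xu u hu.sq)⁻¹ * (xu r hr)⁻¹ * xu u hu.sq) by group]
      exact mul_mem hrL ((mem_normalizer_iff''.mp hn _).mp (inv_mem hrL)))
  exact ⟨hW, hWm⟩

theorem zero_kills (hu : Fam H u) (hy : InAll p Γ G (xu u hu.sq)) (hau : a * u = u * a) (hcu : c * u = u * c)
    {z : End'} (hz : MinEl H z) (hzA : rootOf hz ∈ part H A₀) (h1 : a * z = z * a) (h2 : c * z = z * c) :
    u * z * u = 0 := by
  by_contra hne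
  have hzuz := C.root_sandwich hu hy hz hzA h1
  obtain ⟨N, hNK, hNp, hnorm, huN⟩ := C.core_KA hu hy
  have hzK := C.xu_KA hz hzA h1
  obtain ⟨hW, hWL⟩ := C.lw_L hu hz.sq (C.xu_mem_L hz hzA) hzuz
  have hWN : xu _ hW ∈ N := by
    obtain ⟨-, hW', -, hm⟩ := lw C.pne hu.sq hz.sq hzuz (E := N)
      (mul_mem ((mem_normalizer_iff.mp (hnorm hzK) _).mp huN) (inv_mem huN))
      (mul_mem ((mem_normalizer_iff.mp (hnorm hzK) _).mp (inv_mem huN)) huN)
    exact hm
  have mW := minEl_uru hz hW (C.L_leH hWL) hne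
  have e1 : a * (u * z * u) = u * z * u * a :=
    Commute.mul_right (Commute.mul_right (a := a) hau h1) hau
  have e2 : c * (u * z * u) = u * z * u * c :=
    Commute.mul_right (Commute.mul_right (a := c) hcu h2) hcu
  obtain ⟨r, hr, hI, hr1, -, hrA⟩ := C.zero_opposite mW (C.part_of_mem mW hWL) e1 e2
  exact not_nilp hI.symm hr.ne (InCore.nilp hW hr.sq ⟨N, hNK, hNp, hnorm, hWN⟩ (C.xu_KA hr hrA hr1))

theorem pure_prod {D E : End'} (hD : Pure a c D) (hE : Pure c a E) (t : (ZMod p)ˣ) :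
    cj (tor C.hI t) (D * E) = D * E ∧ cj (tor C.hI t) (E * D) = E * D := by
  have e1 := hD.eigen C.hI t
  have e2 : cj (tor C.hI t) E = (↑t⁻¹ : ZMod p) • E := by
    rw [← tor_swap C.hI]; exact hE.eigen C.hI.symm t⁻¹
  constructor <;> rw [cj_mul, e1, e2, smul_mul_assoc, mul_smul_comm, smul_smul]
  · rw [Units.mul_inv, one_smul]
  · rw [Units.inv_mul, one_smul]

theorem comm_of_diag {x : End'} {t : (ZMod p)ˣ} (ht : ∀ j : ℕ, 1 ≤ j → j ≤ 3 → (t : ZMod p) ^ j ≠ 1)
    (hx : cj (tor C.hI t) x = x) : Commute (a * c) x ∧ Commute (c * a) x := by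
  obtain ⟨hPN, hPZ, hNP, hNZ, hZP, hZN⟩ := diag_of_fixed C.hI ht hx
  constructor
  · show a * c * x = x * (a * c)
    have l1 : a * c * x = a * c * x * (a * c) := by
      conv_lhs => rw [← mul_one (a * c * x), one_split (a := a) (c := c), mul_add, mul_add, hPN, hPZ, add_zero, add_zero]
    have l2 : x * (a * c) = a * c * x * (a * c) := by
      conv_lhs => rw [← one_mul x, one_split (a := a) (c := c), add_mul, add_mul, add_mul, add_mul, hNP, hZP, add_zero, add_zero]
    rw [← l1] at l2; exact l2.symm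
  · show c * a * x = x * (c * a)
    have l1 : c * a * x = c * a * x * (c * a) := by
      conv_lhs => rw [← mul_one (c * a * x), one_split (a := a) (c := c), mul_add, mul_add, hNP, hNZ, zero_add, add_zero]
    have l2 : x * (c * a) = c * a * x * (c * a) := by
      conv_lhs => rw [← one_mul x, one_split (a := a) (c := c), add_mul, add_mul, add_mul, add_mul, hPN, hZN, zero_add, add_zero]
    rw [← l1] at l2; exact l2.symm

/-- the non-nilpotent case -/
theorem split_case (hu : Fam H u) (hy : InAll p Γ G (xu u hu.sq)) (hau : a * u = u * a) (hcu : c * u = u * c)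
    {D D₁ : End'} (hD : MinEl H D) (hD₁ : MinEl H D₁) (hDA : rootOf hD ∈ part H A₀)
    (hp : Pure a c D) (hp₁ : Pure c a D₁) (hDuD : D * u * D = 0) (hI₁ : Inv2 (u * D * u) D₁)
    (hn : ¬ IsNilpotent (D * D₁)) : False := by
  obtain ⟨l, hl⟩ := exists_lam C.hp5
  obtain ⟨d, hd, hd0, hI⟩ := opposite C.h2 C.h3 hD hD₁ hn
  obtain ⟨md, kd, rd⟩ := hd.data hd0
  have htH : tor C.hI l ∈ H := tor_mem C.hI (C.L_leH C.aL) (C.L_leH C.cL) l
  have e1 : cj (tor C.hI l) D₁ = (↑l⁻¹ : ZMod p) • D₁ := by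
    rw [← tor_swap C.hI]; exact hp₁.eigen C.hI.symm l⁻¹
  have hli : (↑l⁻¹ : ZMod p) ≠ 0 := Units.ne_zero _
  have hsame : Same H d (cj (tor C.hI l) d) := by
    have hs : Same H (cj (tor C.hI l) D₁) (cj (tor C.hI l) d) := hd.conj htH
    rw [e1] at hs
    exact hs.trans (by rw [LinearMap.ker_smul _ _ hli, kd]) (by rw [LinearMap.range_smul _ _ hli, rd])
  have hpd : Pure c a d := by
    refine pure_of_eigen C.hI.symm (t := l⁻¹) ?_ ?_
    · intro j h1 h2 e
      refine hl j h1 h2 ?_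
      rw [← Units.val_pow_eq_pow_val, inv_pow, Units.val_eq_one, inv_eq_one] at e
      rw [← Units.val_pow_eq_pow_val, e, Units.val_one]
    · rw [tor_swap C.hI, opposite_eigen md hI htH l.ne_zero (hp.eigen C.hI l) hsame, Units.val_inv_eq_inv_val]
  have hdA := C.part_of_pair hD md hI hDA
  have hdud : d * u * d = 0 := C.swap.root_sandwich hu hy md hdA (hpd.1.trans hpd.2.1.symm)
  -- the torus of the pair
  set T := tor hI l with hT
  have hTL : T ∈ C.L := tor_mem hI (C.xu_mem_L hD hDA) (C.xu_mem_L md hdA) l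
  have hcomm : Commute (a * c) (T : End') ∧ Commute (c * a) (T : End') ∧
      Commute (a * c) (↑T⁻¹ : End') ∧ Commute (c * a) (↑T⁻¹ : End') := by
    obtain ⟨f1, f2⟩ := C.pure_prod hp hpd l
    obtain ⟨P1, N1⟩ := C.comm_of_diag hl f1
    obtain ⟨P2, N2⟩ := C.comm_of_diag hl f2
    have hPT : Commute (a * c) (T : End') := by
      rw [hT, tor_val]
      exact ((P1.smul_right _).add_right (P2.smul_right _)).add_right (((Commute.one_right _).sub_right P1).sub_right P2)
    have hNT : Commute (c * a) (T : End') := by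
      rw [hT, tor_val]
      exact ((N1.smul_right _).add_right (N2.smul_right _)).add_right (((Commute.one_right _).sub_right N1).sub_right N2)
    exact ⟨hPT, hNT, hPT.units_inv_right, hNT.units_inv_right⟩
  obtain ⟨hPT, hNT, hPT', hNT'⟩ := hcomm
  have hTn : T ∈ normalizer (rootOf C.ha : Set GL') := by
    refine RootSub.conjBy_eq_self_iff.mp ?_
    have hTH := C.L_leH hTL
    rw [root_conj C.ha hTH]
    have hr : LinearMap.range ((T : End') * a * (↑T⁻¹ : End')) ≤ LinearMap.range a := by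
      have e : (T : End') * a * (↑T⁻¹ : End') = a * c * ((T : End') * a * (↑T⁻¹ : End')) := by
        rw [← mul_assoc, ← mul_assoc, hPT.eq, mul_assoc (T : End') (a * c) a, C.hI.aca]
      rw [e]
      rintro _ ⟨v, rfl⟩
      exact ⟨(c * ((T : End') * a * (↑T⁻¹ : End'))) v, by simp only [Module.End.mul_apply]⟩
    have hk : LinearMap.ker a ≤ LinearMap.ker ((T : End') * a * (↑T⁻¹ : End')) := by
      have e : (T : End') * a * (↑T⁻¹ : End') = (T : End') * a * (↑T⁻¹ : End') * (c * a) := by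
        rw [mul_assoc _ (↑T⁻¹ : End') (c * a), ← hNT'.eq, ← mul_assoc _ (c * a), mul_assoc (T : End') a (c * a),
          ← mul_assoc a c a, C.hI.aca]
      intro v hv
      rw [LinearMap.mem_ker] at hv ⊢
      rw [e]
      simp only [Module.End.mul_apply, hv, map_zero]
    obtain ⟨-, k', r'⟩ := (same_of_le C.ha (C.ha.toFam.conj hTH) hr hk).data (C.ha.conj hTH).ne
    exact rootOf_congr _ _ k' r'
  obtain ⟨N, hNK, hNp, hnorm, huN⟩ := C.core_KA hu hy
  have hTN : ∀ g ∈ zpowers T, cj g u ∈ RootSub.dSpan N := fun g hg => by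
    have := RootSub.sub_one_mem_dSpan ((mem_normalizer_iff.mp (hnorm (zpowers_le.mpr (C.mem_KA hTL hTn) hg)) _).mp huN)
    rwa [cj_sub_one, xu_sub_one] at this
  -- the middle weight
  set S₀ := D * d * u * (D * d) + d * D * u * (d * D) + zz D d * u * zz D d with hS₀
  set Up := D * d * u * zz D d + zz D d * u * (d * D) with hUp
  set Um := d * D * u * zz D d + zz D d * u * (D * d) with hUm
  have hPN : D * d * u * (d * D) = 0 := by
    rw [show D * d * u * (d * D) = D * (d * u * d) * D by simp only [mul_assoc], hdud, mul_zero, zero_mul]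
  have hNP : d * D * u * (D * d) = 0 := by
    rw [show d * D * u * (D * d) = d * (D * u * D) * d by simp only [mul_assoc], hDuD, mul_zero, zero_mul]
  have hcjs : ∀ s : (ZMod p)ˣ, cj (tor hI s) u = S₀ + (s : ZMod p) • Up + (↑s⁻¹ : ZMod p) • Um := by
    intro s
    rw [cj, tor_val, tor_inv, hS₀, hUp, hUm]
    simp only [add_mul, mul_add, smul_mul_assoc, mul_smul_comm, smul_smul, hPN, hNP, smul_zero, add_zero, zero_add,
      Units.mul_inv, Units.inv_mul, one_smul, smul_add]
    abel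
  have hu0 : u = S₀ + Up + Um := by
    have := hcjs 1
    rwa [tor_one, cj_one, inv_one, Units.val_one, one_smul, one_smul] at this
  have hS : S₀ ∈ RootSub.dSpan N := by
    have h1 := hTN T (mem_zpowers T)
    have h2 := hTN (T * T) (mul_mem (mem_zpowers T) (mem_zpowers T))
    have h0 := hTN 1 (one_mem _)
    rw [cj_one] at h0
    rw [hT, tor_mul, hcjs] at h2
    rw [hT, hcjs] at h1
    have hμ : ((l : ZMod p) + ↑l⁻¹ - 2) ≠ 0 := by
      intro e
      refine hl 1 le_rfl (by omega) ?_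
      rw [pow_one]
      have hsq : ((l : ZMod p) - 1) * ((l : ZMod p) - 1) = 0 := by
        linear_combination (l : ZMod p) * e - (Units.mul_inv l : (l : ZMod p) * ↑l⁻¹ = 1)
      exact sub_eq_zero.mp (mul_self_eq_zero.mp hsq)
    have e : ((l : ZMod p) + ↑l⁻¹ - 2) • S₀ = ((l : ZMod p) + ↑l⁻¹) • (S₀ + (l : ZMod p) • Up + (↑l⁻¹ : ZMod p) • Um)
        - u - (S₀ + (↑(l * l) : ZMod p) • Up + (↑(l * l)⁻¹ : ZMod p) • Um) := by
      conv_rhs => rw [hu0]
      simp only [Units.val_mul, mul_inv]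
      linear_combination (norm := module)
        (-(Units.inv_mul l : (↑l⁻¹ : ZMod p) * l = 1)) • Up + (-(Units.mul_inv l : (l : ZMod p) * ↑l⁻¹ = 1)) • Um
    have := Submodule.smul_mem _ ((l : ZMod p) + ↑l⁻¹ - 2)⁻¹
      (sub_mem (sub_mem (Submodule.smul_mem _ ((l : ZMod p) + ↑l⁻¹) h1) h0) h2)
    rwa [← e, smul_smul, inv_mul_cancel₀ hμ, one_smul] at this
  obtain ⟨n, hnil⟩ := nilp_mem_span hNp hS
  set M₀ := d * D * u * (d * D) with hM₀
  have hl' : d * D * S₀ = M₀ := by
    rw [hS₀, mul_add, mul_add,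
      show d * D * (D * d * u * (D * d)) = d * D * (D * d) * u * (D * d) by simp only [mul_assoc],
      show d * D * (d * D * u * (d * D)) = d * D * (d * D) * u * (d * D) by simp only [mul_assoc],
      show d * D * (zz D d * u * zz D d) = d * D * zz D d * u * zz D d by simp only [mul_assoc],
      np hI, nn hI, nz hI]
    simp only [zero_mul, zero_add, add_zero, hM₀]
  have hr' : S₀ * (d * D) = M₀ := by
    rw [hS₀, add_mul, add_mul, mul_assoc (D * d * u), pn hI, mul_assoc (d * D * u), nn hI, mul_assoc (zz D d * u),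
      zn hI]
    simp only [mul_zero, zero_add, add_zero, hM₀]
  have hM : M₀ ^ (n + 1) = 0 := by
    rw [← hl', (show Commute (d * D) S₀ from hl'.trans hr'.symm).mul_pow, pow_succ S₀ n, hnil, zero_mul, mul_zero]
  have hinj : ∀ x : M, M₀ (d x) = 0 → d x = 0 := by
    intro x hx
    have hv : d x = d ((D * d) x) := by
      rw [← Module.End.mul_apply, ← mul_assoc, hI.cac]
    have h0 : (d * (u * D * u) * d) ((D * d) x) = 0 := by
      rw [show d * (u * D * u) * d = d * u * D * M₀ * d by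
        rw [hM₀, show d * u * D * (d * D * u * (d * D)) * d = d * u * (D * d * D) * u * (d * D * d) by
          simp only [mul_assoc], hI.aca, hI.cac]
        simp only [mul_assoc]]
      simp only [Module.End.mul_apply] at hx ⊢
      rw [show d (D (d x)) = d x from (congrArg (fun f : End' => f x) hI.cac), hx, map_zero, map_zero, map_zero]
    simp only [Module.End.mul_apply] at h0
    rw [show d (D (d x)) = d x from (congrArg (fun f : End' => f x) hI.cac)] at h0
    set w := (u * D * u) (d x) with hw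
    have h1 : w ∈ LinearMap.ker D₁ := kd ▸ LinearMap.mem_ker.mpr h0
    have hw0 : w = 0 := by
      have h := congrArg (fun f : End' => f (d x)) hI₁.aca
      simp only [Module.End.mul_apply] at h
      rw [hw, Module.End.mul_apply, Module.End.mul_apply] at h1 ⊢
      rw [← h, LinearMap.mem_ker.mp h1, map_zero, map_zero, map_zero]
    obtain ⟨y, hy'⟩ : d x ∈ LinearMap.range D₁ := rd ▸ ⟨x, rfl⟩
    have h := congrArg (fun f : End' => f y) hI₁.cac
    rw [← hy'] at hw ⊢
    simp only [Module.End.mul_apply] at h hw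
    rw [← h, ← hw, hw0, map_zero]
  have hrange : ∀ v, ∃ z, M₀ v = d z := fun v => ⟨(D * u * (d * D)) v, by
    rw [← Module.End.mul_apply, hM₀]; simp only [mul_assoc]⟩
  have hiter : ∀ m x, (M₀ ^ m) (d x) = 0 → d x = 0 := by
    intro m
    induction m with
    | zero => intro x hx; simpa using hx
    | succ m ih =>
      intro x hx
      obtain ⟨z, hz⟩ := hrange (d x)
      rw [pow_succ, Module.End.mul_apply, hz] at hx
      exact hinj x (hz.trans (ih z hx))
  exact md.ne (LinearMap.ext fun x => hiter (n + 1) x (by rw [hM]; rfl))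

/-- weight one -/
theorem one_main (hu : Fam H u) (hy : InAll p Γ G (xu u hu.sq)) (hau : a * u = u * a) (hcu : c * u = u * c)
    {D : End'} (hD : MinEl H D) (hDA : rootOf hD ∈ part H A₀) (hp : Pure a c D) (hDuD : D * u * D = 0)
    (hne : u * D * u ≠ 0) : False := by
  obtain ⟨hW, hWL⟩ := C.lw_L hu hD.sq (C.xu_mem_L hD hDA) hDuD
  have mW := minEl_uru hD hW (C.L_leH hWL) hne
  obtain ⟨D₁, hD₁, hI₁, hp₁, hD₁A⟩ := C.pure_opposite mW (C.part_of_mem mW hWL) (pure_uru hau hcu hp)
  set y := xu u hu.sq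
  have hya : cj y a = a := cj_xu_fix hu.sq hau
  have hyc : cj y c = c := cj_xu_fix hu.sq hcu
  have hD' : MinEl H (cj y D) := hD.conj hu.xu_mem_one
  have hD'A : rootOf hD' ∈ part H A₀ := by
    refine C.part_of_mem hD' ?_
    rw [← conj_xu hD.sq]
    exact (mem_normalizer_iff.mp (C.quad_norm hu).1 _).mp (C.xu_mem_L hD hDA)
  have hval : cj y D = D + (u * D - D * u) - u * D * u := conj_one_add hu.sq
  have huu : u * u = 0 := hu.sq
  have hW1 : u * cj y D = u * D - u * D * u := by
    rw [hval, show u * (D + (u * D - D * u) - u * D * u) = u * D + (u * u) * D - u * D * u - (u * u) * (D * u) by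
      noncomm_ring, huu]
    simp
  have hW2 : cj y D * u = D * u + u * D * u := by
    rw [hval, show (D + (u * D - D * u) - u * D * u) * u = D * u + u * D * u - D * (u * u) - u * D * (u * u) by
      noncomm_ring, huu]
    simp
  by_cases hn : IsNilpotent (D * D₁)
  swap
  · exact C.split_case hu hy hau hcu hD hD₁ hDA hp hp₁ hDuD hI₁ hn
  by_cases hn' : IsNilpotent (cj y D * D₁)
  swap
  · refine C.split_case hu hy hau hcu hD' hD₁ hD'A (pure_cj hya hyc hp) hp₁ ?_ ?_ hn'
    · rw [hW2, add_mul, mul_assoc D u (cj y D), mul_assoc (u * D) u (cj y D), hW1, mul_sub, mul_sub, ← mul_assoc,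
        ← mul_assoc, ← mul_assoc, ← mul_assoc, hDuD]
      rw [show u * D * u * D = u * (D * u * D) by simp only [mul_assoc],
        show u * D * (u * D * u) = u * (D * u * D) * u by simp only [mul_assoc], hDuD]
      simp
    · rw [hW1, sub_mul, mul_assoc (u * D) u u, huu, mul_zero, sub_zero]
      exact hI₁
  obtain ⟨l, hl⟩ := exists_lam C.hp5
  have kill : ∀ {E : End'} (hE : MinEl H E), rootOf hE ∈ part H A₀ → Pure a c E → IsNilpotent (E * D₁) →
      u * (E * D₁ - D₁ * E) * u = 0 := by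
    intro E hE hEA hpE hnE
    by_cases hc : E * D₁ = D₁ * E
    · rw [hc, sub_self, mul_zero, zero_mul]
    have P := commPair C.h2 hE hD₁ hnE hc
    obtain ⟨f1, f2⟩ := C.pure_prod hpE hp₁ l
    have hf : cj (tor C.hI l) (E * D₁ - D₁ * E) = E * D₁ - D₁ * E := by rw [cj_sub, f1, f2]
    refine C.zero_kills hu hy hau hcu P.minX (C.part_of_mem P.minX ?_) (C.commute_of_fixed P.minX hl hf)
      (C.commute_of_fixed' P.minX hl hf)
    rw [← C.xu_of_comm hE.sq hD₁.sq P.aba P.bab P.minX.sq]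
    exact mul_mem (mul_mem (mul_mem (C.xu_mem_L hE hEA) (C.xu_mem_L hD₁ hD₁A)) (inv_mem (C.xu_mem_L hE hEA)))
      (inv_mem (C.xu_mem_L hD₁ hD₁A))
  have k1 := kill hD hDA hp hn
  have k2 := kill hD' hD'A (pure_cj hya hyc hp) hn'
  rw [mul_sub, sub_mul, sub_eq_zero] at k1
  rw [mul_sub, sub_mul, ← mul_assoc, hW1, ← mul_assoc u D₁, mul_assoc (u * D₁) (cj y D) u, hW2, sub_mul, sub_mul,
    mul_add, ← mul_assoc, ← mul_assoc u D D₁ |>.symm] at k2
  have k3 : u * D * u * D₁ * u = -(u * D₁ * (u * D * u)) := by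
    simp only [mul_assoc] at k1 k2 ⊢
    rw [k1] at k2
    linear_combination (norm := abel) -k2
  have k4 : u * D * u * D₁ * (u * D * u) = 0 := by
    rw [show u * D * u * D₁ * (u * D * u) = u * D * u * D₁ * u * (D * u) by simp only [mul_assoc], k3,
      show -(u * D₁ * (u * D * u)) * (D * u) = -(u * D₁ * (u * (D * u * D) * u)) by simp only [mul_assoc, neg_mul],
      hDuD]
    simp
  exact hne (hI₁.aca.symm.trans k4)

theorem one_case (hu : Fam H u) (hy : InAll p Γ G (xu u hu.sq)) (hau : a * u = u * a) (hcu : c * u = u * c)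
    {X g : End'} (hX : MinEl H X) (hXA : rootOf hX ∈ part H A₀) (hp : Pure a c X) (hXg : X = u * g * u) :
    False := by
  obtain ⟨D, hD, hI, hDp, hDA⟩ := C.pure_opposite hX hXA hp
  have hne : u * D * u ≠ 0 := fun h0 => hX.ne (by
    rw [← hI.aca, hXg, show u * g * u * D * (u * g * u) = u * g * (u * D * u) * g * u by simp only [mul_assoc], h0]
    simp)
  have hDuD := C.swap.root_sandwich hu hy hD hDA (hDp.1.trans hDp.2.1.symm)
  obtain ⟨hW, hWL⟩ := C.lw_L hu hD.sq (C.xu_mem_L hD hDA) hDuD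
  have mW := minEl_uru hD hW (C.L_leH hWL) hne
  obtain ⟨D', hD', hI', hD'p, hD'A⟩ := C.swap.pure_opposite mW (C.part_of_mem mW hWL) (pure_uru hcu hau hDp)
  refine C.one_main hu hy hau hcu hD' hD'A hD'p (C.root_sandwich hu hy hD' hD'A (hD'p.1.trans hD'p.2.1.symm))
    fun h0 => mW.ne ?_
  rw [← hI'.aca, show u * D * u * D' * (u * D * u) = u * D * (u * D' * u) * D * u by simp only [mul_assoc], h0]
  simp

/-- **stage B** -/
theorem sandwiched (hu : Fam H u) (hy : InAll p Γ G (xu u hu.sq)) {r : End'} (hr : MinEl H r)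
    (hrA : rootOf hr ∈ part H A₀) : r * u * r = 0 := by
  by_contra hne
  have hau := C.commute_left hu hy
  have hcu := C.swap.commute_left hu hy
  have hn : ¬ IsNilpotent (r * u) := fun hn => hne (sandwich C.h2 hr hu hn)
  obtain ⟨w, hw, hnw, g, hwe⟩ := split_form C.h2 C.h3 hr hu hn
  have hwA : rootOf hw ∈ part H A₀ := part_pair_mem hrA (rootOf_mem hw) (rank_one_pair C.h2 C.h3 hr hw hnw)
  have hua : u * a * u = 0 := by rw [mul_assoc, hau, ← mul_assoc, hu.sq, zero_mul]
  have huc : u * c * u = 0 := by rw [mul_assoc, hcu, ← mul_assoc, hu.sq, zero_mul]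
  obtain ⟨X, hX, hXA, hXa, g', hXg⟩ : ∃ (X : End') (hX : MinEl H X),
      rootOf hX ∈ part H A₀ ∧ a * X = X * a ∧ ∃ g', X = u * g' * u := by
    by_cases hc : a * w = w * a
    · exact ⟨w, hw, hwA, hc, g, hwe⟩
    have hnA : IsNilpotent (a * w) := ⟨2, by
      rw [pow_two, hwe, show a * (u * g * u) * (a * (u * g * u)) = a * u * g * (u * a * u) * g * u by simp only [mul_assoc],
        hua]
      simp⟩
    have P := commPair C.h2 C.ha hw hnA hc
    refine ⟨_, P.minX, C.part_of_mem P.minX ?_, ?_, a * g - g * a, ?_⟩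
    · rw [← C.xu_of_comm C.hI.aa hw.sq P.aba P.bab P.minX.sq]
      exact mul_mem (mul_mem (mul_mem C.aL (C.xu_mem_L hw hwA)) (inv_mem C.aL)) (inv_mem (C.xu_mem_L hw hwA))
    · exact (P.zero C.ha.sq hw.sq).2.1.trans (P.zero C.ha.sq hw.sq).1.symm
    · have e1 : a * (u * g * u) = u * (a * g) * u := by
        rw [← mul_assoc, ← mul_assoc, hau]; simp only [mul_assoc]
      have e2 : u * g * u * a = u * (g * a) * u := by
        rw [mul_assoc (u * g) u a, ← hau]; simp only [mul_assoc]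
      rw [hwe, e1, e2, mul_sub, sub_mul]
  have hnX : IsNilpotent (c * X) := ⟨2, by
    rw [pow_two, hXg, show c * (u * g' * u) * (c * (u * g' * u)) = c * u * g' * (u * c * u) * g' * u by simp only [mul_assoc],
      huc]
    simp⟩
  by_cases hc : c * X = X * c
  · obtain ⟨r₁, hr₁, hI, h1, h2, hA⟩ := C.zero_opposite hX hXA hXa hc
    have := C.zero_kills hu hy hau hcu hr₁ hA h1 h2
    exact hX.ne (by
      rw [← hI.aca, hXg, show u * g' * u * r₁ * (u * g' * u) = u * g' * (u * r₁ * u) * g' * u by simp only [mul_assoc],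
        this]
      simp)
  have P := commPair C.h2 C.hc hX hnX hc
  refine C.swap.one_case hu hy hcu hau P.minX (C.part_of_mem P.minX ?_) ⟨?_, ?_, ?_, ?_⟩
    (g := c * g' - g' * c) ?_
  · rw [← C.xu_of_comm C.hI.cc hX.sq P.aba P.bab P.minX.sq]
    exact mul_mem (mul_mem (mul_mem C.cL (C.xu_mem_L hX hXA)) (inv_mem C.cL)) (inv_mem (C.xu_mem_L hX hXA))
  · exact (P.zero C.hc.sq hX.sq).2.1
  · exact (P.zero C.hc.sq hX.sq).1
  · rw [zz_swap, mul_sub, sub_mul, ← mul_assoc, zc C.hI, zero_mul, zero_mul, ← mul_assoc, mul_assoc _ c (zz a c),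
      cz C.hI, mul_zero, sub_zero]
  · have e1 : a * (c * X) * a = a * X := by
      rw [show a * (c * X) * a = a * c * (X * a) by simp only [mul_assoc], ← hXa, ← mul_assoc, C.hI.aca]
    have e2 : a * (X * c) * a = X * a := by
      rw [← mul_assoc a X c, hXa, mul_assoc (X * a) c a, mul_assoc X a (c * a), ← mul_assoc a c a, C.hI.aca]
    rw [mul_sub, sub_mul, e1, e2, hXa, sub_self]
  · have e1 : c * (u * g' * u) = u * (c * g') * u := by
      rw [← mul_assoc, ← mul_assoc, hcu]; simp only [mul_assoc]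
    have e2 : u * g' * u * c = u * (g' * c) * u := by
      rw [mul_assoc (u * g') u c, ← hcu]; simp only [mul_assoc]
    rw [hXg, e1, e2, mul_sub, sub_mul]

end Ctx

end Cfsg.Lib.CapSylow
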